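import Cfsg.Agent.MTwelve.DegreeElevenMain
import Cfsg.Agent.MTwelve.SylowEleven
import Cfsg.Agent.H424.DegTools

/-!
# Degrees of irreducible characters of the Mathieu group of degree 12 (helper417)

`exists_33`, `exists_55` : a simple group of order 95040 has irreducible characters of degrees divisible
by 33 and by 55 (with the numerical data of `MTwelve.DegreeEleven.Ctx`).
-/

set_option autoImplicit false
set_option linter.unusedSectionVars false

open scoped ComplexConjugate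
open Cfsg

namespace Cfsg.Agent.H417.DegMTwelve

open Subgroup
open Cfsg.Agent.Characters
open Cfsg.Agent.SmallSimple
open Cfsg.Agent.SmallSimple.PrimeLocal
open Cfsg.Agent.MTwelve
open Cfsg.Agent.MTwelve.BlockData
open Cfsg.Agent.MTwelve.FiveBlock
open Cfsg.Agent.MTwelve.FiveLocal
open Cfsg.Agent.MTwelve.DegreeEleven
open Cfsg.Agent.MTwelve.DegreeElevenMain
open Cfsg.Agent.MTwelve.Assembly5

universe u

variable {G : Type u} [Group G]

/-- The numerical data exist. -/
theorem exists_ctx [Fintype G] [Fintype (IrrCharacter G)] [IsSimpleGroup G] (hc : Nat.card G = 95040)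
    (h11 : ∀ P : Sylow 11 G, centralizer (P : Set G) = (P : Subgroup G))
    (hN : ∀ P : Sylow 11 G, Nat.card (normalizer (P : Set G)) = 55) :
    ∃ (C : Ctx (IrrCharacter G)) (t : G), C.deg = deg ∧ C.o = triv G ∧ t ^ 2 = 1 ∧ t ≠ 1 ∧
      ∀ ψ : IrrCharacter G, (ψ : G → ℂ) t = C.s ψ := by
  classical
  have hf11 : Fact (Nat.Prime 11) := ⟨by norm_num⟩
  have hf5 : Fact (Nat.Prime 5) := ⟨by norm_num⟩
  have hG : commutator G = ⊤ := SmallDegree.commutator_eq_top_of_card (by rw [hc]; norm_num)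
  obtain ⟨R⟩ : Nonempty (Sylow 11 G) := inferInstance
  obtain ⟨Q, hQR⟩ := exists_sylow_five hc R (hN R)
  have hR := card_eleven hc R
  have hQ := card_five hc Q
  obtain ⟨B, B5, K, χ, z, hloc, hK, hM⟩ := Final.family hc h11 R (hN R) Q
  have h0 : B.ε (χ 0) * (deg (χ 0) : ℤ) = -120 := hM.deg 0
  have h1 : B.ε (χ 1) * (deg (χ 1) : ℤ) = -54 := hM.deg 1
  have h2 : B.ε (χ 2) * (deg (χ 2) : ℤ) = 45 := hM.deg 2
  have h3 : B.ε (χ 3) * (deg (χ 3) : ℤ) = 144 := hM.deg 3
  have hmem : ∀ i, χ i ∈ B.NE := fun i => (hM.mem _).2 (Or.inr ⟨i, rfl⟩)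
  have d120 : deg (χ 0) = 120 := by
    rcases B.ε_eq (χ 0) (hmem 0) with h | h <;> rw [h] at h0 <;> omega
  have hε1 : B.ε (χ 1) = -1 := by
    rcases B.ε_eq (χ 1) (hmem 1) with h | h
    · rw [h] at h1; omega
    · exact h
  have d54 : deg (χ 1) = 54 := by rw [hε1] at h1; omega
  have d45 : deg (χ 2) = 45 := by
    rcases B.ε_eq (χ 2) (hmem 2) with h | h <;> rw [h] at h2 <;> omega
  have d144 : deg (χ 3) = 144 := by
    rcases B.ε_eq (χ 3) (hmem 3) with h | h <;> rw [h] at h3 <;> omega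
  have hone11 : ¬ 11 ∣ orderOf (1 : G) := by rw [orderOf_one]; norm_num
  have hone5 : ¬ 5 ∣ orderOf (1 : G) := by rw [orderOf_one]; norm_num
  -- the exceptional characters
  have dX : ∀ Θ ∈ B.X, deg Θ = 16 := by
    intro Θ hΘ
    have h4 := hM.theta_deg hc hΘ
    have h6 : (1 : ℤ) + ![-120, -54, 45, 144] 0 + ![-120, -54, 45, 144] 1 +
      ![-120, -54, 45, 144] 2 + ![-120, -54, 45, 144] 3 = 16 := by
      show (1 : ℤ) + -120 + -54 + 45 + 144 = 16
      norm_num
    rw [h6] at h4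
    rcases B.d_eq with h | h <;> rw [h] at h4 <;> omega
  obtain ⟨th, th', hne, hX⟩ := Finset.card_eq_two.1 B.card_X
  have hthX : th ∈ B.X := by rw [hX]; simp
  have hthX' : th' ∈ B.X := by rw [hX]; simp
  -- an element of order eleven
  have hnt : Nontrivial (R : Subgroup G) := by
    rw [← Finite.one_lt_card_iff_nontrivial, hR]; norm_num
  obtain ⟨x, hx1⟩ := exists_ne (1 : (R : Subgroup G))
  have hx1' : (x : G) ≠ 1 := fun h => hx1 (Subtype.ext h)
  have hinv : ¬ IsConj (x : G) (x : G)⁻¹ := by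
    intro h
    obtain ⟨u, hu⟩ := isConj_iff.1 h
    exact InvolColumn.conj_ne_inv_of_odd (Final.relIndex_eleven hc h11 R (hN R)) (by decide)
      (InvolColumn.zpowers_eq_of_card_prime (by norm_num) hR) (by rw [hR]; decide) x.2 hx1' u hu
  -- |K| = 2
  have h3K : ¬ 3 ∣ Nat.card K := by
    refine not_three_dvd hc (R : Subgroup G) hR (h11 R) Q hQR hloc (χ 1).2
      (by rw [apply_one, d54]; norm_num) ?_
    intro x hx hx1
    have h4 := B.apply_NE (χ 1) (hmem 1) x hx hx1 1 (one_mem _) hone11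
    rw [mul_one, hε1] at h4
    rw [h4]
    norm_num
  have hK2 : Nat.card K = 2 := by
    rcases hK with h | h | h
    · exact h
    · rw [h] at h3K; norm_num at h3K
    · rw [h] at h3K; norm_num at h3K
  -- elements of order five and two
  have hnt5 : Nontrivial (Q : Subgroup G) := by
    rw [← Finite.one_lt_card_iff_nontrivial, hQ]; norm_num
  obtain ⟨y, hy1⟩ := exists_ne (1 : (Q : Subgroup G))
  have hy1' : (y : G) ≠ 1 := fun h => hy1 (Subtype.ext h)
  obtain ⟨t, hyt⟩ := exists_yt Q hQ hloc hK2 y.2 hy1'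
  have ht2 : t ^ 2 = 1 := by rw [← hyt.t_ord]; exact pow_orderOf_eq_one t
  have hty5 : ¬ 5 ∣ orderOf t := by rw [hyt.t_ord]; norm_num
  -- the principal 5-block
  have hpool := FiveBlock.deg_mem_pool hc hR B fun ψ h1 h2 => (hM.rest ψ h1 h2).2
  obtain ⟨c, cinj, cne, -, cval, crel, ccases⟩ := exists_five B5 hQ hpool
  -- the set of all irreducible characters
  have := Core.finite_irr (G := G)
  have hs : ∀ ψ : IrrCharacter G, ∃ s : ℤ, (ψ : G → ℂ) t = s ∧ (4 : ℤ) ∣ deg ψ - s := by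
    intro ψ
    obtain ⟨k, hk⟩ := SmallDegree.character_eq_add_four_mul hG (Core.isIrr_isCharacter ψ.2) ht2
    refine ⟨deg ψ - 4 * k, ?_, ⟨k, by ring⟩⟩
    rw [apply_one] at hk
    push_cast
    rw [hk]
    ring
  choose s hs1 hs2 using hs
  have hvw : ∀ ψ : IrrCharacter G, ∃ v w : ℤ, (ψ : G → ℂ) y = v ∧ (ψ : G → ℂ) (y * t) = w ∧
      (5 : ℤ) ∣ deg ψ - v ∧ (5 : ℤ) ∣ s ψ - w := fun ψ =>
    hyt.exists_int (Core.isIrr_isCharacter ψ.2) (by rw [apply_one]; norm_cast) (hs1 ψ)
  choose v w hv1 hw1 hv5 hw5 using hvw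
  have hν : ∀ ψ : IrrCharacter G, ∃ n : ℤ, (n = 0 ∨ n = 1 ∨ n = -1) ∧
      (Nat.card G : ℂ)⁻¹ * ∑ s : G, (ψ : G → ℂ) (s * s) = n ∧
      (n = 0 ↔ ∃ g, ((ψ : G → ℂ) g).im ≠ 0) := fun ψ =>
    CharactersDeep.FeitOddAux.exists_indicator ψ.2
  choose ν hν1 hν2 hν3 using hν
  have hdeg1 : ∀ ψ : IrrCharacter G, (ψ : G → ℂ) 1 = ((deg ψ : ℤ) : ℂ) := fun ψ => by
    rw [apply_one]; norm_cast
  have hndvd : ∀ a b : G, orderOf a ≠ orderOf b → ¬ IsConj a b := by
    intro a b hab h
    obtain ⟨g, rfl⟩ := isConj_iff.1 h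
    apply hab
    rw [← MulAut.conj_apply]
    exact (orderOf_injective (MulAut.conj g).toMonoidHom (MulAut.conj g).injective a).symm
  have hyto : orderOf ((y : G) * t) = 10 := by
    rw [(show Commute (y : G) t from hyt.comm).orderOf_mul_eq_mul_orderOf_of_coprime
      (by rw [hyt.y_ord, hyt.t_ord]; norm_num), hyt.y_ord, hyt.t_ord]
  -- the numerical data
  let C : Ctx (IrrCharacter G) :=
    { deg := deg
      v := v
      w := w
      s := s
      ν := ν
      cj := fun ψ => ⟨fun g => conj ((ψ : G → ℂ) g), Core.isIrr_conj ψ.2⟩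
      o := triv G
      c45 := χ 2
      c54 := χ 1
      c120 := χ 0
      c144 := χ 3
      th := th
      th' := th'
      c := c
      deg_o := deg_triv
      hpool := hpool
      d45 := d45
      d54 := d54
      d120 := d120
      d144 := d144
      dth := dX _ hthX
      dth' := dX _ hthX'
      th_ne := hne
      rest := by
        intro ψ
        by_cases h4 : ψ ∈ B.NE
        · rcases (hM.mem ψ).1 h4 with h5 | ⟨i, h5⟩
          · exact Or.inl h5
          · subst h5
            fin_cases i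
            · exact Or.inr (Or.inr (Or.inr (Or.inl rfl)))
            · exact Or.inr (Or.inr (Or.inl rfl))
            · exact Or.inr (Or.inl rfl)
            · exact Or.inr (Or.inr (Or.inr (Or.inr (Or.inl rfl))))
        · by_cases h5 : ψ ∈ B.X
          · rw [hX, Finset.mem_insert, Finset.mem_singleton] at h5
            rcases h5 with h5 | h5
            · exact Or.inr (Or.inr (Or.inr (Or.inr (Or.inr (Or.inl h5)))))
            · exact Or.inr (Or.inr (Or.inr (Or.inr (Or.inr (Or.inr (Or.inl h5))))))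
          · exact Or.inr (Or.inr (Or.inr (Or.inr (Or.inr (Or.inr (Or.inr
              (hM.rest ψ h4 h5).2))))))
      v_o := by
        have h4 := hv1 (triv G)
        rw [triv_apply] at h4
        exact_mod_cast h4.symm
      w_o := by
        have h4 := hw1 (triv G)
        rw [triv_apply] at h4
        exact_mod_cast h4.symm
      s_o := by
        have h4 := hs1 (triv G)
        rw [triv_apply] at h4
        exact_mod_cast h4.symm
      dvd_v := hv5
      dvd_w := hw5
      dvd_s := hs2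
      sum_dd := by
        have h4 := sum_deg_sq (G := G)
        rw [hc] at h4
        have h5 : ((∑ ψ : IrrCharacter G, deg ψ ^ 2 : ℕ) : ℤ) = 95040 := by rw [h4]; rfl
        rw [← h5]
        push_cast
        exact Finset.sum_congr rfl fun ψ _ => by ring
      sum_vv := by
        rw [sum_mul_of_isConj hv1 hv1 (IsConj.refl _), hyt.card_cy]
        rfl
      sum_ww := by
        rw [sum_mul_of_isConj hw1 hw1 (IsConj.refl _), hyt.card_cyt]
        rfl
      sum_vw := sum_mul_of_not_isConj hv1 hw1 (hndvd _ _ (by rw [hyt.y_ord, hyto]; norm_num))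
      sum_vd := sum_mul_of_not_isConj hv1 hdeg1
        (hndvd _ _ (by rw [hyt.y_ord, orderOf_one]; norm_num))
      sum_vs := sum_mul_of_not_isConj hv1 hs1
        (hndvd _ _ (by rw [hyt.y_ord, hyt.t_ord]; norm_num))
      col := by
        rcases column_cases hc h11 hM hyt with ⟨h4, h5, h6, h7⟩ | h4
        · left
          refine ⟨?_, ?_, ?_, ?_⟩
          · have h8 := hs1 (χ 1)
            rw [h6] at h8
            exact_mod_cast h8.symm
          · have h8 := hs1 (χ 3)
            rcases h7 with h7 | h7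
            · left
              rw [h7] at h8
              exact_mod_cast h8.symm
            · right
              rw [h7] at h8
              exact_mod_cast h8.symm
          · rw [sum_mul_of_isConj hs1 hs1 (IsConj.refl _)]
            exact_mod_cast h4
          · rw [sum_indicator hν2]
            have h8 := card_sq_roots hc hyt.t_ord hM.order h4 (by rw [hM.card]) h5
            exact_mod_cast h8
        · right
          have h8 := hs1 th
          rw [h4 th hthX] at h8
          exact_mod_cast h8.symm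
      c_inj := cinj
      c_ne := cne
      c_v := by
        intro i
        have h4 := cval i y y.2 hy1' 1 (one_mem _) hone5
        rw [mul_one, hv1] at h4
        exact_mod_cast h4
      c_w := by
        intro i
        have h4 := cval i y y.2 hy1' t hyt.t_mem hty5
        rw [hw1] at h4
        exact_mod_cast h4
      rel_d := by
        have h4 := crel 1 hone5
        rw [Finset.sum_congr rfl fun i _ => by rw [hdeg1 (c i)]] at h4
        exact_mod_cast h4
      rel_s := by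
        have h4 := crel t hty5
        rw [Finset.sum_congr rfl fun i _ => by rw [hs1 (c i)]] at h4
        exact_mod_cast h4
      cases := ccases
      cj_deg := by
        intro ψ
        apply deg_eq_of
        show conj ((ψ : G → ℂ) 1) = _
        rw [apply_one, Complex.conj_natCast]
      cj_v := by
        intro ψ
        have h4 := hv1 ⟨fun g => conj ((ψ : G → ℂ) g), Core.isIrr_conj ψ.2⟩
        change conj ((ψ : G → ℂ) y) = _ at h4
        rw [hv1, map_intCast] at h4
        exact_mod_cast h4.symm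
      cj_w := by
        intro ψ
        have h4 := hw1 ⟨fun g => conj ((ψ : G → ℂ) g), Core.isIrr_conj ψ.2⟩
        change conj ((ψ : G → ℂ) (y * t)) = _ at h4
        rw [hw1, map_intCast] at h4
        exact_mod_cast h4.symm
      ν_le := by
        intro ψ
        rcases hν1 ψ with h | h | h <;> rw [h] <;> norm_num
      ν_th := (hν3 th).2 ⟨x, exc_im_ne B (fun ψ h4 h5 => (hM.rest ψ h4 h5).1) x.2 hx1' hinv hthX⟩
      ν_th' := (hν3 th').2
        ⟨x, exc_im_ne B (fun ψ h4 h5 => (hM.rest ψ h4 h5).1) x.2 hx1' hinv hthX'⟩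
      ν_cj := by
        intro ψ hψ
        rw [hν3]
        by_contra h4
        push Not at h4
        apply hψ
        apply Subtype.ext
        funext g
        exact Complex.conj_eq_iff_im.2 (h4 g) }
  refine ⟨C, t, rfl, rfl, ht2, ?_, hs1⟩
  intro h
  have := hyt.t_ord
  rw [h, orderOf_one] at this
  norm_num at this

/-- A degree divisible by 55. -/
theorem ctx_55 {I : Type u} [Fintype I] [DecidableEq I] (C : Ctx I) : ∃ i, 55 ∣ C.deg i := by
  by_contra hno
  push Not at hno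
  have hdd := C.sum_dd
  have key : ∀ {a : ℤ}, a ≤ ∑ i, -((C.deg i : ℤ) * C.deg i) → a ≤ -95040 := by
    intro a ha
    rw [Finset.sum_neg_distrib, hdd] at ha
    exact ha
  rcases C.cases with ⟨h0, h1, h2, h3⟩ | ⟨h0, h1, h2, h3⟩ | ⟨h0, h1, h2, h3⟩ |
    ⟨h0, h1, h2, h3⟩ | ⟨h0, h1, h2, h3⟩
  · have h01 : C.c 1 ≠ C.c 2 := fun h => absurd (C.c_inj h) (by decide)
    have hth : C.th ∈ C.S ∧ C.th' ∈ C.S := by
      rcases C.eq_th h1 with a0 | a0 <;> rcases C.eq_th h2 with a1 | a1
      · exact absurd (a0.trans a1.symm) h01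
      · exact ⟨C.mem_S.2 (Or.inr ⟨1, a0⟩), C.mem_S.2 (Or.inr ⟨2, a1⟩)⟩
      · exact ⟨C.mem_S.2 (Or.inr ⟨2, a1⟩), C.mem_S.2 (Or.inr ⟨1, a0⟩)⟩
      · exact absurd (a0.trans a1.symm) h01
    obtain ⟨r, hrinj, hcases, hrv, hrw, hrs, hsum⟩ := C.caseB hth.1 hth.2 (by
      intro j
      fin_cases j <;> simp only [Fin.zero_eta, Fin.mk_one, Fin.reduceFinMk] <;> omega)
    have hF := key (hsum (fun i => -((C.deg i : ℤ) * C.deg i)) (fun i hi => absurd hi (hno i)))
    rw [Fin.sum_univ_four, h0, h1, h2, h3, C.deg_o, C.d45, C.d54, C.d120, C.d144] at hF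
    rcases hcases with ⟨a0, a1, a2⟩ | ⟨a0, a1, a2⟩ | ⟨a0, a1, a2⟩ <;> rw [a0, a1, a2] at hF <;>
      norm_num at hF
  · obtain ⟨a, b, hab, hcases, hsum⟩ := C.caseA (C.mem_S.2 (Or.inr ⟨2, C.eq_c144 h2⟩)) (by
      intro j
      fin_cases j <;> simp only [Fin.zero_eta, Fin.mk_one, Fin.reduceFinMk] <;> omega)
    have hF := key (hsum (fun i => -((C.deg i : ℤ) * C.deg i)) (fun i hi => absurd hi (hno i)))
    rw [Fin.sum_univ_four, h0, h1, h2, h3, C.deg_o, C.d45, C.d54, C.d120, C.dth, C.dth'] at hF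
    rcases hcases with ⟨a0, a1⟩ | ⟨a0, a1⟩ <;> rw [a0, a1] at hF <;> norm_num at hF
  · obtain ⟨a, b, hab, hcases, hsum⟩ := C.caseA (C.mem_S.2 (Or.inr ⟨3, C.eq_c144 h3⟩)) (by
      intro j
      fin_cases j <;> simp only [Fin.zero_eta, Fin.mk_one, Fin.reduceFinMk] <;> omega)
    have hF := key (hsum (fun i => -((C.deg i : ℤ) * C.deg i)) (fun i hi => absurd hi (hno i)))
    rw [Fin.sum_univ_four, h0, h1, h2, h3, C.deg_o, C.d45, C.d54, C.d120, C.dth, C.dth'] at hF
    rcases hcases with ⟨a0, a1⟩ | ⟨a0, a1⟩ <;> rw [a0, a1] at hF <;> norm_num at hF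
  · have h01 : C.c 0 ≠ C.c 1 := fun h => absurd (C.c_inj h) (by decide)
    have hth : C.th ∈ C.S ∧ C.th' ∈ C.S := by
      rcases C.eq_th h0 with a0 | a0 <;> rcases C.eq_th h1 with a1 | a1
      · exact absurd (a0.trans a1.symm) h01
      · exact ⟨C.mem_S.2 (Or.inr ⟨0, a0⟩), C.mem_S.2 (Or.inr ⟨1, a1⟩)⟩
      · exact ⟨C.mem_S.2 (Or.inr ⟨1, a1⟩), C.mem_S.2 (Or.inr ⟨0, a0⟩)⟩
      · exact absurd (a0.trans a1.symm) h01
    obtain ⟨r, hrinj, hcases, hrv, hrw, hrs, hsum⟩ := C.caseB hth.1 hth.2 (by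
      intro j
      fin_cases j <;> simp only [Fin.zero_eta, Fin.mk_one, Fin.reduceFinMk] <;> omega)
    have hF := key (hsum (fun i => -((C.deg i : ℤ) * C.deg i)) (fun i hi => absurd hi (hno i)))
    rw [Fin.sum_univ_four, h0, h1, h2, h3, C.deg_o, C.d45, C.d54, C.d120, C.d144] at hF
    rcases hcases with ⟨a0, a1, a2⟩ | ⟨a0, a1, a2⟩ | ⟨a0, a1, a2⟩ <;> rw [a0, a1, a2] at hF <;>
      norm_num at hF
  · obtain ⟨a, b, hab, hcases, hsum⟩ := C.caseA (C.mem_S.2 (Or.inr ⟨2, C.eq_c144 h2⟩)) (by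
      intro j
      fin_cases j <;> simp only [Fin.zero_eta, Fin.mk_one, Fin.reduceFinMk] <;> omega)
    have hF := key (hsum (fun i => -((C.deg i : ℤ) * C.deg i)) (fun i hi => absurd hi (hno i)))
    rw [Fin.sum_univ_four, h0, h1, h2, h3, C.deg_o, C.d45, C.d54, C.d120, C.dth, C.dth'] at hF
    rcases hcases with ⟨a0, a1⟩ | ⟨a0, a1⟩ <;> rw [a0, a1] at hF <;> norm_num at hF

/-- A degree divisible by 33. -/
theorem ctx_33 {I : Type u} [Fintype I] [DecidableEq I] (C : Ctx I)
    (hlt : ∀ i, i ≠ C.o → C.s i < C.deg i) : ∃ i, 33 ∣ C.deg i := by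
  have hs : ∀ j : Fin 4, (5 : ℤ) ∣ C.s (C.c j) - sgn (C.deg (C.c j)) ∧
      (4 : ℤ) ∣ C.deg (C.c j) - C.s (C.c j) ∧ C.s (C.c j) < C.deg (C.c j) := by
    intro j
    have h1 := C.dvd_w (C.c j)
    rw [C.c_w] at h1
    exact ⟨h1, C.dvd_s _, hlt _ (C.c_ne j)⟩
  have hle := C.col'.2.2.1
  have hone : ∀ i, C.s i * C.s i ≤ 240 := fun i =>
    le_trans (Finset.single_le_sum (f := fun i => C.s i * C.s i) (fun j _ => mul_self_nonneg _)
      (Finset.mem_univ i)) hle
  have hb : ∀ i, -16 < C.s i ∧ C.s i < 16 := by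
    intro i
    have := hone i
    constructor <;> nlinarith
  have s11 : sgn 11 = 1 := by decide
  have s16 : sgn 16 = 1 := by decide
  have s44 : sgn 44 = -1 := by decide
  have s144 : sgn 144 = -1 := by decide
  have s176 : sgn 176 = 1 := by decide
  have hrel := C.rel_s
  rw [Fin.sum_univ_four] at hrel
  have b0 := hb (C.c 0)
  have b1 := hb (C.c 1)
  have b2 := hb (C.c 2)
  have b3 := hb (C.c 3)
  obtain ⟨m0, n0, k0⟩ := hs 0
  obtain ⟨m1, n1, k1⟩ := hs 1
  obtain ⟨m2, n2, k2⟩ := hs 2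
  obtain ⟨m3, n3, k3⟩ := hs 3
  rcases C.cases with ⟨h0, h1, h2, h3⟩ | ⟨h0, h1, h2, h3⟩ | ⟨h0, h1, h2, h3⟩ |
    ⟨h0, h1, h2, h3⟩ | ⟨h0, h1, h2, h3⟩
  · exfalso
    rw [h0, h1, h2, h3, s11, s16, s44] at hrel
    rw [h0, s11] at m0
    rw [h1, s16] at m1
    rw [h2, s16] at m2
    rw [h3, s44] at m3
    rw [h0] at n0 k0
    rw [h1] at n1 k1
    rw [h2] at n2 k2
    rw [h3] at n3 k3
    push_cast at n0 n1 n2 n3 k0 k1 k2 k3
    omega
  · exfalso
    rw [h0, h1, h2, h3, s11, s144, s44, s176] at hrel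
    rw [h0, s11] at m0
    rw [h1, s44] at m1
    rw [h2, s144] at m2
    rw [h3, s176] at m3
    rw [h0] at n0 k0
    rw [h1] at n1 k1
    rw [h2] at n2 k2
    rw [h3] at n3 k3
    push_cast at n0 n1 n2 n3 k0 k1 k2 k3
    omega
  · exact ⟨_, by rw [h1]; norm_num⟩
  · exact ⟨_, by rw [h2]; norm_num⟩
  · exact ⟨_, by rw [h0]; norm_num⟩

theorem exists_both [Finite G] (hG : Cfsg.IsM12 G) :
    (∃ d ∈ charDegrees G, 55 ∣ d) ∧ ∃ d ∈ charDegrees G, 33 ∣ d := by
  classical
  have hs : IsSimpleGroup G := hG.1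
  have hc : Nat.card G = 95040 := hG.2
  have := Fintype.ofFinite G
  have := Core.finite_irr (G := G)
  have := Fintype.ofFinite (IrrCharacter G)
  obtain ⟨C, t, hdeg, ho, ht2, ht1, hst⟩ := exists_ctx hc
    (fun P => Cfsg.Agent.MTwelve.SylowEleven.centralizer_sylow11 hc P)
    (fun P => Cfsg.Agent.MTwelve.SylowEleven.card_normalizer_sylow11 hc P)
  have hcomm : commutator G = ⊤ := SmallDegree.commutator_eq_top_of_card (by rw [hc]; norm_num)
  have hcd : ∀ ψ : IrrCharacter G, charDegree (ψ : G → ℂ) = C.deg ψ := fun ψ => by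
    rw [hdeg]
    exact ElevenMain.charDegree_eq_deg ψ
  constructor
  · obtain ⟨i, hi⟩ := ctx_55 C
    exact ⟨_, ⟨i, hcd i⟩, hi⟩
  · obtain ⟨i, hi⟩ := ctx_33 C (fun i hi => by
      obtain ⟨n, hn, hn', -⟩ := InvolColumn.exists_int hcomm i.2 (fun h => hi (by
        rw [ho]
        exact Subtype.ext h)) ht2 ht1
      rw [hst, hcd] at *
      have h2 : C.s i = n := by exact_mod_cast hn
      rw [h2]
      exact lt_of_abs_lt hn')
    exact ⟨_, ⟨i, hcd i⟩, hi⟩

end Cfsg.Agent.H417.DegMTwelve
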