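import Cfsg.Agent.H417.Divs
import Cfsg.Agent.H417.JThreeLP

/-!
# The possible rows of the character table of `J₃` (helper417)

`mem_vecs` : the congruences and Bessel's inequality leave the 82 rows of `JThreeLP.vecs`.
-/

set_option autoImplicit false
set_option maxRecDepth 100000

namespace Cfsg.Agent.H417.JThreeEnum

open Cfsg.Agent.H417.Divs Cfsg.Agent.H417.JThreeLP

/-- the possible degrees -/
def degs : List ℤ := [1, 9, 18, 76, 85, 152, 153, 162, 170, 171, 323, 324, 408, 570, 646, 816, 960, 969, 1140, 1215, 1216, 1292, 1368, 1377, 1530, 1539, 1615, 1920, 1938, 2176, 2432, 2584, 2736, 2754, 2907, 3060, 3078, 3230, 3876, 4845, 5168, 5814, 6460]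

/-- the interval `[-n, n]` -/
def sym (n : ℕ) : List ℤ := (List.range (2 * n + 1)).map fun i : ℕ => (i : ℤ) - n

theorem mem_sym {n : ℕ} {x : ℤ} (h1 : -(n : ℤ) ≤ x) (h2 : x ≤ n) : x ∈ sym n := by
  rw [sym, List.mem_map]
  have h3 : ((x + n).toNat : ℤ) = x + n := Int.toNat_of_nonneg (by omega)
  exact ⟨(x + n).toNat, List.mem_range.2 (show (x + n).toNat < 2 * n + 1 by omega), by rw [h3]; ring⟩

theorem mem_degs {d : ℕ} (h : d ∣ 50232960) (h2 : d * d ≤ 50232960)
    (h17 : d % 17 = 0 ∨ d % 17 = 1 ∨ d % 17 = 16 ∨ d % 17 = 8 ∨ d % 17 = 9)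
    (h19 : d % 19 = 0 ∨ d % 19 = 1 ∨ d % 19 = 18 ∨ d % 19 = 9 ∨ d % 19 = 10) : (d : ℤ) ∈ degs := by
  have h1 := all_divs [(2, 7), (3, 5), (5, 1), (17, 1), (19, 1)] (by decide) (N := 50232960) (by decide)
    (f := fun d => !(decide (d * d ≤ 50232960) &&
      (d % 17 == 0 || d % 17 == 1 || d % 17 == 16 || d % 17 == 8 || d % 17 == 9) &&
      (d % 19 == 0 || d % 19 == 1 || d % 19 == 18 || d % 19 == 9 || d % 19 == 10)) || degs.contains (d : ℤ))
    (by decide +kernel) h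
  simp only [Bool.or_eq_true, Bool.not_eq_true', List.contains_iff_mem] at h1
  rcases h1 with h1 | h1
  · exfalso
    rw [Bool.and_eq_false_iff, Bool.and_eq_false_iff] at h1
    rcases h1 with (h1 | h1) | h1
    · rw [decide_eq_false_iff_not] at h1
      exact h1 h2
    · simp only [Bool.or_eq_false_iff, beq_eq_false_iff_ne] at h1
      omega
    · simp only [Bool.or_eq_false_iff, beq_eq_false_iff_ne] at h1
      omega
  · exact h1

/-- the degrees compatible with the values at the elements of order 2, 4, 8 -/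
def dl (a b c : ℤ) : List ℤ := degs.filter fun d => (d + 35 * a + 44 * b + 48 * c) % 128 == 0 && !(d == 1)

/-- the search -/
def srch : Bool :=
  (sym 9).all fun b => (sym 2).all fun c => (sym 43).all fun a =>
    !((a - b) % 4 == 0 && (a + b - 2 * c) % 8 == 0) ||
    (dl a b c).all fun d =>
      (sym 4).all fun e => !((a - e) % 3 == 0) ||
      (sym 3).all fun f => !((e - f) % 2 == 0 && (b - f) % 3 == 0) ||
      (sym 4).all fun w => !((a + 2 * w) % 5 == 0) ||
      (sym 1).all fun r => !((r - w) % 2 == 0) ||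
        !(decide (26163 * (a * a + 20 * (b * b) + 80 * (e * e) + 240 * (c * c) + 160 * (f * f) + 96 * (w * w)
          + 480 * (r * r)) + d * d ≤ 50232960)) ||
        vecs.contains [d, a, b, e, c, f, w, r]

theorem srch_true : srch = true := by decide +kernel

theorem sq_le_of {x n : ℤ} (hn : 0 ≤ n) (h : x * x < (n + 1) * (n + 1)) : -n ≤ x ∧ x ≤ n := by
  constructor <;> nlinarith

/-- **the rows** -/
theorem mem_vecs {v : Fin 8 → ℤ} {d : ℕ} (hd : v 0 = d) (h : d ∣ 50232960)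
    (h17 : d % 17 = 0 ∨ d % 17 = 1 ∨ d % 17 = 16 ∨ d % 17 = 8 ∨ d % 17 = 9)
    (h19 : d % 19 = 0 ∨ d % 19 = 1 ∨ d % 19 = 18 ∨ d % 19 = 9 ∨ d % 19 = 10)
    (c1 : (4 : ℤ) ∣ v 1 - v 2) (c2 : (2 : ℤ) ∣ v 3 - v 5) (c3 : (3 : ℤ) ∣ v 1 - v 3)
    (c4 : (8 : ℤ) ∣ v 1 + v 2 - 2 * v 4) (c5 : (3 : ℤ) ∣ v 2 - v 5) (c6 : (5 : ℤ) ∣ v 1 + 2 * v 6)
    (c7 : (2 : ℤ) ∣ v 7 - v 6) (c8 : (128 : ℤ) ∣ v 0 + 35 * v 1 + 44 * v 2 + 48 * v 4)
    (hb : 26163 * (v 1 * v 1 + 20 * (v 2 * v 2) + 80 * (v 3 * v 3) + 240 * (v 4 * v 4) + 160 * (v 5 * v 5)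
      + 96 * (v 6 * v 6) + 480 * (v 7 * v 7)) + v 0 * v 0 ≤ 50232960)
    (hpos : 0 < d) (h1 : d = 1 → v = fn [1, 1, 1, 1, 1, 1, 2, 0]) : ∃ l ∈ vecs, v = fn l := by
  by_cases hd1 : d = 1
  · exact ⟨_, by decide, h1 hd1⟩
  have q1 := mul_self_nonneg (v 1)
  have q2 := mul_self_nonneg (v 2)
  have q3 := mul_self_nonneg (v 3)
  have q4 := mul_self_nonneg (v 4)
  have q5 := mul_self_nonneg (v 5)
  have q6 := mul_self_nonneg (v 6)
  have q7 := mul_self_nonneg (v 7)
  have q0 : 0 < v 0 * v 0 := by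
    rw [hd]
    have : (0 : ℤ) < d := by exact_mod_cast hpos
    positivity
  obtain ⟨a1, a2⟩ := sq_le_of (x := v 1) (n := 43) (by norm_num) (by omega)
  obtain ⟨b1, b2⟩ := sq_le_of (x := v 2) (n := 9) (by norm_num) (by omega)
  obtain ⟨e1, e2⟩ := sq_le_of (x := v 3) (n := 4) (by norm_num) (by omega)
  obtain ⟨i1, i2⟩ := sq_le_of (x := v 4) (n := 2) (by norm_num) (by omega)
  obtain ⟨f1, f2⟩ := sq_le_of (x := v 5) (n := 3) (by norm_num) (by omega)
  obtain ⟨w1, w2⟩ := sq_le_of (x := v 6) (n := 4) (by norm_num) (by omega)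
  obtain ⟨r1, r2⟩ := sq_le_of (x := v 7) (n := 1) (by norm_num) (by omega)
  have hdd : d * d ≤ 50232960 := by
    have : (d : ℤ) * d ≤ 50232960 := by rw [← hd]; omega
    exact_mod_cast this
  have hdeg : v 0 ∈ degs := by rw [hd]; exact mem_degs h hdd h17 h19
  have hs := srch_true
  unfold srch at hs
  have s1 := List.all_eq_true.1 hs (v 2) (mem_sym b1 b2)
  have s2 := List.all_eq_true.1 s1 (v 4) (mem_sym i1 i2)
  have s3 := List.all_eq_true.1 s2 (v 1) (mem_sym a1 a2)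
  rw [Bool.or_eq_true] at s3
  have s4 := s3.resolve_left (by
    rw [Bool.not_eq_true', Bool.and_eq_false_iff]
    simp only [beq_eq_false_iff_ne]
    omega)
  have hmem : v 0 ∈ dl (v 1) (v 2) (v 4) := by
    rw [dl, List.mem_filter]
    refine ⟨hdeg, ?_⟩
    simp only [Bool.and_eq_true, beq_iff_eq, Bool.not_eq_true', beq_eq_false_iff_ne]
    omega
  have s5 := List.all_eq_true.1 s4 (v 0) hmem
  have s6 := List.all_eq_true.1 s5 (v 3) (mem_sym e1 e2)
  rw [Bool.or_eq_true] at s6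
  have s7 := List.all_eq_true.1 (s6.resolve_left (by
    rw [Bool.not_eq_true']
    simp only [beq_eq_false_iff_ne]
    omega)) (v 5) (mem_sym f1 f2)
  rw [Bool.or_eq_true] at s7
  have s8 := List.all_eq_true.1 (s7.resolve_left (by
    rw [Bool.not_eq_true', Bool.and_eq_false_iff]
    simp only [beq_eq_false_iff_ne]
    omega)) (v 6) (mem_sym w1 w2)
  rw [Bool.or_eq_true] at s8
  have s9 := List.all_eq_true.1 (s8.resolve_left (by
    rw [Bool.not_eq_true']
    simp only [beq_eq_false_iff_ne]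
    omega)) (v 7) (mem_sym r1 r2)
  rw [Bool.or_eq_true, Bool.or_eq_true] at s9
  have s10 := s9.resolve_left (by
    rintro (h' | h')
    · rw [Bool.not_eq_true'] at h'
      simp only [beq_eq_false_iff_ne] at h'
      omega
    · rw [Bool.not_eq_true', decide_eq_false_iff_not] at h'
      exact h' (by omega))
  refine ⟨_, List.contains_iff_mem.1 s10, ?_⟩
  funext i
  fin_cases i <;> rfl

end Cfsg.Agent.H417.JThreeEnum
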