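import Cfsg.Agent.S5579
import Cfsg.Agent.H337.JankoOfIso
import Cfsg.Agent.H417.BlockCount
import Cfsg.Agent.H417.JFourList
import Cfsg.Agent.H424.DegTools

/-!
# The largest degree of `J₄` is admissible (helper417)
-/

set_option autoImplicit false

namespace Cfsg.Agent.H417.JFourDeg

open Cfsg Subgroup
open Cfsg.Agent.Characters.Core
open Cfsg.Agent.M23Order.Base
open Cfsg.Agent.H859.BigNum Cfsg.Agent.H858

universe u

theorem card_K : Nat.card Spor.J4 = 86775571046077562880 := H860.PartFiveSeven.card_J4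

theorem isoK : Spor.IsoJ4 Spor.J4 := ⟨MulEquiv.refl _⟩

theorem centralizer_eq {G : Type u} [Group G] (y : G) :
    centralizer ((zpowers y : Subgroup G) : Set G) = centralizer ({y} : Set G) := by
  rw [zpowers_eq_closure, centralizer_closure]

theorem cent_of {p : ℕ} (h : ∀ P : Subgroup Spor.J4, Nat.card P = p → Nat.card (centralizer (P : Set Spor.J4)) = p)
    (y : Spor.J4) (hy : orderOf y = p) : Nat.card (centralizer ({y} : Set Spor.J4)) = p := by
  rw [← centralizer_eq]
  exact h _ (by rw [Nat.card_zpowers, hy])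

/-- **The largest degree.** -/
theorem adm {S : Type u} [Group S] (h : Spor.IsoJ4 S) {b : ℕ} (hb : IsGreatest (charDegrees S) b) :
    29 * 37 ∣ b ∨ 29 * 5 ∣ b ∨ 29 * 7 ∣ b ∨ 37 * (5 * 11 ^ 2) ∣ b ∨ 37 * 11 ^ 3 ∣ b ∨ 29 * (23 * (31 * 43)) ∣ b ∨
      37 * (31 * 43) ∣ b ∨ b = 3781980160 ∨ b = 1981808640 := by
  classical
  obtain ⟨e⟩ := h
  rw [H424.DegTools.charDegrees_congr e] at hb
  have hfin : Finite Spor.J4 := H337.finite_of_isoJ4 isoK
  have hsim : IsSimpleGroup Spor.J4 := (KFacts.J4.Base.exists_full isoK).2.1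
  have hperf : commutator Spor.J4 = ⊤ := MTwelve.SmallDegree.commutator_eq_top_of_card (by rw [card_K]; norm_num)
  have hna : ¬ IsMulCommutative Spor.J4 := by
    intro hc
    have h1 : commutator Spor.J4 = ⊥ := by
      rw [_root_.commutator_def, commutator_eq_bot_iff_le_centralizer]
      intro x _
      rw [mem_centralizer_iff]
      intro y _
      exact hc.is_comm.comm y x
    rw [hperf] at h1
    have h2 : Nat.card (⊤ : Subgroup Spor.J4) = 1 := by rw [h1]; exact Subgroup.card_bot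
    rw [Subgroup.card_top, card_K] at h2
    norm_num at h2
  have h62 := S5579.result hna (H337.isOfJankoFourType_of_isoJ4 isoK)
  have := finite_irr (G := Spor.J4)
  let _ := Fintype.ofFinite (IrrCharacter Spor.J4)
  have hcard : Fintype.card (IrrCharacter Spor.J4) = 62 := by
    rw [← Nat.card_eq_fintype_card, card_irr, h62]
  obtain ⟨⟨χ, hχ⟩, hmax⟩ := hb
  have hχ' : dg χ = b := hχ
  have hle : ∀ ψ : IrrCharacter Spor.J4, dg ψ ≤ b := fun ψ => hmax ⟨ψ, rfl⟩
  -- the sum of the squares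
  have hsum := sum_dg_sq (G := Spor.J4)
  rw [card_K] at hsum
  have h1 : dg (⟨1, isIrr_one⟩ : IrrCharacter Spor.J4) = 1 := dg_of_eq (by simp)
  have hN : 86775571046077562880 ≤ 61 * b ^ 2 + 1 := by
    rw [← hsum, ← Finset.sum_erase_add _ _ (Finset.mem_univ (⟨1, isIrr_one⟩ : IrrCharacter Spor.J4)), h1, one_pow]
    refine Nat.add_le_add_right ?_ 1
    refine (Finset.sum_le_card_nsmul _ _ (b ^ 2) fun ψ _ => Nat.pow_le_pow_left (hle ψ) 2).trans ?_
    rw [Finset.card_erase_of_mem (Finset.mem_univ _), Finset.card_univ, hcard, smul_eq_mul]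
  have hb2 : b ^ 2 ≤ 86775571046077562880 := by
    have h7 := sum_dg_sq_le {χ}
    rw [Finset.sum_singleton, card_K, hχ'] at h7
    exact h7
  have hdvd : b ∣ 86775571046077562880 := by
    rw [← card_K, ← hχ']
    exact dg_dvd χ
  have f23 : Fact (Nat.Prime 23) := ⟨by norm_num⟩
  have f29 : Fact (Nat.Prime 29) := ⟨by norm_num⟩
  have f31 : Fact (Nat.Prime 31) := ⟨by norm_num⟩
  have f37 : Fact (Nat.Prime 37) := ⟨by norm_num⟩
  have f43 : Fact (Nat.Prime 43) := ⟨by norm_num⟩
  obtain ⟨P1, -, ⟨D1⟩⟩ := BlockCount.exists_SC (G := Spor.J4) 23 (by norm_num) (by rw [card_K]; norm_num)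
    (by rw [card_K]; norm_num) (cent_of fun P hP => (data23 hP).1) (e := 22) (t := 1) (by rw [card_K]) (by norm_num)
  obtain ⟨P2, -, ⟨D2⟩⟩ := BlockCount.exists_SC (G := Spor.J4) 29 (by norm_num) (by rw [card_K]; norm_num)
    (by rw [card_K]; norm_num) (cent_of fun P hP => (data29' hP).1) (e := 28) (t := 1) (by rw [card_K]) (by norm_num)
  obtain ⟨P3, -, ⟨D3⟩⟩ := BlockCount.exists_SC (G := Spor.J4) 31 (by norm_num) (by rw [card_K]; norm_num)
    (by rw [card_K]; norm_num) (cent_of fun P hP => (data31 hP).1) (e := 10) (t := 3) (by rw [card_K]) (by norm_num)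
  obtain ⟨P4, -, ⟨D4⟩⟩ := BlockCount.exists_SC (G := Spor.J4) 37 (by norm_num) (by rw [card_K]; norm_num)
    (by rw [card_K]; norm_num) (cent_of fun P hP => (data37 hP).1) (e := 12) (t := 3) (by rw [card_K]) (by norm_num)
  obtain ⟨P5, -, ⟨D5⟩⟩ := BlockCount.exists_SC (G := Spor.J4) 43 (by norm_num) (by rw [card_K]; norm_num)
    (by rw [card_K]; norm_num) (cent_of fun P hP => (data43 hP).1) (e := 14) (t := 3) (by rw [card_K]) (by norm_num)
  have m1 := BlockCount.mod_cases D1 (by norm_num) (by norm_num) (by norm_num) χ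
  have m2 := BlockCount.mod_cases D2 (by norm_num) (by norm_num) (by norm_num) χ
  have m3 := BlockCount.mod_cases D3 (by norm_num) (by norm_num) (by norm_num) χ
  have m4 := BlockCount.mod_cases D4 (by norm_num) (by norm_num) (by norm_num) χ
  have m5 := BlockCount.mod_cases D5 (by norm_num) (by norm_num) (by norm_num) χ
  rw [hχ'] at m1 m2 m3 m4 m5
  exact JFourList.adm_of hdvd hN hb2 (JFourList.okm_of m1) (JFourList.okm_of m2) (JFourList.okm_of m3)
    (JFourList.okm_of m4) (JFourList.okm_of m5)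

end Cfsg.Agent.H417.JFourDeg
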