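import Cfsg.Agent.J3Type.CharOrder
import Cfsg.Agent.J3Type.CodeExists
import Cfsg.Agent.J3Type.Kappa
import Cfsg.Agent.J3Type.OneClass
import Cfsg.Agent.H898.J3Cent

/-!
# The columns of the character table of `J₃` at the elements of even order (helper417)

`exists_cols` : for every group isomorphic to `J₃` the integral columns of `J3Type.CharComb.Cols`, with `j = 26163`.
-/

set_option autoImplicit false

namespace Cfsg.Agent.H417.JThreeCols

open Cfsg
open scoped ComplexConjugate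
open Cfsg.Agent.J3Type.CodeTab Cfsg.Agent.J3Type.CodeFacts Cfsg.Agent.J3Type.CodeGroup
open Cfsg.Agent.J3Type.CharTools Cfsg.Agent.Characters.Core Cfsg.Agent.J3Type.CodeAvg
open Cfsg.Agent.J3Type.CharRow Cfsg.Agent.J3Type.CharTwo Cfsg.Agent.J3Type.CharComb
open Cfsg.Agent.J3Type.CharOrder
open Cfsg.Agent.J2Type.Model Cfsg.Agent.J2Type.CStruct Cfsg.Agent.J3Type.OneClass

universe u

section Coded

variable {G : Type u} [Group G] {t : G} {D : ℕ → G}

/-- The columns of the character table at the elements of even order (the proof is the one of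
`CharOrder.card_of_coded`). -/
theorem exists_cols [Finite G] [Fintype (IrrCharacter G)] (h : Coded t D)
    (hall : ∀ g : G, orderOf g = 2 → IsConj t g) {j : ℕ} (hN : Nat.card G = 1920 * j) :
    ∃ V : IrrCharacter G → Fin 8 → ℤ, (∀ χ : IrrCharacter G, (χ : G → ℂ) 1 = ((V χ 0 : ℤ) : ℂ)) ∧
      Cols j (fun a χ => V χ a) (⟨1, isIrr_one⟩ : IrrCharacter G) := by
  classical
  have hmod := mod_eq h hall hN
  obtain ⟨ζ, hζ, hs⟩ := exists_sqrt_five
  choose V hV using fun χ : IrrCharacter G => exists_row h hall hζ hs χ.2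
  set s := ζ + ζ ^ 4 - ζ ^ 2 - ζ ^ 3 with hsd
  have hs0 : s ≠ 0 := by
    intro h0
    rw [h0] at hs
    norm_num at hs
  have hj0 : (j : ℂ) ≠ 0 := Nat.cast_ne_zero.2 (by omega)
  -- the columns in terms of the class representatives
  let u : Fin 8 → ℂ := ![1, 1, 1, 1, 1, 1, 1, s]
  have hu0 : ∀ a, u a ≠ 0 := by
    intro a
    fin_cases a
    · exact one_ne_zero
    · exact one_ne_zero
    · exact one_ne_zero
    · exact one_ne_zero
    · exact one_ne_zero
    · exact one_ne_zero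
    · exact one_ne_zero
    · exact hs0
  have hcol : ∀ (a : Fin 8) (χ : IrrCharacter G), ((V χ a : ℤ) : ℂ) * u a
      = ∑ a', KK a a' * (χ : G → ℂ) (y t D a') := by
    intro a χ
    have r := hV χ
    rw [Fin.sum_univ_eight]
    fin_cases a
    · have := r.e0
      simp [KK, u, y, this]
    · have := r.e1
      simp [KK, u, y, this]
    · have := r.e2
      simp [KK, u, y, this]
    · have := r.e3
      simp [KK, u, y, this]
    · have := r.e4
      simp [KK, u, y, this]
    · have := r.e5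
      simp [KK, u, y, this]
    · have := r.e6
      simp [KK, u, y, ← this]
    · have := r.e7
      simp [KK, u, y, ← this]
      ring
  have hprod : ∀ a b : Fin 8, ((∑ χ : IrrCharacter G, V χ a * V χ b : ℤ) : ℂ) * (u a * u b)
      = ∑ a', KK a a' * KK b a' * (cc j a' : ℂ) := by
    intro a b
    push_cast
    rw [Finset.sum_mul]
    have h1 : ∀ χ : IrrCharacter G, ((V χ a : ℤ) : ℂ) * ((V χ b : ℤ) : ℂ) * (u a * u b)
        = ∑ a', ∑ b', KK a a' * KK b b' * ((χ : G → ℂ) (y t D a') * (χ : G → ℂ) (y t D b')) := by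
      intro χ
      have : ((V χ a : ℤ) : ℂ) * ((V χ b : ℤ) : ℂ) * (u a * u b)
        = (((V χ a : ℤ) : ℂ) * u a) * (((V χ b : ℤ) : ℂ) * u b) := by ring
      rw [this, hcol, hcol, Finset.sum_mul_sum]
      refine Finset.sum_congr rfl fun a' _ => Finset.sum_congr rfl fun b' _ => ?_
      ring
    rw [Finset.sum_congr rfl fun χ _ => h1 χ, Finset.sum_comm]
    refine Finset.sum_congr rfl fun a' _ => ?_
    rw [Finset.sum_comm]
    have h2 : ∀ b', ∑ χ : IrrCharacter G, KK a a' * KK b b' *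
        ((χ : G → ℂ) (y t D a') * (χ : G → ℂ) (y t D b'))
        = if a' = b' then KK a a' * KK b b' * (cc j a' : ℂ) else 0 := by
      intro b'
      rw [← Finset.mul_sum, orth h hall hN a' b']
      split_ifs <;> ring
    rw [Finset.sum_congr rfl fun b' _ => h2 b']
    simp
  have horth : ∀ a b : Fin 8, ∑ χ : IrrCharacter G, V χ a * V χ b = if a = b then dd j a else 0 := by
    intro a b
    have h1 := hprod a b
    rw [Fin.sum_univ_eight] at h1
    by_cases hab : a = b
    · subst hab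
      rw [if_pos rfl]
      have h2 : ((∑ χ : IrrCharacter G, V χ a * V χ a : ℤ) : ℂ) = ((dd j a : ℤ) : ℂ) := by
        have h3 : u a * u a ≠ 0 := mul_ne_zero (hu0 a) (hu0 a)
        apply mul_right_cancel₀ h3
        rw [h1]
        clear h1 h3 hprod hcol
        fin_cases a
        · simp [KK, u, cc, dd]
        · simp [KK, u, cc, dd]
        · simp [KK, u, cc, dd]
        · simp [KK, u, cc, dd]
        · simp [KK, u, cc, dd]
        · simp [KK, u, cc, dd]
        · simp [KK, u, cc, dd]; norm_num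
        · simp [KK, u, cc, dd]
          linear_combination (-4 : ℂ) * hs
      exact_mod_cast h2
    · rw [if_neg hab]
      have h2 : ((∑ χ : IrrCharacter G, V χ a * V χ b : ℤ) : ℂ) = 0 := by
        have h3 : u a * u b ≠ 0 := mul_ne_zero (hu0 a) (hu0 b)
        apply mul_right_cancel₀ h3
        rw [h1, zero_mul]
        clear h1 h3 hprod hcol
        revert hab
        fin_cases a <;> fin_cases b <;> simp [KK, cc]
      exact_mod_cast h2
  -- the trivial character
  let e : IrrCharacter G := ⟨1, isIrr_one⟩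
  have he : ∀ a, V e a = ee a := by
    intro a
    have r := hV e
    have hone : ∀ g : G, (e : G → ℂ) g = 1 := fun g => rfl
    fin_cases a
    · have := r.e0; rw [hone] at this; exact_mod_cast this.symm
    · have := r.e1; rw [hone] at this; exact_mod_cast this.symm
    · have := r.e2; rw [hone] at this; exact_mod_cast this.symm
    · have := r.e3; rw [hone] at this; exact_mod_cast this.symm
    · have := r.e4; rw [hone] at this; exact_mod_cast this.symm
    · have := r.e5; rw [hone] at this; exact_mod_cast this.symm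
    · have := r.e6
      rw [hone, hone] at this
      have h2 : ((V e 6 : ℤ) : ℂ) = ((2 : ℤ) : ℂ) := by rw [← this]; norm_num
      exact_mod_cast h2
    · have := r.e7
      rw [hone, hone, sub_self] at this
      have h2 := (mul_eq_zero.1 this.symm).resolve_right hs0
      exact_mod_cast h2
  have hcl : ∑ χ : IrrCharacter G, ((3 * V χ 1 - 5 * V χ 2 - 30 * V χ 4 - 40 * V χ 5 - 24 * V χ 6 : ℤ) : ℚ)
      / 120 * ((V χ 1 : ℤ) : ℚ) ^ 2 / ((V χ 0 : ℤ) : ℚ) = -15200 / (j : ℚ) := by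
    have p1 := class_sum h hall hN 1 (by decide)
    have p2 := class_sum h hall hN 2 (by decide)
    have p4 := class_sum h hall hN 4 (by decide)
    have p5 := class_sum h hall hN 5 (by decide)
    have p6 := class_sum h hall hN 6 (by decide)
    have p7 := class_sum h hall hN 7 (by decide)
    have n1 : ((np 1 : ℕ) : ℂ) = 130 := by rw [show np 1 = 130 from rfl]; norm_num
    have n2 : ((np 2 : ℕ) : ℂ) = 28 := by rw [show np 2 = 28 from rfl]; norm_num
    have n4 : ((np 4 : ℕ) : ℂ) = 8 := by rw [show np 4 = 8 from rfl]; norm_num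
    have n5 : ((np 5 : ℕ) : ℂ) = 12 := by rw [show np 5 = 12 from rfl]; norm_num
    have n6 : ((np 6 : ℕ) : ℂ) = 10 := by rw [show np 6 = 10 from rfl]; norm_num
    have n7 : ((np 7 : ℕ) : ℂ) = 10 := by rw [show np 7 = 10 from rfl]; norm_num
    rw [n1] at p1
    rw [n2] at p2
    rw [n4] at p4
    rw [n5] at p5
    rw [n6] at p6
    rw [n7] at p7
    have h1 : ∑ χ : IrrCharacter G, ((3 * V χ 1 - 5 * V χ 2 - 30 * V χ 4 - 40 * V χ 5 - 24 * V χ 6 : ℤ) : ℂ)
      / 120 * ((V χ 1 : ℤ) : ℂ) ^ 2 / ((V χ 0 : ℤ) : ℂ) = -15200 / (j : ℂ) := by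
      have h2 : ∀ χ : IrrCharacter G,
          ((3 * V χ 1 - 5 * V χ 2 - 30 * V χ 4 - 40 * V χ 5 - 24 * V χ 6 : ℤ) : ℂ)
          / 120 * ((V χ 1 : ℤ) : ℂ) ^ 2 / ((V χ 0 : ℤ) : ℂ)
          = (1 / 40 : ℂ) * ((χ : G → ℂ) t ^ 2 * (χ : G → ℂ) (y t D 1) / (χ : G → ℂ) 1)
          + ((-1 / 24 : ℂ) * ((χ : G → ℂ) t ^ 2 * (χ : G → ℂ) (y t D 2) / (χ : G → ℂ) 1)
          + ((-1 / 4 : ℂ) * ((χ : G → ℂ) t ^ 2 * (χ : G → ℂ) (y t D 4) / (χ : G → ℂ) 1)
          + ((-1 / 3 : ℂ) * ((χ : G → ℂ) t ^ 2 * (χ : G → ℂ) (y t D 5) / (χ : G → ℂ) 1)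
          + ((-1 / 5 : ℂ) * ((χ : G → ℂ) t ^ 2 * (χ : G → ℂ) (y t D 6) / (χ : G → ℂ) 1)
          + (-1 / 5 : ℂ) * ((χ : G → ℂ) t ^ 2 * (χ : G → ℂ) (y t D 7) / (χ : G → ℂ) 1))))) := by
        intro χ
        have r := hV χ
        have y1 : (χ : G → ℂ) (y t D 1) = V χ 1 := r.e1
        have y2 : (χ : G → ℂ) (y t D 2) = V χ 2 := r.e2
        have y4 : (χ : G → ℂ) (y t D 4) = V χ 4 := r.e4
        have y5 : (χ : G → ℂ) (y t D 5) = V χ 5 := r.e5
        have y6 : (χ : G → ℂ) (y t D 6) + (χ : G → ℂ) (y t D 7) = V χ 6 := r.e6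
        rw [y1, y2, y4, y5, r.e0, r.e1]
        push_cast
        linear_combination (-(1 / 5 : ℂ) * ((V χ 1 : ℤ) : ℂ) ^ 2 / ((V χ 0 : ℤ) : ℂ)) * (-y6)
      rw [Finset.sum_congr rfl fun χ _ => h2 χ, Finset.sum_add_distrib, Finset.sum_add_distrib,
        Finset.sum_add_distrib, Finset.sum_add_distrib, Finset.sum_add_distrib, ← Finset.mul_sum,
        ← Finset.mul_sum, ← Finset.mul_sum, ← Finset.mul_sum, ← Finset.mul_sum, ← Finset.mul_sum,
        p1, p2, p4, p5, p6, p7]
      field_simp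
      norm_num
    have h3 : ((∑ χ : IrrCharacter G, ((3 * V χ 1 - 5 * V χ 2 - 30 * V χ 4 - 40 * V χ 5 - 24 * V χ 6 : ℤ) : ℚ)
      / 120 * ((V χ 1 : ℤ) : ℚ) ^ 2 / ((V χ 0 : ℤ) : ℚ) : ℚ) : ℂ) = ((-15200 / (j : ℚ) : ℚ) : ℂ) := by
      push_cast
      push_cast at h1
      exact h1
    exact_mod_cast h3
  have hC : Cols j (fun a χ => V χ a) e :=
    { hj := hmod
      horth := horth
      he := he
      hpos := fun χ => (hV χ).hpos
      hdvd := fun χ => by
        have := (hV χ).hdvd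
        rw [hN] at this
        push_cast at this
        exact this
      c1 := fun χ => (hV χ).c1
      c2 := fun χ => (hV χ).c2
      c3 := fun χ => (hV χ).c3
      c4 := fun χ => (hV χ).c4
      c5 := fun χ => (hV χ).c5
      c6 := fun χ => (hV χ).c6
      c7 := fun χ => (hV χ).c7
      c8 := fun χ => (hV χ).c8
      hcl := hcl }
  exact ⟨V, fun χ => (hV χ).e0, hC⟩

end Coded

variable {K : Type u} [Group K]

/-- the coding of an involution centralizer of `J₃` -/
theorem exists_coded_iso [Finite K] (h : Spor.IsoJ3 K) :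
    ∃ (t : K) (D : ℕ → K), Coded t D ∧ ∀ g : K, orderOf g = 2 → IsConj t g := by
  obtain ⟨hs, z, Q, v, ρ, n, u, F⟩ := KFacts.J3.exists_facts h
  have hzz : z * z = 1 := congrArg Subtype.val F.model.z_sq
  have hz1 : z ≠ 1 := fun h1 => F.model.z_ne (Subtype.ext h1)
  have hz2 : orderOf z = 2 := orderOf_eq_prime (by rw [pow_two, hzz]) hz1
  have hall : ∀ g : K, orderOf g = 2 → IsConj z g := by
    intro g hg
    obtain ⟨x, hx⟩ := F.one g (fun h1 => by rw [h1, orderOf_one] at hg; omega) (by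
      rw [← pow_two, ← hg, pow_orderOf_eq_one])
    exact isConj_iff.2 ⟨x, hx⟩
  have hmz : HasModel z := ⟨hz2, F.card_C, Q, v, ρ, F.model⟩
  obtain ⟨ht, h1920, Q, v, ρ, M⟩ := hmz
  have hv : ∃ g, g * z * g⁻¹ = ((v 0 : Subgroup.centralizer ({z} : Set K)) : K) := by
    apply isConj_iff.1
    apply hall
    rw [orderOf_eq_prime_iff, pow_two]
    refine ⟨congrArg Subtype.val (M.v_sq 0), ?_⟩
    intro h1
    apply v_ne_one M 0 0
    rw [zp_zero, one_mul]
    exact Subtype.ext h1
  obtain ⟨u, hu, huQ⟩ := exists_outer M 0 hv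
  obtain ⟨κ, hκ⟩ := Cfsg.Agent.J3Type.Kappa.exists_kappa M u huQ hu
  obtain ⟨D, hD⟩ := Cfsg.Agent.J3Type.CodeExists.exists_coded hzz M rfl h1920 κ hκ
  exact ⟨z, D, hD, hall⟩

/-- **The columns for `J₃`.** -/
theorem exists_cols_iso [Finite K] [Fintype (IrrCharacter K)] (h : Spor.IsoJ3 K) :
    ∃ V : IrrCharacter K → Fin 8 → ℤ, (∀ χ : IrrCharacter K, (χ : K → ℂ) 1 = ((V χ 0 : ℤ) : ℂ)) ∧
      Cols 26163 (fun a χ => V χ a) (⟨1, isIrr_one⟩ : IrrCharacter K) := by
  obtain ⟨t, D, hD, hall⟩ := exists_coded_iso h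
  exact exists_cols hD hall (by rw [(H898.J3Cent.base h).2.1])

end Cfsg.Agent.H417.JThreeCols
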