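import Cfsg.Agent.H417.TorLift
import Cfsg.Agent.H850.Cod.Reduce
import Cfsg.Agent.H129.CycT
import Cfsg.Agent.S2103
import Cfsg.Agent.S2104
import Cfsg.Agent.S2105
import Cfsg.Agent.S2107
import Cfsg.Agent.S1062
import Cfsg.Agent.S1063
import Mathlib.Algebra.Group.Shrink
import Mathlib.Data.Countable.Small

/-!
# The central case for `F₄(q)`, `E₆(q)`, `E₈(q)` (helper417, team S3539)

* `card_dvd_mult` : `|M| ∣ n` for a central `M` in a perfect `G` with `G / M ≃* L`, `L` with multiplier of order `n`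
* `central_F4`, `central_E6`, `central_E8` : `CentralOK`
-/

set_option autoImplicit false

namespace Cfsg.Agent.H417.CodCentral

open Cfsg Cfsg.Lie Subgroup Cfsg.Agent.H686.CharKit Cfsg.Agent.H850.Cod

universe u v

/-- the order of a central kernel divides the order of the multiplier (any universe) -/
theorem card_dvd_mult {L : Type v} [Group L] {n : ℕ} [NeZero n] (hL : HasCyclicSchurMultiplier L n) {G : Type u} [Group G]
    [Finite G] (M : Subgroup G) [M.Normal] (e : G ⧸ M ≃* L) (hp : commutator G = ⊤) (hM : M ≤ center G) :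
    Nat.card M ∣ n := by
  let s : Shrink.{v} G ≃* G := Shrink.mulEquiv
  let σ : Shrink.{v} G →* L := (e.toMonoidHom.comp (QuotientGroup.mk' M)).comp s.toMonoidHom
  have hfin : Finite (Shrink.{v} G) := Finite.of_equiv _ s.symm.toEquiv
  have hker : ∀ x, x ∈ σ.ker ↔ s x ∈ M := by
    intro x
    rw [MonoidHom.mem_ker]
    show e (QuotientGroup.mk' M (s x)) = 1 ↔ _
    rw [EmbeddingLike.map_eq_one_iff]
    exact QuotientGroup.eq_one_iff _
  have hst : IsStemExtension σ := by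
    refine ⟨?_, ?_, ?_⟩
    · exact (e.surjective.comp (QuotientGroup.mk'_surjective M)).comp s.surjective
    · intro x hx
      rw [hker] at hx
      rw [mem_center_iff]
      intro g
      apply s.injective
      rw [map_mul, map_mul]
      exact mem_center_iff.1 (hM hx) _
    · have h1 : commutator (Shrink.{v} G) = ⊤ := by
        have h2 := map_commutator (⊤ : Subgroup G) ⊤ s.symm.toMonoidHom
        rw [← commutator_def, hp] at h2
        have h3 : Subgroup.map s.symm.toMonoidHom ⊤ = ⊤ := by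
          rw [← MonoidHom.range_eq_map]
          exact MonoidHom.range_eq_top.2 s.symm.surjective
        rw [h3] at h2
        rw [commutator_def]
        exact h2.symm
      rw [h1]
      exact le_top
  obtain ⟨π, hπ⟩ := hL.2 (Shrink.{v} G) σ hst
  have h1 : Nat.card σ.ker ∣ Nat.card (Multiplicative (ZMod n)) := Subgroup.card_dvd_of_surjective π hπ
  have h2 : Nat.card (Multiplicative (ZMod n)) = n := by
    rw [Nat.card_congr Multiplicative.toAdd, Nat.card_zmod]
  rw [h2] at h1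
  have h3 : Nat.card σ.ker = Nat.card M := by
    refine Nat.card_congr (Equiv.subtypeEquiv s.toEquiv fun x => ?_)
    exact hker x
  rwa [h3] at h1

theorem central_of_one {L : Type v} [Group L] (hL : HasCyclicSchurMultiplier L 1) : CentralOK.{u} L := by
  intro G _ _ M _ e hp hM hprime _
  have h1 := card_dvd_mult hL M e hp hM
  rw [Nat.dvd_one] at h1
  rw [h1] at hprime
  exact Nat.not_prime_one hprime

/-- **`E₈(q)`.** -/
theorem central_E8 (F : Type v) [Field F] [Fintype F] : CentralOK.{u} ↥(chevE8.group F) :=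
  central_of_one Cfsg.Agent.S2107.result

/-- **`F₄(q)`.** -/
theorem central_F4 (F : Type v) [Field F] [Fintype F] : CentralOK.{u} ↥(chevF4.group F) := by
  have h2 : 2 ≤ Fintype.card F := Fintype.one_lt_card
  rcases h2.eq_or_lt with h2 | h2
  · intro G _ _ M _ e hp hM hprime h
    have h1 := card_dvd_mult (Cfsg.Agent.S2104.result h2.symm) M e hp hM
    have hM2 : Nat.card M = 2 := (Nat.prime_dvd_prime_iff_eq hprime Nat.prime_two).1 h1
    obtain ⟨T, hT1, hT2, hT3⟩ := H129.CycT.exact_F4_12 (F := F) h2.symm (N := 13) (by norm_num)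
    refine TorLift.central_trans M hM (e.toMonoidHom.comp (QuotientGroup.mk' M))
      (e.surjective.comp (QuotientGroup.mk'_surjective M)) ?_ T hT1 hT3 hT2 hM2
      (c := 254702046412800) ?_ (by norm_num) h
    · ext x
      rw [MonoidHom.mem_ker]
      show e (QuotientGroup.mk' M x) = 1 ↔ _
      rw [EmbeddingLike.map_eq_one_iff]
      exact QuotientGroup.eq_one_iff _
    · rw [S1062.result (F := F) h2.symm]
      norm_num
  · exact central_of_one (Cfsg.Agent.S2103.result h2)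

theorem mod_E6 {t q c : ℕ} (hq : 1 ≤ q) (ht : t ∣ q ^ 6 + q ^ 3 + 1)
    (hc : c = q ^ 36 * (q ^ 2 - 1) * (q ^ 5 - 1) * (q ^ 6 - 1) * (q ^ 8 - 1) * (q ^ 3 - 1) * (q ^ 12 - 1)) :
    c ≡ 3 ^ 2 [MOD t] := by
  rw [← ZMod.natCast_eq_natCast_iff, hc]
  have h1 : ∀ k : ℕ, ((q ^ k - 1 : ℕ) : ZMod t) = (q : ZMod t) ^ k - 1 := by
    intro k
    rw [Nat.cast_sub (Nat.one_le_pow _ _ hq)]
    push_cast
    ring
  rw [Nat.cast_mul, Nat.cast_mul, Nat.cast_mul, Nat.cast_mul, Nat.cast_mul, Nat.cast_mul, h1, h1, h1, h1, h1, h1]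
  push_cast
  have h2 : (q : ZMod t) ^ 6 + (q : ZMod t) ^ 3 + 1 = 0 := by
    have := (ZMod.natCast_eq_zero_iff _ _).2 ht
    push_cast at this
    exact this
  set x := (q : ZMod t) with hx
  have h9 : x ^ 9 = 1 := by linear_combination (x ^ 3 - 1) * h2
  have h12 : x ^ 12 = x ^ 3 := by
    calc x ^ 12 = x ^ 9 * x ^ 3 := by ring
      _ = x ^ 3 := by rw [h9, one_mul]
  have h36 : x ^ 36 = 1 := by
    calc x ^ 36 = (x ^ 9) ^ 4 := by ring
      _ = 1 := by rw [h9, one_pow]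
  rw [h36, h12]
  linear_combination (-8 - x ^ 2 + 6 * x ^ 3 + 2 * x ^ 5 + 2 * x ^ 6 + x ^ 7 - 6 * x ^ 9 - 2 * x ^ 10 - 2 * x ^ 11
    + 3 * x ^ 12 + x ^ 14 + 2 * x ^ 15 + 2 * x ^ 16 - 3 * x ^ 18 - x ^ 19 + x ^ 21) * h2

/-- **`E₆(q)`.** -/
theorem central_E6 (F : Type v) [Field F] [Fintype F] : CentralOK.{u} ↥(chevE6.group F) := by
  intro G _ _ M _ e hp hM hprime h
  obtain ⟨q, hq⟩ : ∃ q, Fintype.card F = q := ⟨_, rfl⟩
  have hq2 : 2 ≤ q := by rw [← hq]; exact Fintype.one_lt_card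
  have hne : NeZero (Nat.gcd 3 (q - 1)) := ⟨by
    have : 0 < Nat.gcd 3 (q - 1) := Nat.gcd_pos_of_pos_left _ (by norm_num)
    omega⟩
  have h1 := card_dvd_mult (Cfsg.Agent.S2105.result hq) M e hp hM
  have hM3 : Nat.card M = 3 := (Nat.prime_dvd_prime_iff_eq hprime Nat.prime_three).1 (h1.trans (Nat.gcd_dvd_left _ _))
  have hg : Nat.gcd 3 (q - 1) = 3 := by
    refine Nat.dvd_antisymm (Nat.gcd_dvd_left _ _) ?_
    rw [hM3] at h1
    exact h1
  have h3q : 3 ∣ q - 1 := Nat.gcd_eq_left_iff_dvd.1 hg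
  obtain ⟨k, hk⟩ := h3q
  have hqk : q = 3 * k + 1 := by omega
  have hk1 : 1 ≤ k := by omega
  have hE := H129.CycT.exact_E6_9 (F := F) hq (N := q ^ 6 + q ^ 3 + 1) (by push_cast; ring)
  set t := 243 * k ^ 6 + 486 * k ^ 5 + 405 * k ^ 4 + 189 * k ^ 3 + 54 * k ^ 2 + 9 * k + 1 with ht
  have hN : q ^ 6 + q ^ 3 + 1 = 3 * t := by rw [hqk, ht]; ring
  rw [hg, hN, Nat.mul_div_cancel_left _ (by norm_num)] at hE
  obtain ⟨T, hT1, hT2, hT3⟩ := hE
  have hcard := S1063.result (F := F) hq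
  set c := q ^ 36 * (q ^ 2 - 1) * (q ^ 5 - 1) * (q ^ 6 - 1) * (q ^ 8 - 1) * (q ^ 3 - 1) * (q ^ 12 - 1) with hc
  have hS : Nat.card ↥(chevE6.group F) = c * t := by
    have h9 : q ^ 9 - 1 = (q ^ 3 - 1) * (3 * t) := by
      rw [← hN]
      have h3 : 1 ≤ q ^ 3 := Nat.one_le_pow _ _ (by omega)
      have h9 : 1 ≤ q ^ 9 := Nat.one_le_pow _ _ (by omega)
      zify [h3, h9]
      ring
    rw [hg, h9] at hcard
    have h5 : 3 * Nat.card ↥(chevE6.group F) = 3 * (c * t) := by
      rw [hcard, hc]; ring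
    exact Nat.eq_of_mul_eq_mul_left (by norm_num) h5
  have ht324 : 324 < t := by
    have h2 : 1 ≤ k ^ 2 := Nat.one_le_pow _ _ hk1
    have h3 : 1 ≤ k ^ 3 := Nat.one_le_pow _ _ hk1
    have h4 : 1 ≤ k ^ 4 := Nat.one_le_pow _ _ hk1
    have h5 : 1 ≤ k ^ 5 := Nat.one_le_pow _ _ hk1
    have h6 : 1 ≤ k ^ 6 := Nat.one_le_pow _ _ hk1
    omega
  refine TorLift.central_sq M hM (e.toMonoidHom.comp (QuotientGroup.mk' M))
      (e.surjective.comp (QuotientGroup.mk'_surjective M)) ?_ T hT1 hT3 ?_ hM3 Nat.prime_three (c := c) ?_ ?_ ?_ h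
  · ext x
    rw [MonoidHom.mem_ker]
    show e (QuotientGroup.mk' M x) = 1 ↔ _
    rw [EmbeddingLike.map_eq_one_iff]
    exact QuotientGroup.eq_one_iff _
  · rw [hT2, hM3, Nat.coprime_comm, Nat.Prime.coprime_iff_not_dvd Nat.prime_three]
    have : t = 3 * (81 * k ^ 6 + 162 * k ^ 5 + 135 * k ^ 4 + 63 * k ^ 3 + 18 * k ^ 2 + 3 * k) + 1 := by rw [ht]; ring
    omega
  · rw [hS, hT2]
  · rw [hT2]
    exact mod_E6 (by omega) (hN ▸ Dvd.intro_left 3 rfl) hc
  · rw [hT2]
    norm_num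
    exact ht324

end Cfsg.Agent.H417.CodCentral
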