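import Cfsg.Agent.H417.TorMain

/-!
# Central extensions with degrees `ℓ ψ(1)`: two contradictions (helper417)
-/

set_option autoImplicit false
set_option linter.unusedSectionVars false

namespace Cfsg.Agent.H417.TorFalse

open Cfsg Finset Cfsg.Agent.Characters.Core Cfsg.Agent.Characters.Linear Cfsg.Agent.H417.TorDual
  Cfsg.Agent.H417.TorRow Cfsg.Agent.H417.TorCol Cfsg.Agent.H417.TorInt Cfsg.Agent.H417.TorMain
open scoped ComplexConjugate Classical BigOperators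

universe u v w

variable {G : Type u} [Group G] {A : Type v} {B : Type w} [CommGroup A] [CommGroup B]
variable {φ : A × B →* G} [Fintype G] [Fintype A] [Fintype B] [Fintype (A →* ℂˣ)]

/-- the two types of invariant vectors of small norm -/
theorem types (hT : Tor φ) {e : ℕ} (he : Nat.card (NT φ) = e * (Nat.card A * Nat.card B)) (δ : (A →* ℂˣ) → ℤ)
    (hinv : ∀ θ, ∀ x ∈ NT φ, δ (θ ^ kap φ x) = δ θ) (hδ : ∑ θ, δ θ ^ 2 ≤ e) {θ : A →* ℂˣ} (hθ : θ ≠ 1)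
    (h0 : δ θ ≠ 0) : (∑ θ, δ θ = e ∨ ∑ θ, δ θ = -e) ∧ ∀ η, η ∉ orb φ θ → δ η = 0 := by
  have h1 := le_orb_sum hT he hθ (fun η => δ η ^ 2) (fun η => sq_nonneg _) (fun x hx => by
    show δ (θ ^ kap φ x) ^ 2 = δ θ ^ 2
    rw [hinv θ x hx])
  have h2 : ∑ η ∈ orb φ θ, δ η ^ 2 + ∑ η ∈ univ \ orb φ θ, δ η ^ 2 = ∑ η, δ η ^ 2 := by
    rw [add_comm]; exact Finset.sum_sdiff (Finset.subset_univ _)
  have h3 : 0 ≤ ∑ η ∈ univ \ orb φ θ, δ η ^ 2 := Finset.sum_nonneg fun η _ => sq_nonneg _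
  have h4 : 1 ≤ δ θ ^ 2 := by
    have := Int.one_le_abs h0
    rw [← sq_abs]; nlinarith
  have he0 : (0 : ℤ) < e := by
    have h5 : 0 < Nat.card (NT φ) := Nat.card_pos
    rw [he] at h5
    have : 0 < e := Nat.pos_of_ne_zero (by rintro rfl; simp at h5)
    exact_mod_cast this
  have h5 : δ θ ^ 2 = 1 := by nlinarith
  have h6 : ∑ η ∈ orb φ θ, δ η ^ 2 = e := by
    have h1' : (e : ℤ) * δ θ ^ 2 ≤ ∑ η ∈ orb φ θ, δ η ^ 2 := h1
    nlinarith
  have h7 : ∑ η ∈ univ \ orb φ θ, δ η ^ 2 = 0 := by linarith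
  have h8 : ∀ η, η ∉ orb φ θ → δ η = 0 := by
    intro η hη
    have h9 := (Finset.sum_eq_zero_iff_of_nonneg (fun η _ => sq_nonneg (δ η))).1 h7 η
      (Finset.mem_sdiff.2 ⟨Finset.mem_univ _, hη⟩)
    exact pow_eq_zero_iff (two_ne_zero) |>.1 h9
  refine ⟨?_, h8⟩
  have h9 : ∀ η ∈ orb φ θ, δ η = δ θ := by
    intro η hη
    obtain ⟨x, hx, rfl⟩ := mem_orb.1 hη
    exact hinv θ x hx
  have h10 : ∑ η, δ η = (orb φ θ).card * δ θ := by
    rw [← Finset.sum_subset (Finset.subset_univ (orb φ θ)) fun η _ hη => h8 η hη, Finset.sum_congr rfl h9,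
      Finset.sum_const, nsmul_eq_mul]
  have h11 : ((orb φ θ).card : ℤ) = e := by
    rw [← h6, Finset.sum_congr rfl fun η hη => by rw [h9 η hη, h5], Finset.sum_const, nsmul_eq_mul, mul_one]
  rw [h10, h11]
  have h12 : (δ θ - 1) * (δ θ + 1) = 0 := by linear_combination h5
  rcases mul_eq_zero.1 h12 with h | h
  · left; rw [show δ θ = 1 by linarith, mul_one]
  · right; rw [show δ θ = -1 by linarith]; ring

/-- the invariants of an irreducible character -/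
theorem invar (hT : Tor φ) (hB : CenB φ) {e : ℕ} (he : Nat.card (NT φ) = e * (Nat.card A * Nat.card B))
    {χ : G → ℂ} (hχ : IsIrrCharacter G χ) {μ0 : B →* ℂˣ} (hμ : ∀ θ μ, μ ≠ μ0 → mul φ χ θ μ = 0)
    (ht : 4 * e ^ 2 < Nat.card A) :
    ∃ k ρ : ℤ, |ρ| ≤ e ∧ χ 1 = ((k * Nat.card A + ρ : ℤ) : ℂ) ∧
      (∀ θ θ', θ ≠ 1 → θ' ≠ 1 → θ' ∉ orb φ θ → 0 ≤ dif φ χ θ μ0 * dif φ χ θ' μ0) ∧
      (∀ θ θ', θ ≠ 1 → θ' ≠ 1 → θ' ∉ orb φ θ → dif φ χ θ μ0 ≠ dif φ χ θ' μ0 → ρ = e ∨ ρ = -e) ∧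
      (ρ ≠ e → ρ ≠ -e → ∀ θ, θ ≠ 1 → dif φ χ θ μ0 = -ρ) := by
  obtain ⟨k, hk, hdeg⟩ := delta hT he hχ hμ ht
  set δ : (A →* ℂˣ) → ℤ := fun θ => mul φ χ θ μ0 - k with hδ
  have hinv : ∀ θ, ∀ x ∈ NT φ, δ (θ ^ kap φ x) = δ θ := by
    intro θ x hx
    have h1 := hT.mul_pow (isIrr_isCharacter hχ) hx θ μ0
    rw [mu_kap hT hB hx] at h1
    show mul φ χ (θ ^ kap φ x) μ0 - k = mul φ χ θ μ0 - k
    rw [h1]
  have hk' : ∑ θ, δ θ ^ 2 ≤ e := hk
  have hdif : ∀ θ, dif φ χ θ μ0 = δ θ - δ 1 := by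
    intro θ
    show mul φ χ θ μ0 - mul φ χ 1 μ0 = (mul φ χ θ μ0 - k) - (mul φ χ 1 μ0 - k)
    ring
  have hty := fun θ hθ h0 => types hT he δ hinv hk' (θ := θ) hθ h0
  have hsymm : ∀ {θ θ' : A →* ℂˣ}, θ' ∉ orb φ θ → θ ∉ orb φ θ' := by
    intro θ θ' h h'
    exact Finset.disjoint_left.1 (orb_disjoint hT h) (self_mem_orb hT θ) h'
  refine ⟨k, ∑ θ, δ θ, (abs_sum_le δ).trans hk', hdeg, ?_, ?_, ?_⟩
  · intro θ θ' hθ hθ' h
    rw [hdif, hdif]
    by_cases h1 : δ θ = 0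
    · by_cases h2 : δ θ' = 0
      · rw [h1, h2]; nlinarith [mul_self_nonneg (δ 1)]
      · have h3 := (hty θ' hθ' h2).2 1 (one_notMem_orb hT hθ')
        rw [h1, h3]; simp
    · have h3 := (hty θ hθ h1).2 1 (one_notMem_orb hT hθ)
      have h4 := (hty θ hθ h1).2 θ' h
      rw [h3, h4]; simp
  · intro θ θ' hθ hθ' h hne
    rw [hdif, hdif] at hne
    by_cases h1 : δ θ = 0
    · by_cases h2 : δ θ' = 0
      · exact absurd (by rw [h1, h2]) hne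
      · exact (hty θ' hθ' h2).1
    · exact (hty θ hθ h1).1
  · intro h1 h2 θ hθ
    have h3 : ∀ η, η ≠ 1 → δ η = 0 := by
      intro η hη
      by_contra h4
      rcases (hty η hη h4).1 with h5 | h5
      · exact h1 h5
      · exact h2 h5
    rw [hdif, h3 θ hθ, Finset.sum_eq_single 1 (fun η _ hη => h3 η hη) (fun h => absurd (Finset.mem_univ _) h)]
    ring

theorem dif_eq_zero {χ : G → ℂ} {μ0 : B →* ℂˣ} (hμ : ∀ θ μ, μ ≠ μ0 → mul φ χ θ μ = 0) {θ : A →* ℂˣ} {μ : B →* ℂˣ}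
    (h : μ ≠ μ0) : dif φ χ θ μ = 0 := by rw [dif, hμ _ _ h, hμ _ _ h, sub_zero]

/-- **First contradiction**: `|N : T| = ℓ ^ 2`. -/
theorem false_of_sq (hT : Tor φ) (hB : CenB φ) {ℓ e : ℕ} (he : Nat.card (NT φ) = e * (Nat.card A * Nat.card B))
    (hℓ : e = ℓ ^ 2) (hℓ1 : 1 < ℓ) (ht : 4 * e ^ 2 < Nat.card A) (hte : ℓ * e + e < Nat.card A)
    {b0 : B} (hb0 : b0 ≠ 1)
    (h : ∀ χ : IrrCharacter G, (∃ b, (χ : G → ℂ) (φ (1, b)) ≠ (χ : G → ℂ) 1) →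
      ∃ ψ : IrrCharacter G, (∀ b, (ψ : G → ℂ) (φ (1, b)) = (ψ : G → ℂ) 1) ∧ (χ : G → ℂ) 1 = ℓ * (ψ : G → ℂ) 1) :
    False := by
  have := Cfsg.Agent.Characters.Core.finite_irr (G := G)
  have := Fintype.ofFinite (IrrCharacter G)
  obtain ⟨θ, θ', hθ, hθ', hor⟩ := exists_two hT he (by nlinarith)
  obtain ⟨ν, hν⟩ := CommGroup.exists_apply_ne_one_of_hasEnoughRootsOfUnity B ℂ hb0
  have hν1 : ν ≠ 1 := by rintro rfl; exact hν rfl
  -- a character over `ν` of the second type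
  obtain ⟨χ, hχ⟩ : ∃ χ : IrrCharacter G, dif φ χ θ ν ≠ dif φ χ θ' ν := by
    by_contra hcon
    push Not at hcon
    have h1 := col_self hT hB he hθ ν
    have h2 := col_ne hT hB he hθ hθ' hor ν
    have h3 : ∀ χ : IrrCharacter G, dif φ χ θ ν ^ 2 = dif φ χ θ ν * dif φ χ θ' ν := by
      intro χ
      rw [sq]
      nth_rewrite 2 [hcon χ]
      rfl
    rw [Finset.sum_congr rfl fun χ _ => h3 χ, h2] at h1
    linarith
  obtain ⟨μχ, hμχ1, hμχ2⟩ := exists_cen hB χ.2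
  have hμν : ν = μχ := by
    by_contra hne
    exact hχ (by rw [dif_eq_zero hμχ2 hne, dif_eq_zero hμχ2 hne])
  subst hμν
  obtain ⟨kχ, ρχ, hρχ, hdχ, -, hχb, -⟩ := invar hT hB he χ.2 hμχ2 ht
  have hρe := hχb θ θ' hθ hθ' hor hχ
  obtain ⟨ψ, hψ1, hψ2⟩ := h χ ⟨b0, by
    rw [hμχ1]
    intro hcon
    have h3 : ((ν b0 : ℂˣ) : ℂ) = 1 := by
      have h0 := isIrr_apply_one_ne_zero χ.2
      exact mul_left_cancel₀ h0 (by rw [hcon, mul_one])
    exact hν (Units.ext h3)⟩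
  obtain ⟨μψ, hμψ1, hμψ2⟩ := exists_cen hB ψ.2
  have hμψ : μψ = 1 := by
    ext b
    have h0 := isIrr_apply_one_ne_zero ψ.2
    have h3 := hμψ1 b
    rw [hψ1 b] at h3
    exact (mul_left_cancel₀ h0 (by rw [← h3, MonoidHom.one_apply, Units.val_one, mul_one])).symm
  subst hμψ
  obtain ⟨kψ, ρψ, hρψ, hdψ, -, -, hψc⟩ := invar hT hB he ψ.2 hμψ2 ht
  -- comparison of residues
  have hcmp : kχ * Nat.card A + ρχ = ℓ * (kψ * Nat.card A + ρψ) := by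
    have h3 := hψ2
    rw [hdχ, hdψ] at h3
    exact_mod_cast h3
  have hres : ρχ = ℓ * ρψ := by
    have h3 : ρχ - ℓ * ρψ = Nat.card A * (ℓ * kψ - kχ) := by linear_combination hcmp
    have h4 : |ρχ - ℓ * ρψ| < Nat.card A := by
      have h5 : |ρχ - ℓ * ρψ| ≤ e + ℓ * e := by
        refine (abs_sub _ _).trans ?_
        rw [abs_mul, Nat.abs_cast]
        have : (ℓ : ℤ) * |ρψ| ≤ ℓ * e := mul_le_mul_of_nonneg_left hρψ (by positivity)
        linarith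
      have h6 : ((ℓ * e + e : ℕ) : ℤ) < Nat.card A := by exact_mod_cast hte
      push_cast at h6
      linarith
    have h5 : ρχ - ℓ * ρψ = 0 := Int.eq_zero_of_abs_lt_dvd ⟨_, h3⟩ h4
    linarith
  have hℓ0 : (ℓ : ℤ) ≠ 0 := by
    have : ℓ ≠ 0 := by omega
    exact_mod_cast this
  have heZ : (e : ℤ) = (ℓ : ℤ) ^ 2 := by exact_mod_cast hℓ
  have hρψ2 : ρψ = ℓ ∨ ρψ = -ℓ := by
    rcases hρe with h3 | h3
    · left
      refine mul_left_cancel₀ hℓ0 ?_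
      rw [← hres, h3, heZ, sq]
    · right
      refine mul_left_cancel₀ hℓ0 ?_
      rw [← hres, h3, heZ, sq]; ring
  have hℓe : (ℓ : ℤ) < e := by
    have : ℓ < e := by rw [hℓ]; nlinarith
    exact_mod_cast this
  have hℓpos : (0 : ℤ) < ℓ := by
    have : 0 < ℓ := by omega
    exact_mod_cast this
  have hψd : ∀ η, η ≠ 1 → dif φ ψ η 1 = -ρψ :=
    hψc (by rcases hρψ2 with h3 | h3 <;> rw [h3] <;> linarith) (by rcases hρψ2 with h3 | h3 <;> rw [h3] <;> linarith)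
  have hψe : dif φ ψ θ 1 * dif φ ψ θ' 1 = e := by
    rw [hψd θ hθ, hψd θ' hθ', heZ]
    rcases hρψ2 with h3 | h3 <;> rw [h3] <;> ring
  -- the column over the trivial character
  have h1 := col_ne hT hB he hθ hθ' hor (1 : B →* ℂˣ)
  have h0 : ∀ χ' : IrrCharacter G, 0 ≤ dif φ χ' θ 1 * dif φ χ' θ' 1 := by
    intro χ'
    obtain ⟨μ', hμ'1, hμ'2⟩ := exists_cen hB χ'.2
    by_cases hμ' : (1 : B →* ℂˣ) = μ'
    · subst hμ'
      obtain ⟨_, _, -, -, h3, -, -⟩ := invar hT hB he χ'.2 hμ'2 ht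
      exact h3 θ θ' hθ hθ' hor
    · rw [dif_eq_zero hμ'2 hμ', zero_mul]
  let χ1 : IrrCharacter G := ⟨1, isIrr_one⟩
  have hχ1 : dif φ χ1 θ 1 * dif φ χ1 θ' 1 = 1 := by
    show dif φ (1 : G → ℂ) θ 1 * dif φ (1 : G → ℂ) θ' 1 = 1
    rw [dif_one_char hθ, dif_one_char hθ']; norm_num
  have hne : ψ ≠ χ1 := by
    rintro rfl
    rw [hψe] at hχ1
    have : (1 : ℤ) < ℓ := by exact_mod_cast hℓ1
    linarith
  have h2 : dif φ ψ θ 1 * dif φ ψ θ' 1 + dif φ χ1 θ 1 * dif φ χ1 θ' 1 ≤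
      ∑ χ' : IrrCharacter G, dif φ χ' θ 1 * dif φ χ' θ' 1 := by
    rw [← Finset.sum_pair (f := fun χ' : IrrCharacter G => dif φ χ' θ 1 * dif φ χ' θ' 1) hne]
    exact Finset.sum_le_sum_of_subset_of_nonneg (Finset.subset_univ _) fun χ' _ _ => h0 χ'
  rw [h1, hψe, hχ1] at h2
  linarith

/-- **Second contradiction**: `ℓ = 2` and `N` is transitive. -/
theorem false_of_trans (hT : Tor φ) (hB : CenB φ) {e : ℕ} (he : Nat.card (NT φ) = e * (Nat.card A * Nat.card B))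
    (hA : Nat.card A = 13) (he12 : e = 12) {b0 : B} (hb0 : b0 ≠ 1)
    (h : ∀ χ : IrrCharacter G, (∃ b, (χ : G → ℂ) (φ (1, b)) ≠ (χ : G → ℂ) 1) →
      ∃ ψ : IrrCharacter G, (∀ b, (ψ : G → ℂ) (φ (1, b)) = (ψ : G → ℂ) 1) ∧ (χ : G → ℂ) 1 = 2 * (ψ : G → ℂ) 1) :
    False := by
  have := Cfsg.Agent.Characters.Core.finite_irr (G := G)
  have := Fintype.ofFinite (IrrCharacter G)
  have hcard : Fintype.card (A →* ℂˣ) = 13 := by
    rw [← Nat.card_eq_fintype_card, CommGroup.card_monoidHom_of_hasEnoughRootsOfUnity A ℂ, hA]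
  have : Nontrivial (A →* ℂˣ) := Fintype.one_lt_card_iff_nontrivial.1 (by rw [hcard]; norm_num)
  obtain ⟨θ, hθ⟩ := exists_ne (1 : A →* ℂˣ)
  -- transitivity
  have horb : insert 1 (orb φ θ) = univ := by
    refine Finset.eq_univ_of_card _ ?_
    rw [hcard, Finset.card_insert_of_notMem (one_notMem_orb hT hθ)]
    have h1 := le_orb_sum hT he hθ (fun _ => 1) (fun _ => by norm_num) (fun _ _ => rfl)
    rw [Finset.sum_const, mul_one, he12] at h1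
    have h2 : (12 : ℤ) ≤ (orb φ θ).card := by simpa using h1
    have h3 := orb_card_le hT he θ
    omega
  have key : ∀ (χ : G → ℂ) (_ : IsIrrCharacter G χ) (μ0 : B →* ℂˣ) (_ : ∀ θ μ, μ ≠ μ0 → mul φ χ θ μ = 0),
      |dif φ χ θ μ0| ≤ 3 ∧ ∃ k : ℤ, χ 1 = ((13 * k - dif φ χ θ μ0 : ℤ) : ℂ) := by
    intro χ hχ μ0 hμ
    have := Fintype.ofFinite (B →* ℂˣ)
    have hall : ∀ η ∈ orb φ θ, mul φ χ η μ0 = mul φ χ θ μ0 := by
      intro η hη
      obtain ⟨x, hx, rfl⟩ := mem_orb.1 hη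
      have h1 := hT.mul_pow (isIrr_isCharacter hχ) hx θ μ0
      rw [mu_kap hT hB hx] at h1
      exact h1
    have hoc : (orb φ θ).card = 12 := by
      have h1 := congrArg Finset.card horb
      rw [Finset.card_insert_of_notMem (one_notMem_orb hT hθ), Finset.card_univ, hcard] at h1
      omega
    have hs : ∀ f : ℤ → ℤ, ∑ η, f (mul φ χ η μ0) = 12 * f (mul φ χ θ μ0) + f (mul φ χ 1 μ0) := by
      intro f
      rw [← horb, Finset.sum_insert (one_notMem_orb hT hθ), Finset.sum_congr rfl fun η hη => by rw [hall η hη],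
        Finset.sum_const, hoc]
      simp
      ring
    have h1 := hT.row hχ he
    rw [Finset.sum_eq_single μ0 (fun μ _ h => by
        rw [Finset.sum_congr rfl fun θ _ => by rw [hμ θ μ h]]; simp) (fun h => absurd (Finset.mem_univ _) h),
      Finset.sum_eq_single μ0 (fun μ _ h => by
        rw [Finset.sum_congr rfl fun θ _ => hμ θ μ h]; simp) (fun h => absurd (Finset.mem_univ _) h)] at h1
    have h2 := hs (fun z => z ^ 2)
    have h3 := hs (fun z => z)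
    rw [h2, h3, hA, he12] at h1
    have h4 : dif φ χ θ μ0 ^ 2 ≤ 13 := by
      rw [dif]
      push_cast at h1
      nlinarith
    refine ⟨?_, mul φ χ θ μ0, ?_⟩
    · rw [abs_le]; constructor <;> nlinarith
    · rw [degree_eq (φ := φ) (isIrr_isCharacter hχ), Finset.sum_eq_single μ0 (fun μ _ h => by
        rw [Finset.sum_congr rfl fun θ _ => hμ θ μ h]; simp) (fun h => absurd (Finset.mem_univ _) h), h3, dif]
      congr 1
      ring
  obtain ⟨ν, hν⟩ := CommGroup.exists_apply_ne_one_of_hasEnoughRootsOfUnity B ℂ hb0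
  have h1 := col_self hT hB he hθ ν
  have h2 : ∀ χ : IrrCharacter G, (4 : ℤ) ∣ dif φ χ θ ν ^ 2 := by
    intro χ
    obtain ⟨μχ, hμχ1, hμχ2⟩ := exists_cen hB χ.2
    by_cases hne : ν = μχ
    swap
    · rw [dif_eq_zero hμχ2 hne]; simp
    subst hne
    obtain ⟨ψ, hψ1, hψ2⟩ := h χ ⟨b0, by
      rw [hμχ1]
      intro hcon
      have h3 : ((ν b0 : ℂˣ) : ℂ) = 1 := by
        have h0 := isIrr_apply_one_ne_zero χ.2
        exact mul_left_cancel₀ h0 (by rw [hcon, mul_one])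
      exact hν (Units.ext h3)⟩
    obtain ⟨μψ, hμψ1, hμψ2⟩ := exists_cen hB ψ.2
    obtain ⟨ha, kχ, hkχ⟩ := key χ χ.2 ν hμχ2
    obtain ⟨hb, kψ, hkψ⟩ := key ψ ψ.2 μψ hμψ2
    have hcmp : 13 * kχ - dif φ χ θ ν = 2 * (13 * kψ - dif φ ψ θ μψ) := by
      have h3 := hψ2
      rw [hkχ, hkψ] at h3
      exact_mod_cast h3
    have ha' := abs_le.1 ha
    have hb' := abs_le.1 hb
    have h3 : dif φ χ θ ν = 2 * dif φ ψ θ μψ := by omega
    rw [h3]
    exact ⟨dif φ ψ θ μψ ^ 2, by ring⟩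
  have h3 : (4 : ℤ) ∣ ∑ χ : IrrCharacter G, dif φ χ θ ν ^ 2 := Finset.dvd_sum fun χ _ => h2 χ
  rw [h1, he12] at h3
  norm_num at h3

end Cfsg.Agent.H417.TorFalse
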