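import Cfsg.Agent.H417.Tricho
import Cfsg.Agent.S0813
import Cfsg.Agent.S0815

/-!
# The centralizer of a perfect normal subgroup (helper417)

* `card_mul_dvd`: `|X / Z(X)| |C_G(X)|` divides `|G|`;
* `index_dvd`: `|G : C_G(X)|` divides `|Aut(X / Z(X))|`;
* `exists_degree`: a degree goes down to `C_G(X)`.
-/

set_option autoImplicit false

namespace Cfsg.Agent.H417.CentQS

open Subgroup Cfsg
open scoped commutatorElement
open Cfsg.Agent.H417.Tricho
open Cfsg.Agent.H424.DegTools

universe u v

variable {G : Type u} [Group G]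

theorem relIndex_centralizer_self (X : Subgroup G) :
    (centralizer (X : Set G)).relIndex X = Nat.card (X ⧸ center X) := by
  have h1 : (centralizer (X : Set G)).subgroupOf X = center X := by
    ext x
    rw [mem_subgroupOf, mem_centralizer_iff, mem_center_iff]
    constructor
    · intro h g
      exact Subtype.ext (h g g.2)
    · intro h g hg
      exact congrArg Subtype.val (h ⟨g, hg⟩)
  rw [relIndex, h1]
  rfl

theorem card_mul_dvd [Finite G] (X : Subgroup G) [X.Normal] :
    Nat.card (X ⧸ center X) * Nat.card (centralizer (X : Set G)) ∣ Nat.card G := by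
  rw [← relIndex_centralizer_self X, ← (centralizer (X : Set G)).index_mul_card]
  exact Nat.mul_dvd_mul (relIndex_dvd_index_of_normal _ _) dvd_rfl

/-- an element acting trivially modulo the centre of a perfect normal subgroup -/
theorem mem_centralizer_of (X : Subgroup G) (hX : commutator X = ⊤) {g : G}
    (h : ∀ x ∈ X, g * x * g⁻¹ * x⁻¹ ∈ (center X).map X.subtype) : g ∈ centralizer (X : Set G) := by
  have h0 : (⁅X, X⁆ : Subgroup G) = X := by
    have h1 : (commutator X).map X.subtype = ⁅X, X⁆ := by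
      rw [_root_.commutator_def, Subgroup.map_commutator, ← MonoidHom.range_eq_map, Subgroup.range_subtype]
    rw [← h1, hX, ← MonoidHom.range_eq_map, Subgroup.range_subtype]
  have hz : ∀ z ∈ (center X).map X.subtype, ∀ x ∈ X, z * x = x * z := by
    rintro _ ⟨z, hz, rfl⟩ x hx
    exact (congrArg Subtype.val (mem_center_iff.1 hz ⟨x, hx⟩)).symm
  have hle : X ≤ centralizer ({g} : Set G) := by
    rw [← h0, commutator_le]
    intro a ha b hb
    rw [mem_centralizer_singleton_iff]
    obtain ⟨z, hzm, hza⟩ : ∃ z ∈ (center X).map X.subtype, g * a * g⁻¹ = z * a := ⟨_, h a ha, by group⟩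
    obtain ⟨w, hwm, hwb⟩ : ∃ z ∈ (center X).map X.subtype, g * b * g⁻¹ = z * b := ⟨_, h b hb, by group⟩
    have hX' : (center X).map X.subtype ≤ X := map_subtype_le _
    have h1 : g * ⁅a, b⁆ * g⁻¹ = ⁅g * a * g⁻¹, g * b * g⁻¹⁆ := by
      rw [commutatorElement_def, commutatorElement_def]; group
    have h2 : ⁅z * a, w * b⁆ = ⁅a, b⁆ := by
      have e1 : z * a = a * z := hz z hzm a ha
      have e2 : Commute z (w * b) := hz z hzm _ (X.mul_mem (hX' hwm) hb)
      have e3 : Commute w a := hz w hwm a ha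
      rw [commutatorElement_def, commutatorElement_def, mul_inv_rev, mul_inv_rev]
      calc z * a * (w * b) * (a⁻¹ * z⁻¹) * (b⁻¹ * w⁻¹) = a * (z * (w * b)) * (a⁻¹ * z⁻¹) * (b⁻¹ * w⁻¹) := by
            rw [e1]; group
        _ = a * (w * b) * (z * (a⁻¹ * z⁻¹)) * (b⁻¹ * w⁻¹) := by rw [e2.eq]; group
        _ = a * (w * b) * a⁻¹ * (b⁻¹ * w⁻¹) := by
            have : z * (a⁻¹ * z⁻¹) = a⁻¹ := by
              have h5 : Commute z a⁻¹ := (show Commute z a from hz z hzm a ha).inv_right
              rw [← mul_assoc, h5.eq]; group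
            rw [this]
        _ = w * (a * b * a⁻¹) * b⁻¹ * w⁻¹ := by
            have : a * (w * b) = w * (a * b) := by rw [← mul_assoc, ← e3.eq, mul_assoc]
            rw [this]; group
        _ = a * b * a⁻¹ * b⁻¹ := by
            have h5 : Commute w (a * b * a⁻¹ * b⁻¹) := hz w hwm _
              (X.mul_mem (X.mul_mem (X.mul_mem ha hb) (X.inv_mem ha)) (X.inv_mem hb))
            have h6 : w * (a * b * a⁻¹) * b⁻¹ * w⁻¹ = w * (a * b * a⁻¹ * b⁻¹) * w⁻¹ := by group
            rw [h6, h5.eq, mul_inv_cancel_right]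
    rw [hza, hwb, h2] at h1
    calc ⁅a, b⁆ * g = g * ⁅a, b⁆ * g⁻¹ * g := by rw [h1]
      _ = g * ⁅a, b⁆ := by group
  rw [mem_centralizer_iff]
  intro x hx
  exact mem_centralizer_singleton_iff.1 (hle hx)

theorem index_dvd [Finite G] (X : Subgroup G) [X.Normal] (hX : commutator X = ⊤) :
    (centralizer (X : Set G)).index ∣ Nat.card (MulAut (X ⧸ center X)) := by
  set Z : Subgroup G := (center X).map X.subtype with hZ
  obtain ⟨e⟩ := quot_equiv X Z hZ
  have hNn : (X.map (QuotientGroup.mk' Z)).Normal := Subgroup.Normal.map inferInstance _ (QuotientGroup.mk'_surjective Z)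
  let f : G →* MulAut (X.map (QuotientGroup.mk' Z)) :=
    (MulAut.conjNormal (H := X.map (QuotientGroup.mk' Z))).comp (QuotientGroup.mk' Z)
  have hker : f.ker ≤ centralizer (X : Set G) := by
    intro g hg
    rw [MonoidHom.mem_ker] at hg
    have h1 : ∀ x ∈ X, g * x * g⁻¹ * x⁻¹ ∈ Z := by
      intro x hx
      have h2 := congrArg (fun φ : MulAut (X.map (QuotientGroup.mk' Z)) =>
        ((φ ⟨QuotientGroup.mk' Z x, ⟨x, hx, rfl⟩⟩ : X.map (QuotientGroup.mk' Z)) : G ⧸ Z)) hg
      have h3 : QuotientGroup.mk' Z g * QuotientGroup.mk' Z x * (QuotientGroup.mk' Z g)⁻¹ = QuotientGroup.mk' Z x := by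
        simpa [f] using h2
      rw [← map_inv, ← map_mul, ← map_mul] at h3
      rw [← QuotientGroup.eq_one_iff]
      have h4 : QuotientGroup.mk' Z (g * x * g⁻¹ * x⁻¹) = 1 := by
        rw [map_mul, h3, map_inv, mul_inv_cancel]
      exact h4
    exact mem_centralizer_of X hX h1
  have h5 : f.ker.index ∣ Nat.card (MulAut (X.map (QuotientGroup.mk' Z))) := by
    rw [Subgroup.index_ker]
    exact card_subgroup_dvd_card _
  rw [Nat.card_congr (MulAut.congr e).toEquiv]
  exact (index_dvd_of_le hker).trans h5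

/-- degrees go down to the centralizer -/
theorem exists_degree [Finite G] (X : Subgroup G) [X.Normal] {d m : ℕ} (hd : d ∈ charDegrees G) (hm : m ∣ d)
    (hc : m.Coprime (centralizer (X : Set G)).index) :
    ∃ c ∈ charDegrees (centralizer (X : Set G)), m ∣ c ∧ c ∣ d := by
  obtain ⟨c, h1, h2, h3⟩ := clifford_down (centralizer (X : Set G)) hd
  refine ⟨c, h1, ?_, h2⟩
  have h4 : m ∣ c * (d / c) := by rw [Nat.mul_div_cancel' h2]; exact hm
  exact (Nat.Coprime.coprime_dvd_right h3 hc).dvd_of_dvd_mul_right h4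

end Cfsg.Agent.H417.CentQS
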