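import Cfsg.Agent.H417.QSTools
import Cfsg.Agent.H417.Tricho

/-!
# The trichotomy with the table of the simple groups (helper417)
-/

set_option autoImplicit false

namespace Cfsg.Agent.H417.Engine

open Subgroup Cfsg Cfsg.Agent.OrdDiv
open Cfsg.Agent.H424.DegTools
open Cfsg.Agent.H417.DegQuasi Cfsg.Agent.H417.Tricho
open Cfsg.Agent.H961.PrimeSection Cfsg.Agent.H961.Recog

universe u

/-- every candidate occurs once -/
def once (l : List (ℕ × ℕ)) (n : ℕ) : Bool := (cands l n).all fun g => n % (ordN g) ^ 2 != 0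

/-- no prime power `r ^ j ≡ 1` modulo `p` dividing `o` -/
def noPow (l : List (ℕ × ℕ)) (p o : ℕ) : Bool :=
  l.all fun x => x.1 == p || (List.range x.2).all fun i => x.1 ^ (i + 1) % p != 1 || o % x.1 ^ (i + 1) != 0

/-- the candidates which can occur -/
def bad (l : List (ℕ × ℕ)) (n p : ℕ) : List Grp :=
  (cands l n).filter fun g => !(ordN g % p != 0 && noPow l p (ordN g))

/-- only powers of `2` are congruent to one modulo `p` -/
def onlyTwo (l : List (ℕ × ℕ)) (p : ℕ) : Bool :=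
  l.all fun x => x.1 == 2 || x.1 == p || (List.range x.2).all fun i => x.1 ^ (i + 1) % p != 1

/-- not even powers of `2` -/
def nonePow (l : List (ℕ × ℕ)) (p : ℕ) : Bool :=
  l.all fun x => x.1 == p || (List.range x.2).all fun i => x.1 ^ (i + 1) % p != 1

theorem noPow_of {l : List (ℕ × ℕ)} {n p o : ℕ} (hv : valid l n = true) (h : noPow l p o = true) {r j : ℕ}
    (hr : r.Prime) (hrp : r ≠ p) (hj : 1 ≤ j) (hn : r ^ j ∣ n) (ho : r ^ j ∣ o) : r ^ j % p ≠ 1 := by
  intro h1
  obtain ⟨k, hk, hjk⟩ := exists_pair hv hr hj hn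
  have h2 := (List.all_eq_true.1 h) _ hk
  rw [Bool.or_eq_true] at h2
  rcases h2 with h2 | h2
  · exact hrp (by simpa using h2)
  · have h3 := (List.all_eq_true.1 h2) (j - 1) (List.mem_range.2 (by simp only; omega))
    simp only [Nat.sub_add_cancel hj, Bool.or_eq_true, bne_iff_ne, ne_eq] at h3
    rcases h3 with h3 | h3
    · exact h3 h1
    · exact h3 (Nat.mod_eq_zero_of_dvd ho)

theorem onlyTwo_of {l : List (ℕ × ℕ)} {n p : ℕ} (hv : valid l n = true) (h : onlyTwo l p = true) {r j : ℕ}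
    (hr : r.Prime) (hrp : r ≠ p) (hj : 1 ≤ j) (hn : r ^ j ∣ n) (h1 : r ^ j % p = 1) : r = 2 := by
  by_contra h20
  obtain ⟨k, hk, hjk⟩ := exists_pair hv hr hj hn
  have h2 := (List.all_eq_true.1 h) _ hk
  rw [Bool.or_eq_true, Bool.or_eq_true] at h2
  rcases h2 with (h2 | h2) | h2
  · exact h20 (by simpa using h2)
  · exact hrp (by simpa using h2)
  · have h3 := (List.all_eq_true.1 h2) (j - 1) (List.mem_range.2 (by simp only; omega))
    simp only [Nat.sub_add_cancel hj, bne_iff_ne, ne_eq] at h3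
    exact h3 h1

theorem nonePow_of {l : List (ℕ × ℕ)} {n p : ℕ} (hv : valid l n = true) (h : nonePow l p = true) {r j : ℕ}
    (hr : r.Prime) (hrp : r ≠ p) (hj : 1 ≤ j) (hn : r ^ j ∣ n) : r ^ j % p ≠ 1 := by
  intro h1
  obtain ⟨k, hk, hjk⟩ := exists_pair hv hr hj hn
  have h2 := (List.all_eq_true.1 h) _ hk
  rw [Bool.or_eq_true] at h2
  rcases h2 with h2 | h2
  · exact hrp (by simpa using h2)
  · have h3 := (List.all_eq_true.1 h2) (j - 1) (List.mem_range.2 (by simp only; omega))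
    simp only [Nat.sub_add_cancel hj, bne_iff_ne, ne_eq] at h3
    exact h3 h1

variable {G : Type u} [Group G]

/-- **The engine.** -/
theorem engine [Finite G] (T : OrderTable.{u}) (hK : ∀ (K : Type u) [Group K] [Finite K] [IsSimpleGroup K],
    IsKnownSimple' K) {p n : ℕ} [hp : Fact p.Prime] {l : List (ℕ × ℕ)} (hv : valid l n = true)
    (ho : once l n = true) (hd : Nat.card G ∣ n) (P : Sylow p G) (hP : Nat.card P = p)
    (hn : ¬ (P : Subgroup G).Normal) :
    ∃ X : Subgroup G, X.Normal ∧ ¬ X ≤ centralizer ((P : Subgroup G) : Set G) ∧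
      ((∃ r, r.Prime ∧ r ≠ p ∧ IsPGroup r X ∧ ∃ j, 1 ≤ j ∧ r ^ j ∣ Nat.card G ∧ r ^ j % p = 1) ∨
      (commutator X = ⊤ ∧ IsSimpleGroup (X ⧸ center X) ∧ (¬ ∀ a b : X ⧸ center X, a * b = b * a) ∧
        ∃ g ∈ bad l n p, Real g (X ⧸ center X) ∧ Nat.card (X ⧸ center X) = ordN g ∧
          (QS G p X ∨ ¬ p ∣ Nat.card X))) := by
  obtain ⟨X, hX, hXc, h⟩ := tricho P hP hn
  refine ⟨X, hX, hXc, ?_⟩
  rcases h with ⟨r, hr, hrp, hXr, j, hj, hjd, hj1⟩ | ⟨hper, T', _, _, m, hs, hna, hm, ⟨e⟩, h⟩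
  · exact Or.inl ⟨r, hr, hrp, hXr, j, hj, hjd.trans (card_subgroup_dvd_card X), hj1⟩
  · right
    have hcard : Nat.card (X ⧸ center X) = Nat.card T' ^ m := by
      rw [Nat.card_congr e.toEquiv, Nat.card_fun, Nat.card_fin]
    have hXn : Nat.card (X ⧸ center X) ∣ n :=
      (card_quotient_dvd_card _).trans ((card_subgroup_dvd_card X).trans hd)
    have hTn : Nat.card T' ∣ n := by
      refine dvd_trans ?_ hXn
      rw [hcard]
      exact dvd_pow_self _ (by omega)
    obtain ⟨g, hg, hr, hgo⟩ := exists_good T (hK T') hna hv hTn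
    have hm1 : m = 1 := by
      by_contra hne
      have h1 := (List.all_eq_true.1 ho) g hg
      rw [bne_iff_ne] at h1
      apply h1
      apply Nat.mod_eq_zero_of_dvd
      rw [← hgo]
      refine dvd_trans ?_ hXn
      rw [hcard]
      exact pow_dvd_pow _ (by omega)
    subst hm1
    have e3 : X ⧸ center X ≃* T' := e.trans (MulEquiv.piUnique (fun _ : Fin 1 => (T' : Type u)))
    have hsim : IsSimpleGroup (X ⧸ center X) := by
      have : Nontrivial (X ⧸ center X) := e3.toEquiv.nontrivial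
      exact IsSimpleGroup.isSimpleGroup_of_surjective e3.symm.toMonoidHom e3.symm.surjective
    have hXna : ¬ ∀ a b : X ⧸ center X, a * b = b * a := by
      intro h1
      apply hna
      intro a b
      apply e3.symm.injective
      rw [map_mul, map_mul]
      exact h1 _ _
    rw [pow_one] at hcard
    obtain ⟨g, hg, hr, hgo⟩ := exists_good T (hK (X ⧸ center X)) hXna hv hXn
    refine ⟨hper, hsim, hXna, g, ?_, hr, hgo, ?_⟩
    · rw [bad, List.mem_filter]
      refine ⟨hg, ?_⟩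
      rw [Bool.not_eq_true', ← Bool.not_eq_true]
      intro h1
      rw [Bool.and_eq_true, bne_iff_ne] at h1
      rcases h with ⟨h, -⟩ | ⟨-, r, j, hr, hrp, hj, hjd, hj1⟩
      · apply h1.1
        apply Nat.mod_eq_zero_of_dvd
        rw [← hgo]
        exact h.dvd
      · rw [pow_one, ← hcard, hgo] at hjd
        exact noPow_of hv h1.2 hr hrp hj (hjd.trans (hgo ▸ hXn)) hjd hj1
    · rcases h with ⟨h, -⟩ | ⟨h, -⟩
      · exact Or.inl h
      · exact Or.inr h

/-- the engine with powers of two only -/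
theorem engine_two [Finite G] (T : OrderTable.{u}) (hK : ∀ (K : Type u) [Group K] [Finite K] [IsSimpleGroup K],
    IsKnownSimple' K) {p n : ℕ} [hp : Fact p.Prime] {l : List (ℕ × ℕ)} (hv : valid l n = true)
    (ho : once l n = true) (h2 : onlyTwo l p = true) (hd : Nat.card G ∣ n) (P : Sylow p G) (hP : Nat.card P = p)
    (hn : ¬ (P : Subgroup G).Normal) :
    ∃ X : Subgroup G, X.Normal ∧ ¬ X ≤ centralizer ((P : Subgroup G) : Set G) ∧
      (IsPGroup 2 X ∨
      (commutator X = ⊤ ∧ IsSimpleGroup (X ⧸ center X) ∧ (¬ ∀ a b : X ⧸ center X, a * b = b * a) ∧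
        ∃ g ∈ bad l n p, Real g (X ⧸ center X) ∧ Nat.card (X ⧸ center X) = ordN g ∧
          (QS G p X ∨ ¬ p ∣ Nat.card X))) := by
  obtain ⟨X, hX, hXc, h⟩ := engine T hK hv ho hd P hP hn
  refine ⟨X, hX, hXc, ?_⟩
  rcases h with ⟨r, hr, hrp, hXr, j, hj, hjd, hj1⟩ | h
  · left
    rwa [← onlyTwo_of hv h2 hr hrp hj (hjd.trans hd) hj1]
  · exact Or.inr h

/-- normality from the engine -/
theorem normal_of [Finite G] (T : OrderTable.{u}) (hK : ∀ (K : Type u) [Group K] [Finite K] [IsSimpleGroup K],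
    IsKnownSimple' K) {p n : ℕ} [hp : Fact p.Prime] {l : List (ℕ × ℕ)} (hv : valid l n = true)
    (ho : once l n = true) (h2 : nonePow l p = true) (hb : bad l n p = []) (hd : Nat.card G ∣ n) (P : Sylow p G)
    (hP : Nat.card P = p) : (P : Subgroup G).Normal := by
  by_contra hn
  obtain ⟨X, hX, hXc, h⟩ := engine T hK hv ho hd P hP hn
  rcases h with ⟨r, hr, hrp, hXr, j, hj, hjd, hj1⟩ | ⟨-, -, -, g, hg, -⟩
  · exact nonePow_of hv h2 hr hrp hj (hjd.trans hd) hj1
  · rw [hb] at hg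
    exact List.not_mem_nil hg

/-- a Sylow subgroup of order `p` is not normal if `p` divides a degree -/
theorem not_normal [Finite G] {p : ℕ} [hp : Fact p.Prime] {d : ℕ} (hd : d ∈ charDegrees G) (hpd : p ∣ d)
    (P : Sylow p G) (hP : Nat.card P = p) : ¬ (P : Subgroup G).Normal := by
  intro hn
  have hc : IsCyclic (P : Subgroup G) := isCyclic_of_prime_card hP
  have h3 := ito hd (P : Subgroup G) (fun a ha b hb =>
    congrArg Subtype.val ((IsCyclic.isMulCommutative (α := (P : Subgroup G))).is_comm.comm ⟨a, ha⟩ ⟨b, hb⟩))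
  exact P.not_dvd_index (hpd.trans h3)

end Cfsg.Agent.H417.Engine
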