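import Cfsg.Agent.H417.PairPQ
import Cfsg.Agent.ClassicalGeometry.PSL2Basic

/-!
# Groups of the order of `J₄` : the cases of a quasisimple normal subgroup over `U₃(11)` or `L₂(29)` (helper417)
-/

set_option autoImplicit false

namespace Cfsg.Agent.H417.JFourCase

open Subgroup Cfsg Cfsg.Agent.OrdDiv
open Cfsg.Agent.H424.DegTools
open Cfsg.Agent.H417.DegQuasi Cfsg.Agent.H417.QSTools Cfsg.Agent.H417.Tricho Cfsg.Agent.H417.Engine
open Cfsg.Agent.H417.CommPQ Cfsg.Agent.H417.TwoNum Cfsg.Agent.H417.CentQS Cfsg.Agent.H417.PairPQ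

universe u

/-- the order of `J₄` -/
def NJ : ℕ := 86775571046077562880

/-- factorizations -/
def lN : List (ℕ × ℕ) := [(2,21),(3,3),(5,1),(7,1),(11,3),(23,1),(29,1),(31,1),(37,1),(43,1)]
/-- factorization of `|J₄| / |U₃(11)|` -/
def lU : List (ℕ × ℕ) := [(2,16),(3,1),(7,1),(23,1),(29,1),(31,1),(43,1)]
/-- `|J₄| / |U₃(11)|` -/
def nU : ℕ := 1223644348416
/-- factorization of `|J₄| / |L₂(29)|` -/
def lL : List (ℕ × ℕ) := [(2,19),(3,2),(11,3),(23,1),(31,1),(37,1),(43,1)]
/-- `|J₄| / |L₂(29)|` -/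
def nL : ℕ := 7124431120367616
/-- divided by `|L₂(23)|` -/
def lL1 : List (ℕ × ℕ) := [(2,16),(3,1),(11,2),(31,1),(37,1),(43,1)]
/-- divided by `|L₂(23)|` -/
def nL1 : ℕ := 1173325283328
/-- divided by `|L₂(32)|` -/
def lL2 : List (ℕ × ℕ) := [(2,11),(11,1),(37,1),(43,1)]
/-- divided by `|L₂(32)|` -/
def nL2 : ℕ := 35842048

theorem valid_N : valid lN NJ = true := by decide +kernel
theorem valid_U : valid lU nU = true := by decide +kernel
theorem valid_L : valid lL nL = true := by decide +kernel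
theorem valid_L1 : valid lL1 nL1 = true := by decide +kernel
theorem valid_L2 : valid lL2 nL2 = true := by decide +kernel
theorem once_N : once lN NJ = true := by decide +kernel
theorem once_U : once lU nU = true := by decide +kernel
theorem once_L : once lL nL = true := by decide +kernel
theorem once_L1 : once lL1 nL1 = true := by decide +kernel
theorem once_L2 : once lL2 nL2 = true := by decide +kernel

section aut

variable {S : Type u} [Group S]

theorem aut_psl {q p f : ℕ} [Fact p.Prime] (hf : 1 ≤ f) (hq : q = p ^ f) (h4 : 4 ≤ q) (hr : Real (.psl 2 q) S) :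
    Nat.card (MulAut S) = f * (q * (q ^ 2 - 1)) := by
  obtain ⟨F, _, _, hF, ⟨e⟩⟩ := hr
  rw [Nat.card_congr (MulAut.congr e).toEquiv, S0813.result (F := F) p f hf (hF.trans hq) 2 le_rfl
    (fun _ => by rw [← hq]; exact h4), if_pos rfl, one_mul]
  rw [ClassicalGeometry.PSL2Basic.card_PGL2, hF]

theorem aut_psu (hr : Real (.psu 3 11) S) : Nat.card (MulAut S) = 6 * Nat.card S := by
  obtain ⟨F, _, _, hF, ⟨e⟩⟩ := hr
  have : Fact (Nat.Prime 11) := ⟨by norm_num⟩
  rw [Nat.card_congr (MulAut.congr e).toEquiv, Nat.card_congr e.toEquiv,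
    S0815.result (F := F) 11 1 le_rfl (q := 11) (by norm_num) hF 3 le_rfl (by norm_num)]
  norm_num

end aut

variable {G : Type u} [Group G] [Finite G]

/-- divisibility of the order of the centralizer -/
theorem card_dvd {X : Subgroup G} (hX : X.Normal) {n m k : ℕ} (hd : Nat.card G ∣ n)
    (hk : Nat.card (X ⧸ center X) = k) (hn : n = k * m) (hk0 : 0 < k) :
    Nat.card (centralizer (X : Set G)) ∣ m := by
  have h1 := (card_mul_dvd X).trans hd
  rw [hk, hn] at h1
  exact Nat.dvd_of_mul_dvd_mul_left hk0 h1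

/-- **`U₃(11)`**, the centralizer: no characters of degree divisible by `31`, `43` -/
theorem false_U (T : OrderTable.{u}) (hK : ∀ (K : Type u) [Group K] [Finite K] [IsSimpleGroup K],
    IsKnownSimple' K) (hd : Nat.card G ∣ nU) (h43 : 43 ∣ Nat.card G) (h31 : 31 ∣ Nat.card G)
    (hP : ∀ P : Sylow 43 G, ¬ (P : Subgroup G).Normal) (hQ : ∀ P : Sylow 31 G, ¬ (P : Subgroup G).Normal) : False :=
  pair_false T hK valid_U once_U (by decide +kernel) (by decide +kernel) (by decide +kernel) (by decide +kernel) hd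
    (by decide +kernel) (by decide +kernel) (by decide +kernel) h43 h31 hP hQ

theorem sylow_card {p n : ℕ} [hp : Fact p.Prime] (hd : Nat.card G ∣ n) (hn : ¬ p ^ 2 ∣ n) (h : p ∣ Nat.card G)
    (P : Sylow p G) : Nat.card P = p := CommPQ.card_sylow h (fun h' => hn (h'.trans hd)) P

theorem not_normal' {p n : ℕ} [hp : Fact p.Prime] (hdn : Nat.card G ∣ n) (hn : ¬ p ^ 2 ∣ n) {d : ℕ}
    (hd : d ∈ charDegrees G) (hpd : p ∣ d) (P : Sylow p G) : ¬ (P : Subgroup G).Normal :=
  not_normal hd hpd P (sylow_card hdn hn (hpd.trans (H424.DegTools.dvd_card hd)) P)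

theorem case_D (T : OrderTable.{u}) (hK : ∀ (K : Type u) [Group K] [Finite K] [IsSimpleGroup K],
    IsKnownSimple' K) (hN : Nat.card G = NJ) {L : Subgroup G} (hL : QS G 37 L) (hr : Real (.psu 3 11) (L ⧸ center L))
    (ho : Nat.card (L ⧸ center L) = 70915680) {d : ℕ} (hd : d ∈ charDegrees G) (hdd : 31 * 43 ∣ d) : False := by
  have hLn := hL.normal
  have hC : Nat.card (centralizer (L : Set G)) ∣ nU := card_dvd hLn (hN.dvd) ho (by decide +kernel) (by norm_num)
  have hA : (centralizer (L : Set G)).index ∣ 6 * 70915680 := by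
    rw [← ho, ← aut_psu hr]
    exact index_dvd L hL.perf
  obtain ⟨c, hc, hc1, -⟩ := exists_degree L hd hdd (Nat.Coprime.coprime_dvd_right hA (by norm_num))
  have h1 : 31 ∣ c := (dvd_mul_right 31 43).trans hc1
  have h2 : 43 ∣ c := (dvd_mul_left 43 31).trans hc1
  exact false_U T hK hC (h2.trans (H424.DegTools.dvd_card hc)) (h1.trans (H424.DegTools.dvd_card hc))
    (not_normal' hC (by decide +kernel) hc h2) (not_normal' hC (by decide +kernel) hc h1)

/-- **`L₂(32)`** -/
theorem case_L32 (T : OrderTable.{u}) (hK : ∀ (K : Type u) [Group K] [Finite K] [IsSimpleGroup K],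
    IsKnownSimple' K) (hN : Nat.card G ∣ nL1) {L : Subgroup G} (hLn : L.Normal) (hp : commutator L = ⊤)
    (hr : Real (.psl 2 32) (L ⧸ center L))
    (ho : Nat.card (L ⧸ center L) = 32736) {d : ℕ} (hd : d ∈ charDegrees G) (hdd : 43 ∣ d) : False := by
  have f2 : Fact (Nat.Prime 2) := ⟨Nat.prime_two⟩
  have hC : Nat.card (centralizer (L : Set G)) ∣ nL2 := card_dvd hLn hN ho (by decide +kernel) (by norm_num)
  have hA : (centralizer (L : Set G)).index ∣ 5 * (32 * (32 ^ 2 - 1)) := by
    rw [← aut_psl (p := 2) (f := 5) (by norm_num) (by norm_num) (by norm_num) hr]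
    exact index_dvd L hp
  obtain ⟨c, hc, hc1, -⟩ := exists_degree L hd hdd (Nat.Coprime.coprime_dvd_right hA (by norm_num))
  have h43 : 43 ∣ Nat.card (centralizer (L : Set G)) := hc1.trans (H424.DegTools.dvd_card hc)
  obtain ⟨P⟩ : Nonempty (Sylow 43 (centralizer (L : Set G))) := inferInstance
  obtain ⟨X, hX, hXc, h⟩ := engine T hK valid_L2 once_L2 hC P (sylow_card hC (by decide +kernel) h43 P)
    (not_normal' hC (by decide +kernel) hc hc1 P)
  rcases h with ⟨r, hr1, hrp, hXr, j, hj, hjd, hj1⟩ | ⟨-, -, -, g, hg, -⟩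
  · exact nonePow_of valid_L2 (by decide +kernel) hr1 hrp hj (hjd.trans hC) hj1
  · rw [show bad lL2 nL2 43 = [] by decide +kernel] at hg
    exact List.not_mem_nil hg

/-- **`L₂(23)`** -/
theorem case_L23 (T : OrderTable.{u}) (hK : ∀ (K : Type u) [Group K] [Finite K] [IsSimpleGroup K],
    IsKnownSimple' K) (hN : Nat.card G ∣ nL) {L : Subgroup G} (hLn : L.Normal) (hp : commutator L = ⊤)
    (hr : Real (.psl 2 23) (L ⧸ center L))
    (ho : Nat.card (L ⧸ center L) = 6072) {d : ℕ} (hd : d ∈ charDegrees G) (hdd : 31 * 43 ∣ d) : False := by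
  have hC : Nat.card (centralizer (L : Set G)) ∣ nL1 := card_dvd hLn hN ho (by decide +kernel) (by norm_num)
  have hA : (centralizer (L : Set G)).index ∣ 1 * (23 * (23 ^ 2 - 1)) := by
    rw [← aut_psl (p := 23) (f := 1) (by norm_num) (by norm_num) (by norm_num) hr]
    exact index_dvd L hp
  obtain ⟨c, hc, hc1, -⟩ := exists_degree L hd hdd (Nat.Coprime.coprime_dvd_right hA (by norm_num))
  have d31 : 31 ∣ c := (dvd_mul_right 31 43).trans hc1
  have d43 : 43 ∣ c := (dvd_mul_left 43 31).trans hc1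
  have h43 : 43 ∣ Nat.card (centralizer (L : Set G)) := d43.trans (H424.DegTools.dvd_card hc)
  have h31 : 31 ∣ Nat.card (centralizer (L : Set G)) := d31.trans (H424.DegTools.dvd_card hc)
  obtain ⟨y, x, hy, hx, hyx⟩ := exists_com (p := 31) (q := 43) T hK valid_L1 (by decide +kernel) (by norm_num)
    (by norm_num) (by norm_num) hC h31 h43 (by decide +kernel) (by decide +kernel)
  obtain ⟨P, hPx, hPc⟩ := sylow_of hx (fun h => absurd (h.trans hC) (by decide +kernel))
  obtain ⟨Q, hQy, hQc⟩ := sylow_of hy (fun h => absurd (h.trans hC) (by decide +kernel))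
  obtain ⟨X, hX, hXc, h1⟩ := engine_two T hK valid_L1 once_L1 (by decide +kernel) hC P hPc
    (not_normal' hC (by decide +kernel) hc d43 P)
  obtain ⟨Y, hY, hYc, h2⟩ := engine_two T hK valid_L1 once_L1 (by decide +kernel) hC Q hQc
    (not_normal' hC (by decide +kernel) hc d31 Q)
  rw [hPx] at hXc
  rw [hQy] at hYc
  rcases h1 with h1 | ⟨-, -, -, g, hg, -⟩
  · rcases h2 with h2 | ⟨hYp, -, -, g, hg, hgr, hgo, -⟩
    · exact absurd ((dvd_of_pair hx hy hyx.symm X Y hX hY h1 h2 hXc hYc).trans hC) (by decide +kernel)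
    · rw [show bad lL1 nL1 31 = [.psl 2 32] by decide +kernel, List.mem_singleton] at hg
      subst hg
      exact case_L32 T hK hC hY hYp hgr (by rw [hgo]; decide +kernel) hc d43
  · rw [show bad lL1 nL1 43 = [] by decide +kernel] at hg
    exact List.not_mem_nil hg

/-- **`L₂(29)`**, the centralizer -/
theorem false_L (T : OrderTable.{u}) (hK : ∀ (K : Type u) [Group K] [Finite K] [IsSimpleGroup K],
    IsKnownSimple' K) (hN : Nat.card G ∣ nL) {d : ℕ} (hd : d ∈ charDegrees G) (hdd : 23 * (31 * 43) ∣ d) : False := by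
  have d23 : 23 ∣ d := (dvd_mul_right _ _).trans hdd
  have d31 : 31 ∣ d := ((dvd_mul_right 31 43).trans (dvd_mul_left _ _)).trans hdd
  have d43 : 43 ∣ d := ((dvd_mul_left 43 31).trans (dvd_mul_left _ _)).trans hdd
  have h43 := d43.trans (H424.DegTools.dvd_card hd)
  have h23 := d23.trans (H424.DegTools.dvd_card hd)
  obtain ⟨y, x, hy, hx, hyx⟩ := exists_com (p := 23) (q := 43) T hK valid_L (by decide +kernel) (by norm_num)
    (by norm_num) (by norm_num) hN h23 h43 (by decide +kernel) (by decide +kernel)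
  obtain ⟨P, hPx, hPc⟩ := sylow_of hx (fun h => absurd (h.trans hN) (by decide +kernel))
  obtain ⟨Q, hQy, hQc⟩ := sylow_of hy (fun h => absurd (h.trans hN) (by decide +kernel))
  obtain ⟨X, hX, hXc, h1⟩ := engine_two T hK valid_L once_L (by decide +kernel) hN P hPc
    (not_normal' hN (by decide +kernel) hd d43 P)
  obtain ⟨Y, hY, hYc, h2⟩ := engine_two T hK valid_L once_L (by decide +kernel) hN Q hQc
    (not_normal' hN (by decide +kernel) hd d23 Q)
  rw [hPx] at hXc
  rw [hQy] at hYc
  rcases h1 with h1 | ⟨-, -, -, g, hg, -⟩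
  · rcases h2 with h2 | ⟨hYp, -, -, g, hg, hgr, hgo, -⟩
    · exact absurd ((dvd_of_pair' hx hy hyx.symm X Y hX hY h1 h2 hXc hYc).trans hN) (by decide +kernel)
    · rw [show bad lL nL 23 = [.psl 2 23] by decide +kernel, List.mem_singleton] at hg
      subst hg
      exact case_L23 T hK hN hY hYp hgr (by rw [hgo]; decide +kernel) hd ((dvd_mul_left _ _).trans hdd)
  · rw [show bad lL nL 43 = [] by decide +kernel] at hg
    exact List.not_mem_nil hg

theorem case_C (T : OrderTable.{u}) (hK : ∀ (K : Type u) [Group K] [Finite K] [IsSimpleGroup K],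
    IsKnownSimple' K) (hN : Nat.card G = NJ) {L : Subgroup G} (hL : QS G 29 L) (hr : Real (.psl 2 29) (L ⧸ center L))
    (ho : Nat.card (L ⧸ center L) = 12180) {d : ℕ} (hd : d ∈ charDegrees G) (hdd : 23 * (31 * 43) ∣ d) : False := by
  have hLn := hL.normal
  have hC : Nat.card (centralizer (L : Set G)) ∣ nL := card_dvd hLn (hN.dvd) ho (by decide +kernel) (by norm_num)
  have hA : (centralizer (L : Set G)).index ∣ 1 * (29 * (29 ^ 2 - 1)) := by
    rw [← aut_psl (p := 29) (f := 1) (by norm_num) (by norm_num) (by norm_num) hr]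
    exact index_dvd L hL.perf
  obtain ⟨c, hc, hc1, -⟩ := exists_degree L hd hdd (Nat.Coprime.coprime_dvd_right hA (by norm_num))
  exact false_L T hK hC hc hc1

end Cfsg.Agent.H417.JFourCase
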