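import Cfsg.Agent.H417.JFourCase

/-!
# Groups of the order of `J₄` : two more cases (helper417)
-/

set_option autoImplicit false

namespace Cfsg.Agent.H417.JFourCaseE

open Subgroup Cfsg Cfsg.Agent.OrdDiv
open Cfsg.Agent.H424.DegTools
open Cfsg.Agent.H417.DegQuasi Cfsg.Agent.H417.QSTools Cfsg.Agent.H417.Tricho Cfsg.Agent.H417.Engine
open Cfsg.Agent.H417.CommPQ Cfsg.Agent.H417.TwoNum Cfsg.Agent.H417.CentQS Cfsg.Agent.H417.PairPQ
open Cfsg.Agent.H417.JFourCase

universe u

variable {G : Type u} [Group G] [Finite G]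

theorem case_A (hN : Nat.card G = NJ) {L M : Subgroup G} (hL : QS G 29 L) (hr : Real (.psl 2 29) (L ⧸ center L))
    (ho : Nat.card (L ⧸ center L) = 12180) (hM : QS G 37 M) (ho' : Nat.card (M ⧸ center M) = 70915680) : False := by
  have hLn := hL.normal
  have hC : Nat.card (centralizer (L : Set G)) ∣ nL := card_dvd hLn (hN.dvd) ho (by decide +kernel) (by norm_num)
  have hA : (centralizer (L : Set G)).index ∣ 1 * (29 * (29 ^ 2 - 1)) := by
    rw [← aut_psl (p := 29) (f := 1) (by norm_num) (by norm_num) (by norm_num) hr]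
    exact index_dvd L hL.perf
  have h37 : 37 ∣ Nat.card (centralizer (L : Set G)) := by
    have h1 := (centralizer (L : Set G)).card_mul_index
    have h2 : 37 ∣ Nat.card (centralizer (L : Set G)) * (centralizer (L : Set G)).index := by
      rw [h1, hN]; decide +kernel
    rcases (Nat.Prime.dvd_mul (by norm_num)).1 h2 with h3 | h3
    · exact h3
    · exact absurd (h3.trans hA) (by norm_num)
  have h1 := hM.le _ inferInstance h37
  have h2 : 70915680 ∣ nL := by
    rw [← ho']
    exact (card_quotient_dvd_card _).trans ((card_dvd_of_le h1).trans hC)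
  revert h2
  decide +kernel

theorem index_inf_dvd (A B : Subgroup G) [A.Normal] [B.Normal] : (A ⊓ B).index ∣ A.index * B.index := by
  have h1 : (A ⊓ B).relIndex A * A.index = (A ⊓ B).index := relIndex_mul_index inf_le_left
  rw [inf_relIndex_left] at h1
  rw [← h1, mul_comm A.index]
  exact Nat.mul_dvd_mul (relIndex_dvd_index_of_normal _ _) dvd_rfl

/-- the centralizer of a normal subgroup of prime order -/
theorem index_centralizer_dvd {p : ℕ} (hp : p.Prime) (A : Subgroup G) [A.Normal] (hA : Nat.card A = p) :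
    (centralizer (A : Set G)).index ∣ p - 1 := by
  have := Fact.mk hp
  have hcyc : IsCyclic A := isCyclic_of_prime_card hA
  let f : G →* MulAut A := MulAut.conjNormal
  have hk : f.ker ≤ centralizer (A : Set G) := by
    intro g hg
    rw [mem_centralizer_iff]
    intro a ha
    have h1 := congrArg (fun φ : MulAut A => ((φ ⟨a, ha⟩ : A) : G)) (MonoidHom.mem_ker.1 hg)
    have h2 : g * a * g⁻¹ = a := by simpa [f] using h1
    calc a * g = g * a * g⁻¹ * g := by rw [h2]
      _ = g * a := by group
  have h4 : Nat.card (MulAut A) = p - 1 := by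
    rw [IsCyclic.card_mulAut, hA, Nat.totient_prime hp]
  rw [← h4]
  refine (index_dvd_of_le hk).trans ?_
  rw [Subgroup.index_ker]
  exact card_subgroup_dvd_card _

theorem comm_of_prime {p : ℕ} (hp : p.Prime) (A : Subgroup G) (hA : Nat.card A = p) : A ≤ centralizer (A : Set G) := by
  have := Fact.mk hp
  have hcyc : IsCyclic A := isCyclic_of_prime_card hA
  intro a ha
  rw [mem_centralizer_iff]
  intro b hb
  exact congrArg Subtype.val ((IsCyclic.isMulCommutative (α := A)).is_comm.comm ⟨b, hb⟩ ⟨a, ha⟩)

/-- normal subgroups of coprime orders commute -/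
theorem comm_of_coprime (A B : Subgroup G) [A.Normal] [B.Normal] (h : (Nat.card A).Coprime (Nat.card B)) :
    A ≤ centralizer (B : Set G) := by
  rw [← commutator_eq_bot_iff_le_centralizer, eq_bot_iff]
  refine (commutator_le_inf A B).trans ?_
  rw [inf_eq_bot_of_coprime h]

theorem case_E (T : OrderTable.{u}) (hK : ∀ (K : Type u) [Group K] [Finite K] [IsSimpleGroup K],
    IsKnownSimple' K) (hN : Nat.card G = NJ) {L : Subgroup G} (hL : QS G 37 L) (hr : Real (.psu 3 11) (L ⧸ center L))
    (ho : Nat.card (L ⧸ center L) = 70915680) (hd : 3781980160 ∈ charDegrees G) : False := by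
  have hLn := hL.normal
  set C := centralizer (L : Set G) with hCdef
  have hC : Nat.card C ∣ nU := card_dvd hLn (hN.dvd) ho (by decide +kernel) (by norm_num)
  have hA : C.index ∣ 6 * 70915680 := by
    rw [← ho, ← aut_psu hr]
    exact index_dvd L hL.perf
  obtain ⟨c, hc, hc1, -⟩ := exists_degree L (m := 31) hd (by norm_num) (Nat.Coprime.coprime_dvd_right hA (by norm_num))
  have hdvC : ∀ p : ℕ, p.Prime → p ∣ NJ → ¬ p ∣ 6 * 70915680 → p ∣ Nat.card C := by
    intro p hp h1 h2
    have h3 : p ∣ Nat.card C * C.index := by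
      rw [C.card_mul_index, hN]; exact h1
    rcases hp.dvd_mul.1 h3 with h4 | h4
    · exact h4
    · exact absurd (h4.trans hA) h2
  have h43 : 43 ∣ Nat.card C := hdvC 43 (by norm_num) (by decide +kernel) (by norm_num)
  have h29 : 29 ∣ Nat.card C := hdvC 29 (by norm_num) (by decide +kernel) (by norm_num)
  -- the Sylow `43`-subgroup
  obtain ⟨P, hP⟩ : ∃ P : Sylow 43 C, (P : Subgroup C).Normal := by
    by_contra hcon
    push Not at hcon
    exact false_U T hK hC h43 (hc1.trans (H424.DegTools.dvd_card hc)) hcon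
      (not_normal' hC (by decide +kernel) hc hc1)
  obtain ⟨Q⟩ : Nonempty (Sylow 29 C) := inferInstance
  have hPc : Nat.card P = 43 := sylow_card hC (by decide +kernel) h43 P
  have hQc : Nat.card Q = 29 := sylow_card hC (by decide +kernel) h29 Q
  have hQ : (Q : Subgroup C).Normal := normal_of T hK valid_U once_U (by decide +kernel) (by decide +kernel) hC Q hQc
  have hP' : (P : Subgroup C).Characteristic := Sylow.characteristic_of_normal _ hP
  have hQ' : (Q : Subgroup C).Characteristic := Sylow.characteristic_of_normal _ hQ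
  set A : Subgroup G := (P : Subgroup C).map C.subtype with hAdef
  set B : Subgroup G := (Q : Subgroup C).map C.subtype with hBdef
  have hAn : A.Normal := inferInstance
  have hBn : B.Normal := inferInstance
  have hAc : Nat.card A = 43 :=
    (Nat.card_congr ((P : Subgroup C).equivMapOfInjective C.subtype C.subtype_injective).toEquiv.symm).trans hPc
  have hBc : Nat.card B = 29 :=
    (Nat.card_congr ((Q : Subgroup C).equivMapOfInjective C.subtype C.subtype_injective).toEquiv.symm).trans hQc
  set D : Subgroup G := centralizer (A : Set G) ⊓ centralizer (B : Set G) with hDdef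
  have hAD : A ≤ D := le_inf (comm_of_prime (by norm_num) A hAc) (comm_of_coprime A B (by rw [hAc, hBc]; norm_num))
  have hBD : B ≤ D := le_inf (comm_of_coprime B A (by rw [hAc, hBc]; norm_num)) (comm_of_prime (by norm_num) B hBc)
  have hDi : D.index ∣ 42 * 28 :=
    (index_inf_dvd _ _).trans (Nat.mul_dvd_mul (index_centralizer_dvd (by norm_num) A hAc)
      (index_centralizer_dvd (by norm_num) B hBc))
  have hDi' : D.index ∣ 168 := by
    have h1 : D.index ∣ NJ := by rw [← hN]; exact D.index_dvd_card
    have h2 := Nat.dvd_gcd hDi h1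
    rwa [show Nat.gcd (42 * 28) NJ = 168 by decide +kernel] at h2
  obtain ⟨ψ, hψ, hψ1, hψ2⟩ := clifford_down D hd
  -- the centre of `D`
  have hcenA : 43 ∣ Nat.card (center D) := by
    have h1 : A.subgroupOf D ≤ center D := by
      intro x hx
      rw [mem_center_iff]
      intro g
      exact Subtype.ext (mem_centralizer_iff.1 g.2.1 x hx).symm
    rw [← hAc, ← Nat.card_congr (subgroupOfEquivOfLe hAD).toEquiv]
    exact card_dvd_of_le h1
  have hcenB : 29 ∣ Nat.card (center D) := by
    have h1 : B.subgroupOf D ≤ center D := by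
      intro x hx
      rw [mem_center_iff]
      intro g
      exact Subtype.ext (mem_centralizer_iff.1 g.2.2 x hx).symm
    rw [← hBc, ← Nat.card_congr (subgroupOfEquivOfLe hBD).toEquiv]
    exact card_dvd_of_le h1
  have hcen : 1247 ≤ Nat.card (center D) :=
    Nat.le_of_dvd Nat.card_pos (Nat.Coprime.mul_dvd_of_dvd_of_dvd (m := 43) (n := 29) (by norm_num) hcenA hcenB)
  have h1 := sq_le hψ (center D) le_rfl
  have h2 := (center D).card_mul_index
  have h3 := D.card_mul_index
  rw [hN] at h3
  have h4 : D.index ≤ 168 := Nat.le_of_dvd (by norm_num) hDi'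
  have h5 : 3781980160 / ψ ≤ D.index := Nat.le_of_dvd (Nat.pos_of_ne_zero index_ne_zero_of_finite) hψ2
  have h6 : ψ * (3781980160 / ψ) = 3781980160 := Nat.mul_div_cancel' hψ1
  generalize 3781980160 / ψ = k at *
  have h7 : 1247 * ψ ^ 2 ≤ Nat.card D := by
    rw [← h2]
    exact Nat.mul_le_mul hcen h1
  have h8 : 3781980160 ≤ ψ * D.index := by rw [← h6]; exact Nat.mul_le_mul_left _ h5
  have h9 : 3781980160 ^ 2 ≤ ψ ^ 2 * D.index ^ 2 := by
    rw [← mul_pow]
    exact Nat.pow_le_pow_left h8 2
  have h10 : 1247 * (ψ ^ 2 * D.index ^ 2) ≤ Nat.card D * D.index ^ 2 := by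
    rw [← mul_assoc]
    exact Nat.mul_le_mul_right _ h7
  have h11 : Nat.card D * D.index ^ 2 = NJ * D.index := by
    rw [← h3]; ring
  have h12 : NJ * D.index ≤ NJ * 168 := Nat.mul_le_mul_left _ h4
  have h13 : 1247 * 3781980160 ^ 2 ≤ NJ * 168 :=
    (Nat.mul_le_mul_left 1247 h9).trans (h10.trans (h11.le.trans h12))
  revert h13
  decide +kernel

end Cfsg.Agent.H417.JFourCaseE
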