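import Cfsg.Agent.H417.Tricho

/-!
# Two commuting elements of prime orders acting nontrivially on an `r`-group (helper417)
-/

set_option autoImplicit false

namespace Cfsg.Agent.H417.TwoNum

open Subgroup
open Cfsg.Agent.H417.Tricho

universe u

variable {C : Type u} [Group C]

theorem isPGroup_zpowers {x : C} {p : ℕ} (hx : orderOf x = p) : IsPGroup p (zpowers x) := by
  intro g
  obtain ⟨k, hk⟩ := g.2
  refine ⟨1, Subtype.ext ?_⟩
  have hk' : x ^ k = (g : C) := hk
  rw [pow_one]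
  show ((g : C)) ^ p = 1
  rw [← hk', ← zpow_natCast, ← zpow_mul, mul_comm, zpow_mul, zpow_natCast, ← hx, pow_orderOf_eq_one, one_zpow]

/-- the exponents -/
theorem exists_exponents [Finite C] {p q r : ℕ} [hp : Fact p.Prime] [hq : Fact q.Prime] (hr : r.Prime) (hpr : r ≠ p)
    (hqr : r ≠ q) {x y : C} (hx : orderOf x = p) (hy : orderOf y = q) (hxy : Commute x y) (T : Subgroup C) [T.Normal]
    (hT : IsPGroup r T) (h1 : ¬ T ≤ centralizer (zpowers x : Set C)) (h2 : ¬ T ≤ centralizer (zpowers y : Set C)) :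
    ∃ a b c d, 1 ≤ a ∧ 1 ≤ b ∧ a + d = b + c ∧ r ^ (a + d) ∣ Nat.card C ∧ r ^ a % p = 1 ∧ r ^ b % q = 1 ∧
      r ^ c % p = 1 ∧ r ^ d % q = 1 := by
  set P := centralizer (zpowers x : Set C) with hP
  set Q := centralizer (zpowers y : Set C) with hQ
  have hxp := isPGroup_zpowers hx
  have hyq := isPGroup_zpowers hy
  -- the normalizations
  have n1 : zpowers x ≤ normalizer (T : Set C) := by rw [Subgroup.normalizer_eq_top T]; exact le_top
  have n2 : zpowers y ≤ normalizer (T : Set C) := by rw [Subgroup.normalizer_eq_top T]; exact le_top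
  have key : ∀ a b : C, Commute a b → zpowers a ≤ normalizer ((centralizer (zpowers b : Set C) ⊓ T : Subgroup C) : Set C) := by
    intro a b hab
    rw [zpowers_le, mem_normalizer_iff]
    intro g
    have h3 : ∀ c : C, Commute c b → ∀ g : C, g ∈ centralizer (zpowers b : Set C) →
        c * g * c⁻¹ ∈ centralizer (zpowers b : Set C) := by
      intro c hc g hg
      rw [mem_centralizer_iff] at hg ⊢
      rintro _ ⟨k, rfl⟩
      have h4 := hg (b ^ k) ⟨k, rfl⟩
      have h5 : Commute c (b ^ k) := hc.zpow_right k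
      show b ^ k * (c * g * c⁻¹) = c * g * c⁻¹ * b ^ k
      calc b ^ k * (c * g * c⁻¹) = (b ^ k * c) * g * c⁻¹ := by group
        _ = c * (b ^ k * g) * c⁻¹ := by rw [← h5.eq]; group
        _ = c * g * (b ^ k * c⁻¹) := by rw [h4]; group
        _ = c * g * (c⁻¹ * b ^ k) := by rw [h5.inv_left.eq]
        _ = c * g * c⁻¹ * b ^ k := by group
    rw [mem_inf, mem_inf]
    constructor
    · rintro ⟨u, v⟩
      exact ⟨h3 a hab g u, Subgroup.Normal.conj_mem inferInstance g v a⟩
    · rintro ⟨u, v⟩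
      refine ⟨?_, ?_⟩
      · have := h3 a⁻¹ hab.inv_left _ u
        rwa [inv_inv, show a⁻¹ * (a * g * a⁻¹) * a = g by group] at this
      · have := Subgroup.Normal.conj_mem (H := T) inferInstance _ v a⁻¹
        rwa [inv_inv, show a⁻¹ * (a * g * a⁻¹) * a = g by group] at this
  obtain ⟨a, ha, ha1⟩ := relIndex_centralizer (zpowers x) T hxp hr hpr hT n1
  obtain ⟨b, hb, hb1⟩ := relIndex_centralizer (zpowers y) T hyq hr hqr hT n2
  obtain ⟨c, hc, hc1⟩ := relIndex_centralizer (zpowers x) (Q ⊓ T) hxp hr hpr (hT.to_le inf_le_right) (key x y hxy)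
  obtain ⟨d, hd, hd1⟩ := relIndex_centralizer (zpowers y) (P ⊓ T) hyq hr hqr (hT.to_le inf_le_right) (key y x hxy.symm)
  rw [← hP] at ha hc
  rw [← hQ] at hb hd
  have e1 : (Q ⊓ (P ⊓ T)).relIndex (P ⊓ T) * (P ⊓ T).relIndex T = (Q ⊓ (P ⊓ T)).relIndex T :=
    relIndex_mul_relIndex _ _ _ inf_le_right inf_le_right
  have e2 : (P ⊓ (Q ⊓ T)).relIndex (Q ⊓ T) * (Q ⊓ T).relIndex T = (P ⊓ (Q ⊓ T)).relIndex T :=
    relIndex_mul_relIndex _ _ _ inf_le_right inf_le_right
  have e3 : P ⊓ (Q ⊓ T) = Q ⊓ (P ⊓ T) := by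
    rw [← inf_assoc, ← inf_assoc, inf_comm P Q]
  rw [inf_relIndex_right, inf_relIndex_right, hd, ha] at e1
  rw [inf_relIndex_right, inf_relIndex_right, hc, hb, e3] at e2
  have e4 : r ^ d * r ^ a = r ^ c * r ^ b := e1.trans e2.symm
  rw [← pow_add, ← pow_add] at e4
  have e5 : d + a = c + b := Nat.pow_right_injective hr.two_le e4
  refine ⟨a, b, c, d, ?_, ?_, by omega, ?_, ha1, hb1, hc1, hd1⟩
  · by_contra h0
    have : a = 0 := by omega
    rw [this, pow_zero, relIndex_eq_one] at ha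
    exact h1 ha
  · by_contra h0
    have : b = 0 := by omega
    rw [this, pow_zero, relIndex_eq_one] at hb
    exact h2 hb
  · rw [← pow_add] at e1
    rw [add_comm a d, e1]
    exact (relIndex_dvd_card _ _).trans (card_subgroup_dvd_card T)

end Cfsg.Agent.H417.TwoNum
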