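import Cfsg.Agent.H417.Engine
import Cfsg.Agent.H417.CommPQ
import Cfsg.Agent.H417.TwoNum
import Cfsg.Agent.H417.CentQS

/-!
# Two Sylow subgroups of prime orders acting on normal `2`-subgroups (helper417)
-/

set_option autoImplicit false

namespace Cfsg.Agent.H417.PairPQ

open Subgroup Cfsg Cfsg.Agent.OrdDiv
open Cfsg.Agent.H424.DegTools
open Cfsg.Agent.H417.DegQuasi Cfsg.Agent.H417.Tricho Cfsg.Agent.H417.Engine Cfsg.Agent.H417.CommPQ
open Cfsg.Agent.H417.TwoNum Cfsg.Agent.H417.CentQS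

universe u

variable {C : Type u} [Group C]

/-- commuting elements, from the table -/
theorem exists_com [Finite C] (T : OrderTable.{u}) (hK : ∀ (K : Type u) [Group K] [Finite K] [IsSimpleGroup K],
    IsKnownSimple' K) {p q n : ℕ} [hp : Fact p.Prime] [hq : Fact q.Prime] {l : List (ℕ × ℕ)} (hv : valid l n = true)
    (hb : bad l n q = []) (hqp : ¬ q ∣ p - 1) (hpq : ¬ p ∣ q - 1) (hne : p ≠ q) (hd : Nat.card C ∣ n)
    (h1 : p ∣ Nat.card C) (h2 : q ∣ Nat.card C) (hp2 : ¬ p ^ 2 ∣ n) (hq2 : ¬ q ^ 2 ∣ n) : Com p q C := by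
  refine exists_commute hqp hpq hne (Nat.card C) C rfl h1 h2 (fun h => hp2 (h.trans hd)) (fun h => hq2 (h.trans hd)) ?_
  intro T' _ _ hs hna hT' hdvd
  obtain ⟨g, hg, hr, hgo⟩ := exists_good T (hK T') hna hv (hT'.trans hd)
  have h3 : g ∈ bad l n q := by
    rw [bad, List.mem_filter]
    refine ⟨hg, ?_⟩
    rw [Bool.not_eq_true', ← Bool.not_eq_true]
    intro h3
    rw [Bool.and_eq_true, bne_iff_ne] at h3
    apply h3.1
    rw [← hgo]
    exact Nat.mod_eq_zero_of_dvd ((dvd_mul_left q p).trans hdvd)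
  rw [hb] at h3
  exact List.not_mem_nil h3

/-- the Sylow subgroup of an element -/
theorem sylow_of [Finite C] {p : ℕ} [hp : Fact p.Prime] {x : C} (hx : orderOf x = p) (hp2 : ¬ p ^ 2 ∣ Nat.card C) :
    ∃ P : Sylow p C, (P : Subgroup C) = zpowers x ∧ Nat.card P = p := by
  have h1 : Nat.card (zpowers x) = p := by rw [Nat.card_zpowers, hx]
  have h2 : (Nat.card C).factorization p = 1 := by
    apply le_antisymm
    · by_contra h3
      exact hp2 ((hp.out.pow_dvd_iff_le_factorization Nat.card_pos.ne').2 (by omega))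
    · refine (hp.out.dvd_iff_one_le_factorization Nat.card_pos.ne').1 ?_
      rw [← h1]
      exact card_subgroup_dvd_card _
  exact ⟨Sylow.ofCard (zpowers x) (by rw [h1, h2, pow_one]), rfl, h1⟩

/-- **The pair lemma**: two normal `2`-subgroups, not centralized by the first and by the second element. -/
theorem exists_exp [Finite C] {p q : ℕ} [hp : Fact p.Prime] [hq : Fact q.Prime] (hp2 : 2 ≠ p) (hq2 : 2 ≠ q)
    {x y : C} (hx : orderOf x = p) (hy : orderOf y = q) (hxy : Commute x y) (X Y : Subgroup C) (hX : X.Normal)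
    (hY : Y.Normal) (hX2 : IsPGroup 2 X) (hY2 : IsPGroup 2 Y) (h1 : ¬ X ≤ centralizer (zpowers x : Set C))
    (h2 : ¬ Y ≤ centralizer (zpowers y : Set C)) :
    ∃ a b c d, 1 ≤ a ∧ 1 ≤ b ∧ a + d = b + c ∧ 2 ^ (a + d) ∣ Nat.card C ∧ 2 ^ a % p = 1 ∧ 2 ^ b % q = 1 ∧
      2 ^ c % p = 1 ∧ 2 ^ d % q = 1 :=
  exists_exponents Nat.prime_two hp2 hq2 hx hy hxy (X ⊔ Y) (hX2.to_sup_of_normal_right hY2)
    (fun h => h1 (le_sup_left.trans h)) (fun h => h2 (le_sup_right.trans h))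

theorem mod43 : ∀ a < 22, 2 ^ a % 43 = 1 → a = 0 ∨ a = 14 := by decide
theorem mod31 : ∀ a < 22, 2 ^ a % 31 = 1 → a = 0 ∨ a = 5 ∨ a = 10 ∨ a = 15 ∨ a = 20 := by decide
theorem mod23 : ∀ a < 22, 2 ^ a % 23 = 1 → a = 0 ∨ a = 11 := by decide

theorem exp_lt {k n : ℕ} (h : 2 ^ k ∣ n) {m : ℕ} (hm : ¬ 2 ^ m ∣ n) : k < m := by
  by_contra h1
  exact hm ((pow_dvd_pow 2 (by omega)).trans h)

instance f23 : Fact (Nat.Prime 23) := ⟨by norm_num⟩
instance f29 : Fact (Nat.Prime 29) := ⟨by norm_num⟩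
instance f31 : Fact (Nat.Prime 31) := ⟨by norm_num⟩
instance f37 : Fact (Nat.Prime 37) := ⟨by norm_num⟩
instance f43 : Fact (Nat.Prime 43) := ⟨by norm_num⟩

/-- `43` and `31` -/
theorem dvd_of_pair [Finite C] {x y : C} (hx : orderOf x = 43) (hy : orderOf y = 31) (hxy : Commute x y)
    (X Y : Subgroup C) (hX : X.Normal) (hY : Y.Normal) (hX2 : IsPGroup 2 X) (hY2 : IsPGroup 2 Y)
    (h1 : ¬ X ≤ centralizer (zpowers x : Set C)) (h2 : ¬ Y ≤ centralizer (zpowers y : Set C)) :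
    2 ^ 19 ∣ Nat.card C := by
  by_contra hcon
  obtain ⟨a, b, c, d, ha, hb, he, hdv, h3, h4, h5, h6⟩ := exists_exp (by norm_num) (by norm_num) hx hy hxy X Y hX hY
    hX2 hY2 h1 h2
  have hlt := exp_lt hdv hcon
  have := mod43 a (by omega) h3
  have := mod31 b (by omega) h4
  have := mod43 c (by omega) h5
  have := mod31 d (by omega) h6
  omega

/-- `43` and `23` -/
theorem dvd_of_pair' [Finite C] {x y : C} (hx : orderOf x = 43) (hy : orderOf y = 23) (hxy : Commute x y)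
    (X Y : Subgroup C) (hX : X.Normal) (hY : Y.Normal) (hX2 : IsPGroup 2 X) (hY2 : IsPGroup 2 Y)
    (h1 : ¬ X ≤ centralizer (zpowers x : Set C)) (h2 : ¬ Y ≤ centralizer (zpowers y : Set C)) :
    2 ^ 20 ∣ Nat.card C := by
  by_contra hcon
  obtain ⟨a, b, c, d, ha, hb, he, hdv, h3, h4, h5, h6⟩ := exists_exp (by norm_num) (by norm_num) hx hy hxy X Y hX hY
    hX2 hY2 h1 h2
  have hlt := exp_lt hdv hcon
  have := mod43 a (by omega) h3
  have := mod23 b (by omega) h4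
  have := mod43 c (by omega) h5
  have := mod23 d (by omega) h6
  omega

/-- The pair `43, 31`, no exceptional candidates. -/
theorem pair_false [Finite C] (T : OrderTable.{u}) (hK : ∀ (K : Type u) [Group K] [Finite K] [IsSimpleGroup K],
    IsKnownSimple' K) {n : ℕ} {l : List (ℕ × ℕ)} (hv : valid l n = true) (ho : once l n = true)
    (h43 : onlyTwo l 43 = true) (h31 : onlyTwo l 31 = true) (hb43 : bad l n 43 = []) (hb31 : bad l n 31 = [])
    (hd : Nat.card C ∣ n) (hn43 : ¬ 43 ^ 2 ∣ n) (hn31 : ¬ 31 ^ 2 ∣ n) (hn2 : ¬ 2 ^ 19 ∣ n)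
    (hd43 : 43 ∣ Nat.card C) (hd31 : 31 ∣ Nat.card C) (hP : ∀ P : Sylow 43 C, ¬ (P : Subgroup C).Normal)
    (hQ : ∀ P : Sylow 31 C, ¬ (P : Subgroup C).Normal) : False := by
  obtain ⟨x, y, hx, hy, hxy⟩ := exists_com (p := 43) (q := 31) T hK hv hb31 (by norm_num) (by norm_num) (by norm_num)
    hd hd43 hd31 hn43 hn31
  obtain ⟨P, hPx, hPc⟩ := sylow_of hx (fun h => hn43 (h.trans hd))
  obtain ⟨Q, hQy, hQc⟩ := sylow_of hy (fun h => hn31 (h.trans hd))
  obtain ⟨X, hX, hXc, h1⟩ := engine_two T hK hv ho h43 hd P hPc (hP P)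
  obtain ⟨Y, hY, hYc, h2⟩ := engine_two T hK hv ho h31 hd Q hQc (hQ Q)
  rw [hPx] at hXc
  rw [hQy] at hYc
  rcases h1 with h1 | ⟨-, -, -, g, hg, -⟩
  · rcases h2 with h2 | ⟨-, -, -, g, hg, -⟩
    · exact hn2 ((dvd_of_pair hx hy hxy X Y hX hY h1 h2 hXc hYc).trans hd)
    · rw [hb31] at hg
      exact List.not_mem_nil hg
  · rw [hb43] at hg
    exact List.not_mem_nil hg

end Cfsg.Agent.H417.PairPQ
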