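import Cfsg.Agent.H424.DegTools
import Cfsg.Agent.H60.MultA
import Cfsg.Agent.H95.StemCover
import Cfsg.Agent.S2299

/-!
# Character degrees of the perfect central extensions of `PSL(2, q)` (helper417)
-/

set_option autoImplicit false

namespace Cfsg.Agent.H417.PslDeg

open Subgroup Cfsg Cfsg.Agent.H424.DegTools Cfsg.Agent.H60.MultA

universe u v

/-- `SL(n, F)` maps onto every perfect central extension of `PSL(n, F)` -/
theorem exists_surj {F : Type v} [Field F] [Fintype F] {n : ℕ} (h : Ok n (Nat.card F)) {L : Type u} [Group L]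
    (hL : commutator L = ⊤) (e : L ⧸ center L ≃* Matrix.ProjectiveSpecialLinearGroup (Fin n) F) :
    ∃ φ : Matrix.SpecialLinearGroup (Fin n) F →* L, Function.Surjective φ := by
  obtain ⟨φ, hφ, -⟩ := H95.StemCover.exists_cover_of_trivial (perfect_SL h) (hasTrivial_SL h)
    (QuotientGroup.mk' (center (Matrix.SpecialLinearGroup (Fin n) F))) (QuotientGroup.mk'_surjective _)
    (by rw [QuotientGroup.ker_mk']) hL (e.toMonoidHom.comp (QuotientGroup.mk' (center L)))
    (e.surjective.comp (QuotientGroup.mk'_surjective _)) (by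
      intro x hx
      rw [MonoidHom.mem_ker] at hx
      have h1 : e (QuotientGroup.mk' (center L) x) = 1 := hx
      rw [map_eq_one_iff e e.injective] at h1
      exact (QuotientGroup.eq_one_iff x).1 h1)
  exact ⟨φ, hφ⟩

/-- degrees of the perfect central extensions of `PSL(n, F)` are degrees of `SL(n, F)` -/
theorem degrees_subset {F : Type v} [Field F] [Fintype F] {n : ℕ} (h : Ok n (Nat.card F)) {L : Type u} [Group L]
    (hL : commutator L = ⊤) (e : L ⧸ center L ≃* Matrix.ProjectiveSpecialLinearGroup (Fin n) F) :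
    charDegrees L ⊆ charDegrees (Matrix.SpecialLinearGroup (Fin n) F) := by
  obtain ⟨φ, hφ⟩ := exists_surj h hL e
  exact charDegrees_of_surjective φ hφ

theorem ok_two {q : ℕ} (h : 5 ≤ q) (h9 : q ≠ 9) : Ok 2 q where
  two := le_rfl
  four := fun _ => by omega
  exc := by
    simp only [Set.mem_insert_iff, Set.mem_singleton_iff, Prod.mk.injEq, not_or, not_and]
    refine ⟨fun _ => by omega, fun _ => h9, fun h => by omega, fun h => by omega, fun h => by omega⟩

/-- **Degrees** of the perfect central extensions of `PSL(2, q)`, `q` odd. -/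
theorem degrees_odd {F : Type v} [Field F] [Fintype F] {q : ℕ} (hF : Nat.card F = q) (hodd : Odd q)
    (h5 : 5 ≤ q) (h9 : q ≠ 9) {L : Type u} [Group L] (hL : commutator L = ⊤)
    (e : L ⧸ center L ≃* Matrix.ProjectiveSpecialLinearGroup (Fin 2) F) {c : ℕ} (hc : c ∈ charDegrees L) :
    c = 1 ∨ c = q ∨ c = q + 1 ∨ c = q - 1 ∨ c = (q + 1) / 2 ∨ c = (q - 1) / 2 := by
  have h1 := degrees_subset (by rw [hF]; exact ok_two h5 h9) hL e hc
  obtain ⟨χ, hχ, hc1⟩ := mem_charDegrees.1 h1
  have hF' : Fintype.card F = q := by rw [← Nat.card_eq_fintype_card]; exact hF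
  have h2 := (S2299.result (F := F) (by rw [hF']; exact hodd)).1 χ hχ
  rw [hc1, hF'] at h2
  rcases h2 with h | h | h | h | h | h
  · left; exact_mod_cast h
  · right; left; exact_mod_cast h
  · right; right; left; exact_mod_cast h
  · right; right; right; left
    have : ((q - 1 : ℕ) : ℂ) = (q : ℂ) - 1 := by push_cast [Nat.cast_sub (show 1 ≤ q by omega)]; ring
    rw [← this] at h
    exact_mod_cast h
  · right; right; right; right; left; exact_mod_cast h
  · right; right; right; right; right; exact_mod_cast h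

end Cfsg.Agent.H417.PslDeg
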