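import Cfsg.Agent.H417.JFourCaseF

/-!
# The Janko group `J₄` by its order and a degree (helper417)
-/

set_option autoImplicit false

namespace Cfsg.Agent.H417.RecogJFour

open Subgroup Cfsg Cfsg.Agent.OrdDiv
open Cfsg.Agent.H424.DegTools
open Cfsg.Agent.H417.DegQuasi Cfsg.Agent.H417.QSTools Cfsg.Agent.H417.JFourCase Cfsg.Agent.H417.JFourCaseE
open Cfsg.Agent.H417.JFourCaseF

universe u

/-- the degrees which determine `J₄` -/
def Adm (d : ℕ) : Prop :=
  29 * 37 ∣ d ∨ 29 * 5 ∣ d ∨ 29 * 7 ∣ d ∨ 37 * (5 * 11 ^ 2) ∣ d ∨ 37 * 11 ^ 3 ∣ d ∨ 29 * (23 * (31 * 43)) ∣ d ∨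
    37 * (31 * 43) ∣ d ∨ d = 3781980160 ∨ d = 1981808640

variable {G : Type u} [Group G] [Finite G]

theorem qs29 (T : OrderTable.{u}) (hK : ∀ (K : Type u) [Group K] [Finite K] [IsSimpleGroup K],
    IsKnownSimple' K) (hN : Nat.card G = NJ) {d : ℕ} (hd : d ∈ charDegrees G) (h : 29 ∣ d) (hno : ¬ Spor.IsoJ4 G) :
    ∃ L : Subgroup G, QS G 29 L ∧ Real (.psl 2 29) (L ⧸ center L) ∧ Nat.card (L ⧸ center L) = 12180 := by
  obtain ⟨L, hL, g, hg, hr, ho⟩ := exists_cand T hK (p := 29) lN hN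
    valid_N (by decide +kernel) (by norm_num) (by decide +kernel) hd h
  have h1 : (cands lN NJ).filter (fun g => decide (29 ∣ ordN g)) = [.psl 2 29, .j4] := by decide +kernel
  rw [h1, List.mem_cons, List.mem_singleton] at hg
  rcases hg with rfl | rfl
  · exact ⟨L, hL, hr, by rw [ho]; decide +kernel⟩
  · exfalso
    apply hno
    obtain ⟨e⟩ := hL.mulEquiv (by rw [ho, hN]; decide +kernel)
    have hr' : Spor.IsoJ4 (L ⧸ center L) := hr
    obtain ⟨e2⟩ := hr'
    exact ⟨e.trans e2⟩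

theorem qs37 (T : OrderTable.{u}) (hK : ∀ (K : Type u) [Group K] [Finite K] [IsSimpleGroup K],
    IsKnownSimple' K) (hN : Nat.card G = NJ) {d : ℕ} (hd : d ∈ charDegrees G) (h : 37 ∣ d) (hno : ¬ Spor.IsoJ4 G) :
    ∃ L : Subgroup G, QS G 37 L ∧ Real (.psu 3 11) (L ⧸ center L) ∧ Nat.card (L ⧸ center L) = 70915680 := by
  obtain ⟨L, hL, g, hg, hr, ho⟩ := exists_cand T hK (p := 37) lN hN
    valid_N (by decide +kernel) (by norm_num) (by decide +kernel) hd h
  have h1 : (cands lN NJ).filter (fun g => decide (37 ∣ ordN g)) = [.psu 3 11, .j4] := by decide +kernel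
  rw [h1, List.mem_cons, List.mem_singleton] at hg
  rcases hg with rfl | rfl
  · exact ⟨L, hL, hr, by rw [ho]; decide +kernel⟩
  · exfalso
    apply hno
    obtain ⟨e⟩ := hL.mulEquiv (by rw [ho, hN]; decide +kernel)
    have hr' : Spor.IsoJ4 (L ⧸ center L) := hr
    obtain ⟨e2⟩ := hr'
    exact ⟨e.trans e2⟩

theorem main (T : OrderTable.{u}) (hK : ∀ (K : Type u) [Group K] [Finite K] [IsSimpleGroup K],
    IsKnownSimple' K) (hN : Nat.card G = NJ) {d : ℕ} (hd : d ∈ charDegrees G) (h : Adm d) : Spor.IsoJ4 G := by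
  by_contra hno
  rcases h with h | h | h | h | h | h | h | rfl | rfl
  · obtain ⟨L, hL, hr, ho⟩ := qs29 T hK hN hd ((dvd_mul_right 29 37).trans h) hno
    obtain ⟨M, hM, -, ho'⟩ := qs37 T hK hN hd ((dvd_mul_left 37 29).trans h) hno
    exact case_A hN hL hr ho hM ho'
  · obtain ⟨L, hL, -, ho⟩ := qs29 T hK hN hd ((dvd_mul_right 29 5).trans h) hno
    exact QS.kill hL hN ho hd h (by decide +kernel) (by norm_num)
  · obtain ⟨L, hL, -, ho⟩ := qs29 T hK hN hd ((dvd_mul_right 29 7).trans h) hno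
    exact QS.kill hL hN ho hd h (by decide +kernel) (by norm_num)
  · obtain ⟨L, hL, -, ho⟩ := qs37 T hK hN hd ((dvd_mul_right 37 _).trans h) hno
    exact QS.kill hL hN ho hd h (by decide +kernel) (by norm_num)
  · obtain ⟨L, hL, -, ho⟩ := qs37 T hK hN hd ((dvd_mul_right 37 _).trans h) hno
    exact QS.kill hL hN ho hd h (by decide +kernel) (by norm_num)
  · obtain ⟨L, hL, hr, ho⟩ := qs29 T hK hN hd ((dvd_mul_right 29 _).trans h) hno
    exact case_C T hK hN hL hr ho hd ((dvd_mul_left _ 29).trans h)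
  · obtain ⟨L, hL, hr, ho⟩ := qs37 T hK hN hd ((dvd_mul_right 37 _).trans h) hno
    exact case_D T hK hN hL hr ho hd ((dvd_mul_left _ 37).trans h)
  · obtain ⟨L, hL, hr, ho⟩ := qs37 T hK hN hd (by norm_num) hno
    exact case_E T hK hN hL hr ho hd
  · exact hno (case_F T hK hN hd)

end Cfsg.Agent.H417.RecogJFour
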