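import Cfsg.Agent.H417.QSTools

/-!
# The Janko group `J₁` by its order and the degree 209 (helper417)
-/

set_option autoImplicit false

namespace Cfsg.Agent.H417.RecogJOne

open Subgroup Cfsg Cfsg.Agent.OrdDiv
open Cfsg.Agent.H424.DegTools
open Cfsg.Agent.H417.DegQuasi Cfsg.Agent.H417.QSTools

universe u v

variable {G : Type u} [Group G] [Finite G]

theorem main (T : OrderTable.{u}) (hK : ∀ (K : Type u) [Group K] [Finite K] [IsSimpleGroup K],
    IsKnownSimple' K) (hN : Nat.card G = 175560) (hd : 209 ∈ charDegrees G) : Spor.IsoJ1 G := by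
  obtain ⟨L, hL, g, hg, hr, ho⟩ := exists_cand T hK (p := 19) [(2,3),(3,1),(5,1),(7,1),(11,1),(19,1)] hN
    (by decide +kernel) (by decide +kernel) (by norm_num) (by norm_num) hd (by norm_num)
  have h1 : (cands [(2,3),(3,1),(5,1),(7,1),(11,1),(19,1)] 175560).filter (fun g => decide (19 ∣ ordN g)) =
      [.j1] := by decide +kernel
  rw [h1, List.mem_singleton] at hg
  subst hg
  obtain ⟨e⟩ := hL.mulEquiv (by rw [ho, hN]; decide +kernel)
  have hr' : Spor.IsoJ1 (L ⧸ center L) := hr
  obtain ⟨e2⟩ := hr'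
  exact ⟨e.trans e2⟩

end Cfsg.Agent.H417.RecogJOne
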