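import Cfsg.Agent.H417.QSTools
import Cfsg.Agent.H417.PslDeg
import Cfsg.Agent.H677.J3Field

/-!
# The Janko group `J₃` by its order and the degree 3078 (helper417)
-/

set_option autoImplicit false

namespace Cfsg.Agent.H417.RecogJThree

open Subgroup Cfsg Cfsg.Agent.OrdDiv
open Cfsg.Agent.H424.DegTools
open Cfsg.Agent.H417.DegQuasi Cfsg.Agent.H417.QSTools

universe u v

variable {G : Type u} [Group G] [Finite G]

theorem main (T : OrderTable.{u}) (hK : ∀ (K : Type u) [Group K] [Finite K] [IsSimpleGroup K],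
    IsKnownSimple' K) (hN : Nat.card G = 50232960) (hd : 3078 ∈ charDegrees G) : Spor.IsoJ3 G := by
  obtain ⟨L, hL, g, hg, hr, ho⟩ := exists_cand T hK (p := 19) [(2,7),(3,5),(5,1),(17,1),(19,1)] hN
    (by decide +kernel) (by decide +kernel) (by norm_num) (by norm_num) hd (by norm_num)
  have h1 : (cands [(2,7),(3,5),(5,1),(17,1),(19,1)] 50232960).filter (fun g => decide (19 ∣ ordN g)) =
      [.psl 2 19, .j3] := by decide +kernel
  rw [h1, List.mem_cons, List.mem_singleton] at hg
  rcases hg with rfl | rfl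
  · exfalso
    have := hL.normal
    obtain ⟨c, hc1, hc2, hc3⟩ := clifford_down L hd
    obtain ⟨F, _, _, hF, ⟨e⟩⟩ := hr
    have h2 := PslDeg.degrees_odd (q := 19) (by rw [Nat.card_eq_fintype_card, hF]) (by decide) (by norm_num)
      (by norm_num) hL.perf e hc1
    have hk : Nat.card (L ⧸ center L) = 3420 := by rw [ho]; decide +kernel
    have h3 := QS.index_dvd hL hN hk
    have h4 : 3078 / c ∣ 50232960 / 3420 := hc3.trans (by rw [← h3]; exact dvd_mul_left _ _)
    rcases h2 with rfl | rfl | rfl | rfl | rfl | rfl <;> revert h4 hc2 <;> decide +kernel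
  · obtain ⟨e⟩ := hL.mulEquiv (by rw [ho, hN]; decide +kernel)
    have hr' : Spor.IsoJ3 (L ⧸ center L) := hr
    obtain ⟨F, i1, i2, ω, h1, h2, ⟨e2⟩⟩ := hr'
    exact ⟨F, i1, i2, ω, h1, h2, ⟨e.trans e2⟩⟩

end Cfsg.Agent.H417.RecogJThree
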