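import Cfsg.Agent.H417.RecogJOne
import Cfsg.Agent.H417.RecogJThree
import Cfsg.Agent.H417.RecogJFour
import Cfsg.Agent.H417.JOneDeg
import Cfsg.Agent.H417.JThreeDeg
import Cfsg.Agent.H417.JFourDeg

/-!
# The Janko groups `J₁`, `J₃`, `J₄` by order and largest degree (helper417)
-/

set_option autoImplicit false

namespace Cfsg.Agent.H417.RecogJanko

open Cfsg Cfsg.Agent.OrdDiv
open Cfsg.Agent.M23Order.Base

universe u v

theorem greatest_of {G : Type u} [Group G] {B : ℝ} (h : (∃ χ : IrrCharacter G, ‖(χ : G → ℂ) 1‖ = B) ∧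
    ∀ ψ : IrrCharacter G, ‖(ψ : G → ℂ) 1‖ ≤ B) : ∃ b : ℕ, (b : ℝ) = B ∧ IsGreatest (charDegrees G) b := by
  obtain ⟨⟨χ, hχ⟩, hle⟩ := h
  have key : ∀ ψ : IrrCharacter G, ‖(ψ : G → ℂ) 1‖ = (dg ψ : ℝ) := fun ψ => by
    rw [dg_eq, Complex.norm_natCast]
  refine ⟨dg χ, by rw [← key, hχ], ⟨χ, rfl⟩, ?_⟩
  rintro d ⟨ψ, rfl⟩
  have h1 := hle ψ
  rw [← hχ, key, key] at h1
  exact_mod_cast h1

theorem main {S : Type v} [Group S] [Finite S] (hS : Spor.IsoJ1 S ∨ Spor.IsoJ3 S ∨ Spor.IsoJ4 S)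
    {G : Type u} [Group G] [Finite G] (T : OrderTable.{u})
    (hK : ∀ (K : Type u) [Group K] [Finite K] [IsSimpleGroup K], IsKnownSimple' K)
    (hcard : Nat.card G = Nat.card S)
    (hL : ∃ B : ℝ, ((∃ χ : IrrCharacter G, ‖(χ : G → ℂ) 1‖ = B) ∧ ∀ ψ : IrrCharacter G, ‖(ψ : G → ℂ) 1‖ ≤ B) ∧
      ((∃ χ : IrrCharacter S, ‖(χ : S → ℂ) 1‖ = B) ∧ ∀ ψ : IrrCharacter S, ‖(ψ : S → ℂ) 1‖ ≤ B)) :
    Nonempty (G ≃* S) := by
  obtain ⟨B, hG, hSS⟩ := hL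
  obtain ⟨b, hb, hbG⟩ := greatest_of hG
  obtain ⟨b', hb', hbS⟩ := greatest_of hSS
  have hbb : b' = b := by
    have : (b' : ℝ) = (b : ℝ) := hb'.trans hb.symm
    exact_mod_cast this
  subst hbb
  rcases hS with hS | hS | hS
  · obtain ⟨h1, h2⟩ := JOneDeg.greatest hS
    have h3 := hbS.unique h1
    subst h3
    obtain ⟨e⟩ := RecogJOne.main T hK (hcard.trans h2) hbG.1
    obtain ⟨f⟩ := hS
    exact ⟨e.trans f.symm⟩
  · obtain ⟨⟨χ, hχ⟩, h2⟩ := JThreeDeg.max_degree hS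
    have h1 : IsGreatest (charDegrees S) 3078 := ⟨⟨χ, hχ⟩, by rintro d ⟨ψ, rfl⟩; exact h2 ψ⟩
    have h3 := hbS.unique h1
    subst h3
    have h4 := RecogJThree.main T hK (hcard.trans (H898.J3Cent.base hS).2.1) hbG.1
    exact H677.J3Field.isoJ3_unique h4 hS
  · have h1 := JFourDeg.adm hS hbS
    obtain ⟨f⟩ := hS
    have h2 : Nat.card S = 86775571046077562880 := (Nat.card_congr f.toEquiv).trans JFourDeg.card_K
    obtain ⟨e⟩ := RecogJFour.main T hK (hcard.trans h2) hbG.1 h1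
    exact ⟨e.trans f.symm⟩

end Cfsg.Agent.H417.RecogJanko
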