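import Cfsg.Agent.H417.SylSeventeen
import Cfsg.Agent.H417.QSTools
import Cfsg.Agent.H418.PglNse
import Cfsg.Agent.ClassicalGeometry.AutPSL.Main
import Cfsg.Agent.ClassicalGeometry.PSL2Basic
import Cfsg.Agent.LieClassical.FieldTransfer

/-!
# The groups faithful on their 18 Sylow 17-subgroups: the socle and the identification (helper417)
-/

set_option autoImplicit false

namespace Cfsg.Agent.H417.SylEngine

open Subgroup MulAction Cfsg Cfsg.Agent.OrdDiv
open Cfsg.Agent.H417.Quasi (Triv)
open Cfsg.Agent.H417.QSTools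
open Cfsg.Agent.H417.SylSeventeen
open Cfsg.Agent.ClassicalGeometry.AutPSL.Main Cfsg.Agent.ClassicalGeometry.AutPSL.Auto

universe u v

variable {X : Type u} [Group X] [Finite X]

/-- the centre is trivial -/
theorem center_eq_bot (h : Hyp X) : center X = ⊥ := by
  rw [eq_bot_iff]
  intro z hz
  rw [mem_bot]
  refine h.faith z fun P => ?_
  rw [Sylow.smul_eq_iff_mem_normalizer]
  refine mem_normalizer_iff.2 fun x => ?_
  have h1 : z * x * z⁻¹ = x := by
    rw [← mem_center_iff.1 hz x, mul_inv_cancel_right]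
  rw [h1]

/-- no normal subgroup of order at most two -/
theorem eq_bot_of_card_le {G : Type u} [Group G] [Finite G] (hZ : center G = ⊥) (N : Subgroup G)
    [N.Normal] (hN : Nat.card N ≤ 2) : N = ⊥ := by
  rw [eq_bot_iff, ← hZ]
  intro z hz
  rw [mem_center_iff]
  intro g
  by_cases h1 : z = 1
  · rw [h1, mul_one, one_mul]
  have h2 : g * z * g⁻¹ ∈ N := Subgroup.Normal.conj_mem inferInstance z hz g
  have h3 : g * z * g⁻¹ = z := by
    by_contra hne
    have h4 : g * z * g⁻¹ ≠ 1 := fun h5 => h1 (by
      rw [mul_inv_eq_one] at h5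
      exact mul_eq_left.1 h5)
    classical
    have := Fintype.ofFinite N
    have h5 : ({1, ⟨z, hz⟩, ⟨g * z * g⁻¹, h2⟩} : Finset N).card ≤ Nat.card N := by
      rw [Nat.card_eq_fintype_card]
      exact Finset.card_le_univ _
    have h6 : ({1, ⟨z, hz⟩, ⟨g * z * g⁻¹, h2⟩} : Finset N).card = 3 := by
      refine Finset.card_eq_three.2 ⟨_, _, _, ?_, ?_, ?_, rfl⟩
      · exact fun h => h1 (congrArg Subtype.val h).symm
      · exact fun h => h4 (congrArg Subtype.val h).symm
      · exact fun h => hne (congrArg Subtype.val h).symm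
    omega
  calc g * z = g * z * g⁻¹ * g := by group
    _ = z * g := by rw [h3]

theorem exists_psl (T : OrderTable.{u}) (hK : ∀ (K : Type u) [Group K] [Finite K] [IsSimpleGroup K],
    IsKnownSimple' K) (h : Hyp X) :
    ∃ L : Subgroup X, L.Normal ∧ (∃ (F : Type) (_ : Field F) (_ : Fintype F), Fintype.card F = 17 ∧
      Nonempty (L ≃* Matrix.ProjectiveSpecialLinearGroup (Fin 2) F)) ∧ Nat.card L = 2448 ∧
      (Nat.card X = 2448 ∨ Nat.card X = 4896) ∧ centralizer (L : Set X) = ⊥ := by
  obtain ⟨P⟩ : Nonempty (Sylow 17 X) := inferInstance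
  obtain ⟨Q, hPQ⟩ := h.exists_ne P
  obtain ⟨h1, h2⟩ := h.exists_card hPQ
  have hd : Nat.card X ∣ 4896 := by
    rw [h2, show 4896 = 306 * 16 by norm_num]
    exact Nat.mul_dvd_mul_left 306 h1
  have hn : ¬ (P : Subgroup X).Normal := by
    intro hn
    have hs : Subsingleton (Sylow 17 X) := (Sylow.unique_of_normal P hn).instSubsingleton
    exact hPQ (Subsingleton.elim _ _)
  have hv : valid [(2,5),(3,2),(17,1)] 4896 = true := by decide +kernel
  have hT : Triv 17 (Nat.card X) :=
    Quasi.Triv.of_dvd (triv_of (by norm_num) hv (by decide +kernel)) hd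
  obtain ⟨L, hL, -, h4, h5, -, h7, h8, -⟩ := Quasi.exists_quasisimple P (h.card_sylow P) hT hn
  have e1 : Nat.card (L ⧸ center L) * Nat.card (center L) = Nat.card L := by
    rw [mul_comm]
    exact (center L).card_mul_index
  have e2 := L.card_mul_index
  obtain ⟨g, hg, hr, ho⟩ := exists_good T (hK (L ⧸ center L)) h8 hv
    (((Dvd.intro _ e1).trans (Dvd.intro _ e2)).trans hd)
  have h9 : g ∈ (cands [(2,5),(3,2),(17,1)] 4896).filter (fun g => decide (17 ∣ ordN g)) := by
    rw [List.mem_filter]
    exact ⟨hg, by rw [← ho]; simpa using h7⟩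
  rw [show (cands [(2,5),(3,2),(17,1)] 4896).filter (fun g => decide (17 ∣ ordN g)) = [.psl 2 17] by
    decide +kernel, List.mem_singleton] at h9
  subst h9
  rw [show ordN (Grp.psl 2 17) = 2448 by decide +kernel] at ho
  rw [ho] at e1
  have hZX := center_eq_bot h
  have hcL : 0 < Nat.card (center L) := Nat.card_pos
  have hiL : 0 < L.index := Nat.pos_of_ne_zero index_ne_zero_of_finite
  have hle : Nat.card X ≤ 4896 := Nat.le_of_dvd (by norm_num) hd
  have hprod : Nat.card (center L) * L.index ≤ 2 := by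
    by_contra hlt
    push Not at hlt
    have : 2448 * (Nat.card (center L) * L.index) = Nat.card X := by
      rw [← e2, ← e1]; ring
    omega
  have hZL : Nat.card (center L) = 1 := by
    have h10 : Nat.card ((center L).map L.subtype) ≤ 2 := by
      rw [Nat.card_congr ((center L).equivMapOfInjective _ L.subtype_injective).toEquiv.symm]
      nlinarith
    have h11 : ((center L).map L.subtype).Normal := by
      have : (center L).Characteristic := inferInstance
      exact ConjAct.normal_of_characteristic_of_normal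
    have h12 := eq_bot_of_card_le hZX _ h10
    rw [Subgroup.map_eq_bot_iff_of_injective _ L.subtype_injective] at h12
    rw [h12, Subgroup.card_bot]
  rw [hZL, mul_one] at e1
  refine ⟨L, hL, ?_, e1.symm, ?_, ?_⟩
  · obtain ⟨F, _, _, hF, ⟨e⟩⟩ := hr
    have hZ : center L = ⊥ := Subgroup.card_eq_one.1 hZL
    exact ⟨F, _, _, hF, ⟨((QuotientGroup.quotientBot.symm).trans
      (QuotientGroup.quotientMulEquivOfEq hZ.symm)).trans e⟩⟩
  · rw [← e1] at e2
    rw [hZL, one_mul] at hprod
    have : L.index = 1 ∨ L.index = 2 := by omega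
    rcases this with h10 | h10 <;> rw [h10] at e2 <;> omega
  · have hc : Nat.card (centralizer (L : Set X)) ≤ 2 := by
      have h10 : Nat.card (centralizer (L : Set X)) ∣ L.index := by
        have h11 : (centralizer (L : Set X)) ⊓ L = ⊥ := by
          rw [eq_bot_iff]
          intro x hx
          have h12 : (⟨x, hx.2⟩ : L) ∈ center L := by
            rw [mem_center_iff]
            intro y
            exact Subtype.ext (mem_centralizer_iff.1 hx.1 y y.2)
          rw [Subgroup.card_eq_one.1 hZL, mem_bot] at h12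
          rw [mem_bot]
          exact congrArg Subtype.val h12
        have h12 : ((QuotientGroup.mk' L).comp (centralizer (L : Set X)).subtype).ker = ⊥ := by
          rw [eq_bot_iff]
          intro x hx
          rw [MonoidHom.mem_ker] at hx
          have h13 : (x : X) ∈ L := (QuotientGroup.eq_one_iff _).1 hx
          have h14 : (x : X) ∈ (centralizer (L : Set X)) ⊓ L := ⟨x.2, h13⟩
          rw [h11, mem_bot] at h14
          rw [mem_bot]
          exact Subtype.ext h14
        exact Subgroup.card_dvd_of_injective _ ((MonoidHom.ker_eq_bot_iff _).1 h12)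
      have h11 := Nat.le_of_dvd hiL h10
      rw [hZL, one_mul] at hprod
      omega
    exact eq_bot_of_card_le hZX _ hc

theorem nine_zmod : ∃ x : Matrix.ProjectiveSpecialLinearGroup (Fin 2) (ZMod 17), orderOf x = 9 := by
  let A : Matrix.SpecialLinearGroup (Fin 2) (ZMod 17) := ⟨!![0, -1; 1, 7], by decide +kernel⟩
  have hA9 : A ^ 9 = 1 := by decide +kernel
  have hA3 : ∀ c : ZMod 17, ((A ^ 3 : Matrix.SpecialLinearGroup (Fin 2) (ZMod 17)) :
      Matrix (Fin 2) (Fin 2) (ZMod 17)) ≠ Matrix.scalar (Fin 2) c := by decide +kernel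
  refine ⟨QuotientGroup.mk A, ?_⟩
  have h3 : Fact (Nat.Prime 3) := ⟨by norm_num⟩
  have := orderOf_eq_prime_pow (p := 3) (n := 1)
    (x := (QuotientGroup.mk A : Matrix.ProjectiveSpecialLinearGroup (Fin 2) (ZMod 17))) ?_ ?_
  · rw [this]; norm_num
  · rw [pow_one, ← QuotientGroup.mk_pow]
    intro h1
    rw [QuotientGroup.eq_one_iff, Matrix.SpecialLinearGroup.mem_center_iff] at h1
    obtain ⟨c, -, hc⟩ := h1
    exact hA3 c hc.symm
  · rw [show 3 ^ (1 + 1) = 9 by norm_num, ← QuotientGroup.mk_pow, hA9]
    rfl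

/-- An element of order nine. -/
theorem exists_nine {F : Type v} [Field F] [Fintype F] (hF : Fintype.card F = 17) :
    ∃ x : Matrix.ProjectiveSpecialLinearGroup (Fin 2) F, orderOf x = 9 := by
  have hfact : Fact (Nat.Prime 17) := ⟨by norm_num⟩
  have e : F ≃+* ZMod 17 := FiniteField.ringEquivOfCardEq (by rw [hF, ZMod.card])
  obtain ⟨x, hx⟩ := nine_zmod
  let f := (Cfsg.Agent.LieClassical.FieldTransfer.pslCongr (ι := Fin 2) e).symm
  exact ⟨f x, by rw [MulEquiv.orderOf_eq, hx]⟩

/-- `PGL(2,17)` as an automorphism group. -/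
theorem mulAut_psl {F : Type v} [Field F] [Fintype F] (hF : Fintype.card F = 17) :
    Nonempty (MulAut (Matrix.ProjectiveSpecialLinearGroup (Fin 2) F) ≃* (GL (Fin 2) F ⧸ center (GL (Fin 2) F)))
      ∧ Nat.card (MulAut (Matrix.ProjectiveSpecialLinearGroup (Fin 2) F)) = 4896 := by
  classical
  have hfact : Fact (Nat.Prime 17) := ⟨by norm_num⟩
  have hchar : CharP F 17 := charP_of_card_eq_prime hF
  have e : F ≃+* ZMod 17 := FiniteField.ringEquivOfCardEq (by rw [hF, ZMod.card])
  have hsub : Subsingleton (F ≃+* F) := by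
    refine ⟨fun σ τ => ?_⟩
    have h1 : (e.symm.trans σ).trans e = (e.symm.trans τ).trans e := by
      have : Subsingleton (ZMod 17 ≃+* ZMod 17) := ⟨fun a b => by
        apply RingEquiv.ext
        intro x
        have : (a : ZMod 17 →+* ZMod 17) = b := Subsingleton.elim _ _
        exact congrArg (fun f : ZMod 17 →+* ZMod 17 => f x) this⟩
      exact Subsingleton.elim _ _
    apply RingEquiv.ext
    intro x
    have h2 := congrArg (fun f : ZMod 17 ≃+* ZMod 17 => f (e x)) h1
    simpa using h2
  let f : GL (Fin 2) F →* MulAut (Matrix.ProjectiveSpecialLinearGroup (Fin 2) F) := lift.comp cj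
  have hf : Function.Surjective f := by
    intro α
    obtain ⟨A, σ, h⟩ := surj_two 17 α
    refine ⟨A, ?_⟩
    rw [Subsingleton.elim σ 1, map_one, mul_one] at h
    exact h.symm
  have hker : center (GL (Fin 2) F) ≤ f.ker := by
    intro A hA
    rw [MonoidHom.mem_ker]
    show lift (cj A) = 1
    have h1 : cj A = 1 := by
      apply MulEquiv.ext
      intro g
      apply Subtype.ext
      show (A : Matrix (Fin 2) (Fin 2) F) * g.1 * ((A⁻¹ : GL (Fin 2) F) : Matrix (Fin 2) (Fin 2) F) = g.1
      have h2 := mem_center_iff.1 hA (Matrix.SpecialLinearGroup.toGL g)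
      have h3 := congrArg (fun B : GL (Fin 2) F => (B : Matrix (Fin 2) (Fin 2) F)) h2
      have h4 : g.1 * (A : Matrix (Fin 2) (Fin 2) F) = (A : Matrix (Fin 2) (Fin 2) F) * g.1 := h3
      rw [← h4, mul_assoc, ← Units.val_mul, mul_inv_cancel, Units.val_one, mul_one]
    rw [h1, map_one]
  have hcard : Nat.card (MulAut (Matrix.ProjectiveSpecialLinearGroup (Fin 2) F)) = 4896 := by
    rw [card_two 17, H418.PglNse.card_pgl, hF]
    have : Nat.card (F ≃+* F) = 1 := Nat.card_unique
    rw [this]
    norm_num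
  have hcardG : Nat.card (GL (Fin 2) F ⧸ center (GL (Fin 2) F)) = 4896 := by
    have h1 : Nat.card (Matrix.ProjGenLinGroup (Fin 2) F) = _ := H418.PglNse.card_pgl (F := F)
    rw [hF] at h1
    exact h1
  refine ⟨?_, hcard⟩
  let g : GL (Fin 2) F ⧸ center (GL (Fin 2) F) →* MulAut (Matrix.ProjectiveSpecialLinearGroup (Fin 2) F) :=
    QuotientGroup.lift _ f hker
  have hg : Function.Surjective g := by
    intro α
    obtain ⟨A, hA⟩ := hf α
    exact ⟨QuotientGroup.mk A, hA⟩
  have hgb : Function.Bijective g := by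
    rw [Nat.bijective_iff_surjective_and_card]
    exact ⟨hg, by rw [hcard, hcardG]⟩
  exact ⟨(MulEquiv.ofBijective g hgb).symm⟩

theorem identify (T : OrderTable.{u}) (hK : ∀ (K : Type u) [Group K] [Finite K] [IsSimpleGroup K],
    IsKnownSimple' K) (h : Hyp X) {F : Type v} [Field F] [Fintype F] (hF : Fintype.card F = 17) :
    Nonempty (X ≃* Matrix.ProjectiveSpecialLinearGroup (Fin 2) F) ∨
      Nonempty (X ≃* (GL (Fin 2) F ⧸ Subgroup.center (GL (Fin 2) F))) := by
  obtain ⟨L, hL, ⟨F', _, _, hF', ⟨e⟩⟩, hLc, hX, hC⟩ := exists_psl T hK h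
  let e' : L ≃* Matrix.ProjectiveSpecialLinearGroup (Fin 2) F := e.trans
    (Cfsg.Agent.LieClassical.FieldTransfer.pslCongr
      (FiniteField.ringEquivOfCardEq (hF'.trans hF.symm)))
  rcases hX with hX | hX
  · left
    have hLt : L = ⊤ := Subgroup.eq_top_of_card_eq L (by rw [hLc, hX])
    exact ⟨((Subgroup.topEquiv.symm).trans (MulEquiv.subgroupCongr hLt.symm)).trans e'⟩
  · right
    obtain ⟨⟨e2⟩, hA⟩ := mulAut_psl hF
    -- the embedding in the automorphism group
    let f : X →* MulAut L := MulAut.conjNormal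
    have hf : Function.Injective f := by
      rw [injective_iff_map_eq_one]
      intro x hx
      have h1 : x ∈ centralizer (L : Set X) := by
        rw [mem_centralizer_iff]
        intro y hy
        have h2 := congrArg (fun φ : MulAut L => ((φ ⟨y, hy⟩ : L) : X)) hx
        have h3 : x * y * x⁻¹ = y := by
          simpa [f] using h2
        rw [mul_inv_eq_iff_eq_mul] at h3
        exact h3.symm
      rw [hC, mem_bot] at h1
      exact h1
    let c : MulAut L ≃* MulAut (Matrix.ProjectiveSpecialLinearGroup (Fin 2) F) := MulAut.congr e'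
    have hb : Function.Bijective (c.toMonoidHom.comp f) := by
      have hfin : Finite (MulAut (Matrix.ProjectiveSpecialLinearGroup (Fin 2) F)) :=
        Nat.finite_of_card_ne_zero (by rw [hA]; norm_num)
      rw [Nat.bijective_iff_injective_and_card]
      exact ⟨c.injective.comp hf, by rw [hX, hA]⟩
    exact ⟨(MulEquiv.ofBijective _ hb).trans e2⟩

end Cfsg.Agent.H417.SylEngine
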