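import Mathlib
import Cfsg.Agent.H571.SylowNumber

/-!
# Groups with 18 Sylow 17-subgroups, faithful on them (helper417)
-/

set_option autoImplicit false

namespace Cfsg.Agent.H417.SylSeventeen

open Subgroup MulAction

universe u

instance fact17 : Fact (Nat.Prime 17) := ⟨by norm_num⟩
instance fact2 : Fact (Nat.Prime 2) := ⟨by norm_num⟩
instance fact3 : Fact (Nat.Prime 3) := ⟨by norm_num⟩

variable {X : Type u} [Group X] [Finite X]

/-- An element of a Sylow subgroup fixes a Sylow subgroup iff it belongs to it. -/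
theorem smul_eq_iff_mem {p : ℕ} [Fact p.Prime] {P Q : Sylow p X} {g : X} (hg : g ∈ P) :
    g • Q = Q ↔ g ∈ Q := by
  constructor
  · intro h
    have h1 : IsPGroup p (Subgroup.zpowers g) := by
      refine P.isPGroup'.to_le ?_
      rw [Subgroup.zpowers_le]
      exact hg
    have h2 := IsPGroup.inf_normalizer_sylow h1 Q
    have h3 : Subgroup.zpowers g ≤ normalizer (Q : Set X) := by
      rw [Subgroup.zpowers_le, ← Sylow.smul_eq_iff_mem_normalizer]
      exact h
    rw [inf_eq_left.mpr h3] at h2
    have h4 := inf_eq_left.mp h2.symm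
    exact h4 (Subgroup.mem_zpowers g)
  · intro h
    rw [Sylow.smul_eq_iff_mem_normalizer]
    exact Subgroup.le_normalizer h

theorem smul_self {p : ℕ} [Fact p.Prime] {P : Sylow p X} {g : X} (hg : g ∈ P) : g • P = P :=
  (smul_eq_iff_mem hg).2 hg

/-- the hypotheses -/
structure Hyp (X : Type u) [Group X] [Finite X] : Prop where
  card : Nat.card (Sylow 17 X) = 18
  faith : ∀ g : X, (∀ P : Sylow 17 X, g • P = P) → g = 1

namespace Hyp

variable (h : Hyp X)
include h

theorem card_sylow (P : Sylow 17 X) : Nat.card P = 17 := by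
  classical
  have hinj : Function.Injective (MulAction.toPermHom X (Sylow 17 X)) := by
    rw [injective_iff_map_eq_one]
    intro g hg
    refine h.faith g fun P => ?_
    exact congrArg (fun σ : Equiv.Perm (Sylow 17 X) => σ P) hg
  have h1 : Nat.card X ∣ Nat.card (Equiv.Perm (Sylow 17 X)) :=
    Subgroup.card_dvd_of_injective _ hinj
  rw [Nat.card_perm, h.card] at h1
  obtain ⟨k, hk⟩ := IsPGroup.iff_card.mp P.isPGroup'
  have hk' : Nat.card (P : Subgroup X) = 17 ^ k := hk
  have h2 : Nat.card (P : Subgroup X) ∣ Nat.factorial 18 :=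
    (Subgroup.card_subgroup_dvd_card _).trans h1
  rw [hk'] at h2
  have hk1 : k < 2 := by
    by_contra hlt
    have h3 : 17 ^ 2 ∣ Nat.factorial 18 := (pow_dvd_pow 17 (by omega)).trans h2
    revert h3
    decide +kernel
  have hk0 : k ≠ 0 := by
    rintro rfl
    rw [pow_zero] at hk'
    have hbot : (P : Subgroup X) = ⊥ := Subgroup.card_eq_one.1 hk'
    have hs : Subsingleton (Sylow 17 X) := by
      have : (P : Subgroup X).Normal := by rw [hbot]; infer_instance
      exact (Sylow.unique_of_normal P this).instSubsingleton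
    have := (Nat.card_eq_one_iff_unique (α := Sylow 17 X)).2 ⟨hs, ⟨P⟩⟩
    rw [h.card] at this
    norm_num at this
  have : k = 1 := by omega
  show Nat.card (P : Subgroup X) = 17
  rw [hk', this, pow_one]

theorem inf_eq_bot {P Q : Sylow 17 X} (hPQ : P ≠ Q) : (P : Subgroup X) ⊓ Q = ⊥ := by
  have h1 : Nat.card ((P : Subgroup X) ⊓ Q : Subgroup X) ∣ Nat.card (P : Subgroup X) :=
    Subgroup.card_dvd_of_le inf_le_left
  rw [show Nat.card (P : Subgroup X) = 17 from h.card_sylow P] at h1
  rcases (Nat.dvd_prime (by norm_num)).1 h1 with h2 | h2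
  · exact Subgroup.card_eq_one.1 h2
  · exfalso
    have h3 : ((P : Subgroup X) ⊓ Q : Subgroup X) = P :=
      Subgroup.eq_of_le_of_card_ge inf_le_left (by rw [h2]; exact (h.card_sylow P).le)
    have h4 : ((P : Subgroup X) ⊓ Q : Subgroup X) = Q :=
      Subgroup.eq_of_le_of_card_ge inf_le_right (by rw [h2]; exact (h.card_sylow Q).le)
    exact hPQ (Sylow.ext (h3.symm.trans h4))

theorem eq_one_of_mem {P Q : Sylow 17 X} (hPQ : P ≠ Q) {g : X} (h1 : g ∈ P) (h2 : g • Q = Q) :
    g = 1 := by
  have h3 : g ∈ ((P : Subgroup X) ⊓ Q : Subgroup X) := ⟨h1, (smul_eq_iff_mem h1).1 h2⟩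
  rw [h.inf_eq_bot hPQ, mem_bot] at h3
  exact h3

/-- `P` is transitive on the other Sylow subgroups. -/
theorem exists_smul {P Q R : Sylow 17 X} (hPQ : P ≠ Q) (hPR : P ≠ R) : ∃ x ∈ P, x • Q = R := by
  classical
  have hfin : Finite (Sylow 17 X) := inferInstance
  have := Fintype.ofFinite (Sylow 17 X)
  let f : ↥(P : Subgroup X) → {S : Sylow 17 X // S ≠ P} := fun x => ⟨(x : X) • Q, by
    intro hx
    apply hPQ
    have : Q = (x : X)⁻¹ • P := eq_inv_smul_iff.2 hx
    rw [this, smul_self (inv_mem x.2)]⟩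
  have hf : Function.Injective f := by
    intro x y hxy
    have h1 : (x : X) • Q = (y : X) • Q := congrArg Subtype.val hxy
    have h2 : ((y : X)⁻¹ * x) • Q = Q := by rw [mul_smul, h1, inv_smul_smul]
    have h3 := h.eq_one_of_mem hPQ (mul_mem (inv_mem y.2) x.2) h2
    exact Subtype.ext (by
      rw [inv_mul_eq_one] at h3
      exact h3.symm)
  have hc : Nat.card {S : Sylow 17 X // S ≠ P} = 17 := by
    rw [Nat.card_eq_fintype_card, Fintype.card_subtype_compl, Fintype.card_subtype_eq,
      ← Nat.card_eq_fintype_card, h.card]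
  have hbij : Function.Bijective f := by
    rw [Nat.bijective_iff_injective_and_card]
    exact ⟨hf, by rw [hc]; exact h.card_sylow P⟩
  obtain ⟨x, hx⟩ := hbij.2 ⟨R, hPR.symm⟩
  exact ⟨x, x.2, congrArg Subtype.val hx⟩

theorem two_trans {P Q P' Q' : Sylow 17 X} (hPQ : P ≠ Q) (hPQ' : P' ≠ Q') :
    ∃ g : X, g • P = P' ∧ g • Q = Q' := by
  obtain ⟨a, ha⟩ := MulAction.exists_smul_eq X P P'
  have h1 : P' ≠ a • Q := by
    rw [← ha]
    exact fun h => hPQ (smul_left_cancel a h)
  obtain ⟨b, hb, hb'⟩ := h.exists_smul h1 hPQ'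
  refine ⟨b * a, ?_, ?_⟩
  · rw [mul_smul, ha, smul_self hb]
  · rw [mul_smul, hb']

theorem exists_gen (P : Sylow 17 X) {x : X} (hx : x ∈ P) (hx1 : x ≠ 1) {y : X} (hy : y ∈ P) :
    ∃ n : ℕ, y = x ^ n := by
  have h1 : zpowers x = P := by
    refine Subgroup.eq_of_le_of_card_ge (by rwa [zpowers_le]) ?_
    have h2 : Nat.card (zpowers x) ∣ Nat.card (P : Subgroup X) :=
      Subgroup.card_dvd_of_le (by rwa [zpowers_le])
    rw [show Nat.card (P : Subgroup X) = 17 from h.card_sylow P] at h2
    rcases (Nat.dvd_prime (by norm_num)).1 h2 with h3 | h3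
    · rw [Nat.card_zpowers, orderOf_eq_one_iff] at h3
      exact absurd h3 hx1
    · rw [h3]
      exact (h.card_sylow P).le
  have h2 : y ∈ zpowers x := by rw [h1]; exact hy
  obtain ⟨n, hn⟩ := (mem_powers_iff_mem_zpowers).2 h2
  exact ⟨n, hn.symm⟩

/-- An element normalizing `P`, `Q` and centralizing `P` is trivial. -/
theorem eq_one_of_centralizes {P Q : Sylow 17 X} (hPQ : P ≠ Q) {g : X} (h1 : g • P = P)
    (h2 : g • Q = Q) (h3 : ∀ x ∈ P, g * x = x * g) : g = 1 := by
  refine h.faith g fun S => ?_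
  by_cases hS : S = P
  · rw [hS, h1]
  · obtain ⟨y, hy, hyS⟩ := h.exists_smul hPQ (Ne.symm hS)
    rw [← hyS, ← mul_smul, h3 y hy, mul_smul, h2]

/-- Sharpness. -/
theorem sharp {P Q R : Sylow 17 X} (hPQ : P ≠ Q) (hPR : P ≠ R) (hQR : Q ≠ R) {g : X}
    (h1 : g • P = P) (h2 : g • Q = Q) (h3 : g • R = R) : g = 1 := by
  obtain ⟨x, hx, hxR⟩ := h.exists_smul hPQ hPR
  have hx1 : x ≠ 1 := by
    rintro rfl
    rw [one_smul] at hxR
    exact hQR hxR
  have hgN : g ∈ normalizer (P : Set X) := (Sylow.smul_eq_iff_mem_normalizer).1 h1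
  have h4 : g * x * g⁻¹ ∈ P := ((mem_normalizer_iff.1 hgN) x).1 hx
  have hgi : g⁻¹ • Q = Q := by rw [inv_smul_eq_iff, h2]
  have h5 : (x⁻¹ * (g * x * g⁻¹)) • Q = Q := by
    rw [mul_smul, mul_smul, mul_smul, hgi, hxR, h3, ← hxR, inv_smul_smul]
  have h6 := h.eq_one_of_mem hPQ (mul_mem (inv_mem hx) h4) h5
  have h7 : g * x = x * g := by
    have h8 : x⁻¹ * (g * x * g⁻¹) = 1 := h6
    rw [inv_mul_eq_one] at h8
    conv_rhs => rw [h8]
    group
  refine h.eq_one_of_centralizes hPQ h1 h2 fun y hy => ?_
  obtain ⟨n, rfl⟩ := h.exists_gen P hx hx1 hy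
  exact (Commute.pow_right h7 n : g * x ^ n = x ^ n * g)

/-- The order. -/
theorem exists_card {P Q : Sylow 17 X} (hPQ : P ≠ Q) :
    Nat.card (normalizer (P : Set X) ⊓ normalizer (Q : Set X) : Subgroup X) ∣ 16 ∧
    Nat.card X = 306 *
      Nat.card (normalizer (P : Set X) ⊓ normalizer (Q : Set X) : Subgroup X) := by
  constructor
  · -- embedding in `Aut P`
    let E : Subgroup X := normalizer (P : Set X) ⊓ normalizer (Q : Set X)
    let f : E →* MulAut (P : Subgroup X) :=
      (P : Subgroup X).normalizerMonoidHom.comp (Subgroup.inclusion inf_le_left)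
    have hf : Function.Injective f := by
      rw [injective_iff_map_eq_one]
      intro g hg
      apply Subtype.ext
      refine h.eq_one_of_centralizes hPQ ((Sylow.smul_eq_iff_mem_normalizer).2 g.2.1)
        ((Sylow.smul_eq_iff_mem_normalizer).2 g.2.2) fun x hx => ?_
      have h1 := congrArg (fun φ : MulAut (P : Subgroup X) => ((φ ⟨x, hx⟩ : (P : Subgroup X)) : X)) hg
      have h2 : (g : X) * x * (g : X)⁻¹ = x := h1
      rw [mul_inv_eq_iff_eq_mul] at h2
      exact h2
    have h1 := Subgroup.card_dvd_of_injective f hf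
    have hc : IsCyclic (P : Subgroup X) := isCyclic_of_prime_card (h.card_sylow P)
    have h2 : Nat.card (MulAut (P : Subgroup X)) = 16 := by
      rw [IsCyclic.card_mulAut, show Nat.card (P : Subgroup X) = 17 from h.card_sylow P]
      decide +kernel
    rwa [h2] at h1
  · have h1 : (normalizer (P : Set X)).index = 18 := by
      rw [← h.card]
      exact P.card_eq_index_normalizer.symm
    have h2 : (normalizer (Q : Set X)).relIndex (normalizer (P : Set X)) = 17 := by
      -- the orbit of `Q`
      have e1 : (MulAction.stabilizer (normalizer (P : Set X)) Q) =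
          (normalizer (Q : Set X)).subgroupOf (normalizer (P : Set X)) := by
        ext g
        rw [MulAction.mem_stabilizer_iff, mem_subgroupOf, ← Sylow.smul_eq_iff_mem_normalizer]
        rfl
      rw [Subgroup.relIndex, ← e1, MulAction.index_stabilizer]
      have e2 : MulAction.orbit (normalizer (P : Set X)) Q = {P}ᶜ := by
        ext S
        rw [MulAction.mem_orbit_iff, Set.mem_compl_iff, Set.mem_singleton_iff]
        constructor
        · rintro ⟨g, rfl⟩ hg
          apply hPQ
          have h3 : (g : X) • P = P := (Sylow.smul_eq_iff_mem_normalizer).2 g.2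
          have h4 : (g : X) • Q = P := hg
          exact smul_left_cancel (g : X) (h3.trans h4.symm)
        · intro hS
          obtain ⟨x, hx, hx'⟩ := h.exists_smul hPQ (Ne.symm hS)
          exact ⟨⟨x, Subgroup.le_normalizer hx⟩, hx'⟩
      rw [e2, Set.ncard_compl, Set.ncard_singleton, h.card]
    have h3 := Subgroup.card_mul_index (normalizer (P : Set X))
    have h4 := Subgroup.card_mul_index ((normalizer (Q : Set X)).subgroupOf (normalizer (P : Set X)))
    have h5 : Nat.card ((normalizer (Q : Set X)).subgroupOf (normalizer (P : Set X))) =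
        Nat.card (normalizer (P : Set X) ⊓ normalizer (Q : Set X) : Subgroup X) := by
      rw [inf_comm]
      rw [← Subgroup.inf_subgroupOf_right]
      exact Nat.card_congr (Subgroup.subgroupOfEquivOfLe inf_le_right).toEquiv
    have h6 : ((normalizer (Q : Set X)).subgroupOf (normalizer (P : Set X))).index = 17 := h2
    rw [h5, h6] at h4
    rw [h1, ← h4] at h3
    rw [← h3]
    ring

theorem exists_ne (P : Sylow 17 X) : ∃ Q : Sylow 17 X, P ≠ Q := by
  by_contra hno
  push Not at hno
  have hs : Subsingleton (Sylow 17 X) := ⟨fun a b => by rw [← hno a, ← hno b]⟩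
  have := (Nat.card_eq_one_iff_unique (α := Sylow 17 X)).2 ⟨hs, ⟨P⟩⟩
  rw [h.card] at this
  norm_num at this

/-- the number of Sylow 2-subgroups -/
theorem card_sylow_two {e : ℕ} (he : Nat.card X = 306 * e) (h8 : 8 ≤ e) :
    Nat.card (Sylow 2 X) = 153 := by
  obtain ⟨P⟩ : Nonempty (Sylow 17 X) := inferInstance
  obtain ⟨Q, hPQ⟩ := h.exists_ne P
  obtain ⟨h1, h2⟩ := h.exists_card hPQ
  set E : Subgroup X := normalizer (P : Set X) ⊓ normalizer (Q : Set X) with hE
  have hEe : Nat.card E = e := by
    rw [h2] at he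
    omega
  rw [hEe] at h1
  have memE : ∀ {g : X}, g ∈ E ↔ g • P = P ∧ g • Q = Q := fun {g} => by
    rw [Sylow.smul_eq_iff_mem_normalizer, Sylow.smul_eq_iff_mem_normalizer]
    exact Iff.rfl
  -- the stabilizer of `{P, Q}`
  let D : Subgroup X :=
    { carrier := {g | (g • P = P ∧ g • Q = Q) ∨ (g • P = Q ∧ g • Q = P)}
      one_mem' := Or.inl ⟨one_smul _ _, one_smul _ _⟩
      mul_mem' := by
        rintro a b (⟨ha, ha'⟩ | ⟨ha, ha'⟩) (⟨hb, hb'⟩ | ⟨hb, hb'⟩)
        · exact Or.inl ⟨by rw [mul_smul, hb, ha], by rw [mul_smul, hb', ha']⟩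
        · exact Or.inr ⟨by rw [mul_smul, hb, ha'], by rw [mul_smul, hb', ha]⟩
        · exact Or.inr ⟨by rw [mul_smul, hb, ha], by rw [mul_smul, hb', ha']⟩
        · exact Or.inl ⟨by rw [mul_smul, hb, ha'], by rw [mul_smul, hb', ha]⟩
      inv_mem' := by
        rintro a (⟨ha, ha'⟩ | ⟨ha, ha'⟩)
        · exact Or.inl ⟨(eq_inv_smul_iff.2 ha).symm, (eq_inv_smul_iff.2 ha').symm⟩
        · exact Or.inr ⟨(eq_inv_smul_iff.2 ha').symm, (eq_inv_smul_iff.2 ha).symm⟩ }
  have memD : ∀ {g : X}, g ∈ D ↔ (g • P = P ∧ g • Q = Q) ∨ (g • P = Q ∧ g • Q = P) := Iff.rfl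
  have hED : E ≤ D := fun g hg => memD.2 (Or.inl (memE.1 hg))
  obtain ⟨s, hs, hs'⟩ := h.two_trans hPQ hPQ.symm
  have hsD : s ∈ D := memD.2 (Or.inr ⟨hs, hs'⟩)
  have hsE : s ∉ E := fun h5 => hPQ ((memE.1 h5).1.symm.trans hs)
  have hidx : E.relIndex D = 2 := by
    rw [Subgroup.relIndex, Subgroup.index_eq_two_iff]
    refine ⟨⟨s, hsD⟩, fun b => ?_⟩
    rw [mem_subgroupOf, mem_subgroupOf, memE, memE]
    have hb := memD.1 b.2
    have e1 : (((b * ⟨s, hsD⟩ : D)) : X) = b * s := rfl
    rw [e1, mul_smul, mul_smul, hs, hs']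
    rcases hb with ⟨hb, hb'⟩ | ⟨hb, hb'⟩
    · rw [hb, hb']
      right
      exact ⟨⟨rfl, rfl⟩, fun h6 => hPQ h6.2⟩
    · rw [hb, hb']
      left
      exact ⟨⟨rfl, rfl⟩, fun h6 => hPQ h6.2⟩
  have hD : Nat.card D = 2 * e := by
    have h3 := Subgroup.relIndex_mul_relIndex (⊥ : Subgroup X) E D bot_le hED
    rw [relIndex_bot_left, relIndex_bot_left, hidx, hEe] at h3
    omega
  -- `D` is a Sylow 2-subgroup
  have hepow : ∃ k, 2 * e = 2 ^ k := by
    have h3 : e ∣ 2 ^ 4 := by simpa using h1
    obtain ⟨k, -, hk⟩ := (Nat.dvd_prime_pow Nat.prime_two).1 h3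
    exact ⟨k + 1, by rw [hk, pow_succ, mul_comm]⟩
  have hDp : IsPGroup 2 D := by
    obtain ⟨k, hk⟩ := hepow
    exact IsPGroup.of_card (hD.trans hk)
  have hDi : D.index = 153 := by
    have h3 := D.card_mul_index
    rw [hD, he] at h3
    have : 0 < e := by omega
    nlinarith
  let S : Sylow 2 X := hDp.toSylow (by rw [hDi]; norm_num)
  have hS : (S : Subgroup X) = D := rfl
  have hN : normalizer (D : Set X) ≤ D := by
    intro n hn
    -- images of `P`, `Q` under `n`
    have key : ∀ R : Sylow 17 X, (R = P ∨ R = Q) → n • R = P ∨ n • R = Q := by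
      intro R hR
      by_contra hno
      push Not at hno
      -- the elements of `E` fixing `n • R`
      have hstab : ∀ g ∈ E, g • (n • R) = n • P ∨ g • (n • R) = n • Q := by
        intro g hg
        have h4 : n⁻¹ * g * n ∈ D := by
          have h5 := (mem_normalizer_iff.1 (inv_mem hn) g).1 (hED hg)
          simpa using h5
        have h6 : g • (n • R) = n • ((n⁻¹ * g * n) • R) := by
          rw [← mul_smul, ← mul_smul]
          congr 1
          group
        rw [h6]
        rcases memD.1 h4 with ⟨h7, h7'⟩ | ⟨h7, h7'⟩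
        · rcases hR with rfl | rfl
          · left; rw [h7]
          · right; rw [h7']
        · rcases hR with rfl | rfl
          · right; rw [h7]
          · left; rw [h7']
      -- injectivity of `g ↦ g • n • R` on `E`
      let f : E → ({n • P, n • Q} : Set (Sylow 17 X)) := fun g => ⟨(g : X) • (n • R), by
        rcases hstab g g.2 with h5 | h5
        · left; exact h5
        · right; exact h5⟩
      have hf : Function.Injective f := by
        intro a b hab
        have h5 : (a : X) • (n • R) = (b : X) • (n • R) := congrArg Subtype.val hab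
        have h6 : ((b : X)⁻¹ * a) • (n • R) = n • R := by rw [mul_smul, h5, inv_smul_smul]
        have h7 := memE.1 (mul_mem (inv_mem b.2) a.2)
        have h8 := h.sharp hPQ hno.1.symm hno.2.symm h7.1 h7.2 h6
        apply Subtype.ext
        rw [inv_mul_eq_one] at h8
        exact h8.symm
      have h5 := Nat.card_le_card_of_injective f hf
      have h6 : Nat.card ({n • P, n • Q} : Set (Sylow 17 X)) ≤ 2 := by
        rw [Nat.card_coe_set_eq]
        exact (Set.ncard_insert_le _ _).trans (by rw [Set.ncard_singleton])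
      have h7 : Nat.card E ≤ 2 := h5.trans h6
      omega
    have hP := key P (Or.inl rfl)
    have hQ := key Q (Or.inr rfl)
    rcases hP with hP | hP
    · rcases hQ with hQ | hQ
      · exact absurd (smul_left_cancel n (hP.trans hQ.symm)) hPQ
      · exact memD.2 (Or.inl ⟨hP, hQ⟩)
    · rcases hQ with hQ | hQ
      · exact memD.2 (Or.inr ⟨hP, hQ⟩)
      · exact absurd (smul_left_cancel n (hP.trans hQ.symm)) hPQ
  have h9 := S.card_eq_index_normalizer
  have h10 : normalizer (S : Set X) = D := le_antisymm hN le_normalizer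
  rw [h10, hDi] at h9
  exact h9

/-- the number of Sylow 3-subgroups -/
theorem card_sylow_three {e : ℕ} (he : Nat.card X = 306 * e) (h8 : 8 ≤ e)
    {x : X} (hx : orderOf x = 9) (hd : Nat.card (Sylow 3 X) ∣ 136) :
    Nat.card (Sylow 3 X) = 136 := by
  obtain ⟨P⟩ : Nonempty (Sylow 17 X) := inferInstance
  obtain ⟨Q, hPQ⟩ := h.exists_ne P
  obtain ⟨h1, h2⟩ := h.exists_card hPQ
  have hEe : Nat.card (normalizer (P : Set X) ⊓ normalizer (Q : Set X) : Subgroup X) = e := by
    rw [h2] at he
    omega
  rw [hEe] at h1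
  have h3e : ¬ 3 ∣ e := fun h3 => by
    have := h3.trans h1
    norm_num at this
  have hcard : Nat.card (zpowers x) = 9 := by rw [Nat.card_zpowers, hx]
  have hRp : IsPGroup 3 (zpowers x) := IsPGroup.of_card (n := 2) (by rw [hcard]; norm_num)
  have hRi : (zpowers x).index = 34 * e := by
    have h3 := (zpowers x).card_mul_index
    rw [hcard, he] at h3
    omega
  have hRi3 : ¬ 3 ∣ (zpowers x).index := by
    rw [hRi]
    omega
  let R : Sylow 3 X := hRp.toSylow hRi3
  have hR : (R : Subgroup X) = zpowers x := rfl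
  -- `R` is semiregular
  have hNP : ¬ 3 ∣ Nat.card (normalizer (P : Set X)) := by
    have h3 := (normalizer (P : Set X)).card_mul_index
    have h4 : (normalizer (P : Set X)).index = 18 := by
      rw [← h.card]
      exact P.card_eq_index_normalizer.symm
    rw [h4, he] at h3
    omega
  have hsemi : ∀ r ∈ zpowers x, r • P = P → r = 1 := by
    intro r hr hrP
    have h4 : r ∈ normalizer (P : Set X) := (Sylow.smul_eq_iff_mem_normalizer).1 hrP
    have h5 : orderOf r ∣ 9 := by
      rw [← hcard]
      have := orderOf_dvd_natCard (⟨r, hr⟩ : zpowers x)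
      rwa [Subgroup.orderOf_mk] at this
    have h6 : orderOf r ∣ Nat.card (normalizer (P : Set X)) := by
      have := orderOf_dvd_natCard (⟨r, h4⟩ : normalizer (P : Set X))
      rwa [Subgroup.orderOf_mk] at this
    have h7 : orderOf r = 1 := by
      have h8 : orderOf r ∣ 3 ^ 2 := by simpa using h5
      obtain ⟨k, -, hk⟩ := (Nat.dvd_prime_pow Nat.prime_three).1 h8
      rcases Nat.eq_zero_or_pos k with rfl | hk0
      · rw [hk, pow_zero]
      · exact absurd ((dvd_pow_self 3 hk0.ne').trans (hk ▸ h6)) hNP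
    exact orderOf_eq_one_iff.1 h7
  have hx1 : x ≠ 1 := fun h4 => by rw [h4, orderOf_one] at hx; norm_num at hx
  have hx2 : x * x ≠ 1 := fun h4 => by
    have := orderOf_dvd_of_pow_eq_one (x := x) (n := 2) (by rw [pow_two]; exact h4)
    rw [hx] at this
    norm_num at this
  have hxm : x ∈ zpowers x := mem_zpowers x
  -- the centralizer
  have hC : Nat.card (centralizer ((zpowers x : Subgroup X) : Set X)) ≤ 18 := by
    rw [← h.card]
    refine Nat.card_le_card_of_injective
      (fun c : centralizer ((zpowers x : Subgroup X) : Set X) => (c : X) • P) ?_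
    intro a b hab
    have h5 : (a : X) • P = (b : X) • P := hab
    have h6 : ((b : X)⁻¹ * a) • P = P := by rw [mul_smul, h5, inv_smul_smul]
    have h7 : (b : X)⁻¹ * a ∈ centralizer ((zpowers x : Subgroup X) : Set X) :=
      mul_mem (inv_mem b.2) a.2
    set d := (b : X)⁻¹ * a with hd'
    have h8 : ∀ r ∈ zpowers x, d • (r • P) = r • P := by
      intro r hr
      rw [← mul_smul, ← mem_centralizer_iff.1 h7 r hr, mul_smul, h6]
    have h9 : P ≠ x • P := fun h10 => hx1 (hsemi x hxm h10.symm)
    have h10 : P ≠ (x * x) • P := fun h10 => hx2 (hsemi _ (mul_mem hxm hxm) h10.symm)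
    have h11 : x • P ≠ (x * x) • P := by
      rw [mul_smul]
      exact fun h12 => h9 (smul_left_cancel x h12)
    have h12 := h.sharp h9 h10 h11 h6 (h8 x hxm) (h8 _ (mul_mem hxm hxm))
    apply Subtype.ext
    rw [hd', inv_mul_eq_one] at h12
    exact h12.symm
  -- the normalizer
  have hCN : centralizer ((zpowers x : Subgroup X) : Set X) ≤ normalizer ((zpowers x : Subgroup X) : Set X) :=
    Subgroup.centralizer_le_normalizer _
  have hrel : (centralizer ((zpowers x : Subgroup X) : Set X)).relIndex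
      (normalizer ((zpowers x : Subgroup X) : Set X)) ≤ 2 := by
    have h4 : (centralizer ((zpowers x : Subgroup X) : Set X)).relIndex
        (normalizer ((zpowers x : Subgroup X) : Set X)) ∣ 6 := by
      have h5 : Nat.card (MulAut (zpowers x)) = 6 := by
        rw [IsCyclic.card_mulAut, hcard]
        decide +kernel
      rw [← h5, Subgroup.relIndex, ← Subgroup.normalizerMonoidHom_ker, Subgroup.index_ker]
      exact Subgroup.card_subgroup_dvd_card _
    have h6 : ¬ 3 ∣ (centralizer ((zpowers x : Subgroup X) : Set X)).relIndex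
        (normalizer ((zpowers x : Subgroup X) : Set X)) := by
      intro h7
      apply hRi3
      have h8 : zpowers x ≤ centralizer ((zpowers x : Subgroup X) : Set X) := by
        intro a ha
        rw [mem_centralizer_iff]
        intro b hb
        obtain ⟨i, rfl⟩ := mem_zpowers_iff.1 ha
        obtain ⟨j, rfl⟩ := mem_zpowers_iff.1 hb
        rw [← zpow_add, ← zpow_add, add_comm]
      have h9 : (centralizer ((zpowers x : Subgroup X) : Set X)).relIndex
          (normalizer ((zpowers x : Subgroup X) : Set X)) ∣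
          (centralizer ((zpowers x : Subgroup X) : Set X)).index :=
        Subgroup.relIndex_dvd_index_of_le hCN
      exact h7.trans (h9.trans (Subgroup.index_dvd_of_le h8))
    have h7 : (centralizer ((zpowers x : Subgroup X) : Set X)).relIndex
        (normalizer ((zpowers x : Subgroup X) : Set X)) ∈ Nat.divisors 6 :=
      Nat.mem_divisors.2 ⟨h4, by norm_num⟩
    have h8 : Nat.divisors 6 = {1, 2, 3, 6} := by decide
    rw [h8] at h7
    simp only [Finset.mem_insert, Finset.mem_singleton] at h7
    omega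
  have hN : Nat.card (normalizer ((zpowers x : Subgroup X) : Set X)) ≤ 36 := by
    have h3 := Subgroup.relIndex_mul_relIndex (⊥ : Subgroup X) _ _ bot_le hCN
    rw [relIndex_bot_left, relIndex_bot_left] at h3
    rw [← h3]
    calc _ ≤ 18 * 2 := Nat.mul_le_mul hC hrel
      _ = 36 := by norm_num
  have h9 := R.card_eq_index_normalizer
  have h10 : normalizer (R : Set X) = normalizer ((zpowers x : Subgroup X) : Set X) := rfl
  rw [h10] at h9
  have h11 := (normalizer ((zpowers x : Subgroup X) : Set X)).card_mul_index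
  rw [← h9, he] at h11
  have h12 : 68 ≤ Nat.card (Sylow 3 X) := by
    by_contra hlt
    push Not at hlt
    have : 306 * e ≤ 36 * 67 := by
      rw [← h11]
      exact Nat.mul_le_mul hN (by omega)
    omega
  have h13 := card_sylow_modEq_one 3 X
  have h14 : Nat.card (Sylow 3 X) ∈ Nat.divisors 136 := Nat.mem_divisors.2 ⟨hd, by norm_num⟩
  have h15 : Nat.divisors 136 = {1, 2, 4, 8, 17, 34, 68, 136} := by decide
  rw [h15] at h14
  simp only [Finset.mem_insert, Finset.mem_singleton] at h14
  unfold Nat.ModEq at h13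
  omega

end Hyp

end Cfsg.Agent.H417.SylSeventeen
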