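import Cfsg.Agent.H417.TorRow
import Cfsg.Agent.CharactersDeep.Extraspecial

/-!
# Self-centralizing cyclic tori with central second factor: orbits and columns (helper417)

`Tor φ`, `φ : A × B →* G`, and `φ (1, b)` central in `G` for all `b`.
-/

set_option autoImplicit false
set_option linter.unusedSectionVars false

namespace Cfsg.Agent.H417.TorCol

open Cfsg Finset Cfsg.Agent.Characters.Core Cfsg.Agent.Characters.Linear Cfsg.Agent.H417.TorDual
  Cfsg.Agent.H417.TorRow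
open scoped ComplexConjugate Classical BigOperators

universe u v w

variable {G : Type u} [Group G] {A : Type v} {B : Type w} [CommGroup A] [CommGroup B]

/-- `φ (1, b)` is central -/
def CenB (φ : A × B →* G) : Prop := ∀ b g, g * φ (1, b) = φ (1, b) * g

variable {φ : A × B →* G} [Fintype G] [Fintype A] [Fintype B]

theorem kap_snd (hT : Tor φ) (hB : CenB φ) {x : G} (hx : x ∈ NT φ) (b : B) : b ^ kap φ x = b := by
  have h1 := hT.kap_spec hx (1, b)
  rw [hB b x, mul_inv_cancel_right] at h1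
  have h2 := hT.inj h1
  simpa using (congrArg Prod.snd h2).symm

theorem mu_kap (hT : Tor φ) (hB : CenB φ) {x : G} (hx : x ∈ NT φ) (μ : B →* ℂˣ) : μ ^ kap φ x = μ := by
  ext b
  rw [MonoidHom.pow_apply, ← map_pow, kap_snd hT hB hx]

theorem kap_fst (hT : Tor φ) {x : G} (hx : x ∈ NT φ) (a : A) : x * φ (a, 1) * x⁻¹ = φ (a ^ kap φ x, 1) := by
  rw [hT.kap_spec hx]
  simp

theorem pow_inj (hT : Tor φ) {x : G} (hx : x ∈ NT φ) : Function.Bijective fun a : A => a ^ kap φ x := by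
  rw [← Finite.injective_iff_bijective]
  intro a a' h
  have h1 : φ (a ^ kap φ x, 1) = φ (a' ^ kap φ x, 1) := by
    have h' : a ^ kap φ x = a' ^ kap φ x := h
    rw [h']
  rw [← kap_fst hT hx, ← kap_fst hT hx] at h1
  have h2 : φ (a, 1) = φ (a', 1) := by simpa using h1
  exact congrArg Prod.fst (hT.inj h2)

theorem theta_inj (hT : Tor φ) {x : G} (hx : x ∈ NT φ) {θ θ' : A →* ℂˣ} (h : θ ^ kap φ x = θ' ^ kap φ x) : θ = θ' := by
  ext a
  obtain ⟨a', ha'⟩ := (pow_inj hT hx).2 a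
  have ha'' : a' ^ kap φ x = a := ha'
  have h1 := DFunLike.congr_fun h a'
  rw [MonoidHom.pow_apply, MonoidHom.pow_apply, ← map_pow, ← map_pow, ha''] at h1
  rw [h1]

theorem kap_mul (hT : Tor φ) {x x' : G} (hx : x ∈ NT φ) (hx' : x' ∈ NT φ) (θ : A →* ℂˣ) :
    θ ^ kap φ (x * x') = (θ ^ kap φ x') ^ kap φ x := by
  ext a
  have h1 : φ (a ^ kap φ (x * x'), 1) = φ ((a ^ kap φ x') ^ kap φ x, 1) := by
    rw [← kap_fst hT (mul_mem hx hx'), ← kap_fst hT hx, ← kap_fst hT hx']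
    group
  have h2 : a ^ kap φ (x * x') = (a ^ kap φ x') ^ kap φ x := congrArg Prod.fst (hT.inj h1)
  rw [MonoidHom.pow_apply, ← map_pow, h2, MonoidHom.pow_apply, MonoidHom.pow_apply, map_pow, map_pow]

theorem kap_range (hT : Tor φ) {x : G} (hx : x ∈ φ.range) (θ : A →* ℂˣ) : θ ^ kap φ x = θ := by
  ext a
  have hx' : x ∈ NT φ := range_le φ hx
  have h1 := kap_fst hT hx' a
  obtain ⟨y, rfl⟩ := hx
  have h3 : φ y * φ (a, 1) * (φ y)⁻¹ = φ (a, 1) := by
    rw [← map_mul, mul_comm, map_mul, mul_inv_cancel_right]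
  rw [h3] at h1
  have h2 : a = a ^ kap φ (φ y) := congrArg Prod.fst (hT.inj h1)
  rw [MonoidHom.pow_apply, ← map_pow, ← h2]

/-- **Semiregularity on the dual.** -/
theorem fix (hT : Tor φ) {x : G} (hx : x ∈ NT φ) {θ : A →* ℂˣ} (hθ : θ ≠ 1) (h : θ ^ kap φ x = θ) : x ∈ φ.range := by
  obtain ⟨a0, ha0⟩ : ∃ a0, θ a0 ≠ 1 := by
    by_contra hcon
    push Not at hcon
    exact hθ (MonoidHom.ext hcon)
  have ho : orderOf (θ a0) ≠ 1 := fun h1 => ha0 (orderOf_eq_one_iff.1 h1)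
  obtain ⟨r, hr, hrθ⟩ := Nat.exists_prime_and_dvd ho
  have : Fact r.Prime := ⟨hr⟩
  have hrA : r ∣ Nat.card A := hrθ.trans ((orderOf_map_dvd θ a0).trans (orderOf_dvd_natCard a0))
  obtain ⟨a, ha⟩ := exists_prime_orderOf_dvd_card' r hrA
  have h1 : a ^ kap φ x = a := by
    have h0 : θ a0 ^ kap φ x = θ a0 ^ 1 := by
      rw [pow_one, ← MonoidHom.pow_apply, h]
    have h2 : kap φ x ≡ 1 [MOD orderOf (θ a0)] := pow_eq_pow_iff_modEq.1 h0
    have h3 : kap φ x ≡ 1 [MOD orderOf a] := by rw [ha]; exact h2.of_dvd hrθ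
    have h4 := pow_eq_pow_iff_modEq.2 h3
    rw [pow_one] at h4
    exact h4
  have h2 := kap_fst hT hx a
  rw [h1] at h2
  refine hT.cent a 1 (fun h3 => ?_) x (mul_inv_eq_iff_eq_mul.1 h2)
  rw [h3, orderOf_one] at ha
  exact hr.one_lt.ne ha

/-- the elements of the normalizer -/
noncomputable def nset (φ : A × B →* G) : Finset G := univ.filter fun x => x ∈ NT φ

theorem mem_nset {x : G} : x ∈ nset φ ↔ x ∈ NT φ := by simp [nset]

theorem card_nset : (nset φ).card = Nat.card (NT φ) := by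
  rw [nset, Nat.card_eq_fintype_card, Fintype.card_subtype]

theorem card_range (hT : Tor φ) : (univ.filter fun x : G => x ∈ φ.range).card = Nat.card A * Nat.card B := by
  have h1 : Nat.card φ.range = Nat.card A * Nat.card B := by
    rw [← Nat.card_prod]
    exact (Nat.card_congr (MonoidHom.ofInjective hT.inj).toEquiv).symm
  rw [← h1, Nat.card_eq_fintype_card, Fintype.card_subtype]

/-- the fibers of the action on `θ` -/
theorem fiber_le (hT : Tor φ) {θ : A →* ℂˣ} (hθ : θ ≠ 1) (θ' : A →* ℂˣ) :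
    ((nset φ).filter fun x => θ ^ kap φ x = θ').card ≤ Nat.card A * Nat.card B := by
  rcases Finset.eq_empty_or_nonempty ((nset φ).filter fun x => θ ^ kap φ x = θ') with h0 | ⟨x0, h0⟩
  · rw [h0, Finset.card_empty]; exact Nat.zero_le _
  rw [Finset.mem_filter, mem_nset] at h0
  rw [← card_range hT]
  refine Finset.card_le_card_of_injOn (fun x => x0⁻¹ * x) ?_ ?_
  · intro x hx
    rw [Finset.mem_coe, Finset.mem_filter, mem_nset] at hx
    rw [Finset.mem_coe, Finset.mem_filter]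
    refine ⟨Finset.mem_univ _, ?_⟩
    have hm : x0⁻¹ * x ∈ NT φ := mul_mem (inv_mem h0.1) hx.1
    refine fix hT hm hθ (theta_inj hT h0.1 ?_)
    rw [← kap_mul hT h0.1 hm, mul_inv_cancel_left, hx.2, h0.2]
  · intro x _ x' _ h
    simpa using h

theorem le_fiber (hT : Tor φ) {θ : A →* ℂˣ} {x0 : G} (hx0 : x0 ∈ NT φ) :
    Nat.card A * Nat.card B ≤ ((nset φ).filter fun x => θ ^ kap φ x = θ ^ kap φ x0).card := by
  rw [← card_range hT]
  refine Finset.card_le_card_of_injOn (fun x => x0 * x) ?_ ?_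
  · intro x hx
    rw [Finset.mem_coe, Finset.mem_filter] at hx
    have hm : x ∈ NT φ := range_le φ hx.2
    rw [Finset.mem_coe, Finset.mem_filter, mem_nset]
    refine ⟨mul_mem hx0 hm, ?_⟩
    show θ ^ kap φ (x0 * x) = _
    rw [kap_mul hT hx0 hm, kap_range hT hx.2]
  · intro x _ x' _ h
    simpa using h

variable [Fintype (A →* ℂˣ)]

/-- the orbit of `θ` -/
noncomputable def orb (φ : A × B →* G) (θ : A →* ℂˣ) : Finset (A →* ℂˣ) := (nset φ).image fun x => θ ^ kap φ x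

theorem mem_orb {θ θ' : A →* ℂˣ} : θ' ∈ orb φ θ ↔ ∃ x ∈ NT φ, θ ^ kap φ x = θ' := by
  rw [orb, Finset.mem_image]
  simp only [mem_nset]

theorem self_mem_orb (hT : Tor φ) (θ : A →* ℂˣ) : θ ∈ orb φ θ :=
  mem_orb.2 ⟨1, one_mem _, kap_range hT (one_mem _) θ⟩

theorem orb_card_le (hT : Tor φ) {e : ℕ} (he : Nat.card (NT φ) = e * (Nat.card A * Nat.card B)) (θ : A →* ℂˣ) :
    (orb φ θ).card ≤ e := by
  have h1 : (nset φ).card = ∑ θ' ∈ orb φ θ, ((nset φ).filter fun x => θ ^ kap φ x = θ').card :=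
    Finset.card_eq_sum_card_image _ _
  have h2 : ∑ θ' ∈ orb φ θ, Nat.card A * Nat.card B ≤ (nset φ).card := by
    rw [h1]
    refine Finset.sum_le_sum fun θ' hθ' => ?_
    obtain ⟨x0, hx0, rfl⟩ := mem_orb.1 hθ'
    exact le_fiber hT hx0
  rw [Finset.sum_const, smul_eq_mul, card_nset, he] at h2
  have hAB : 0 < Nat.card A * Nat.card B := Nat.mul_pos Nat.card_pos Nat.card_pos
  exact Nat.le_of_mul_le_mul_right h2 hAB

/-- invariant nonnegative functions -/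
theorem le_orb_sum (hT : Tor φ) {e : ℕ} (he : Nat.card (NT φ) = e * (Nat.card A * Nat.card B)) {θ : A →* ℂˣ}
    (hθ : θ ≠ 1) (f : (A →* ℂˣ) → ℤ) (hf0 : ∀ θ, 0 ≤ f θ) (hf : ∀ x ∈ NT φ, f (θ ^ kap φ x) = f θ) :
    (e : ℤ) * f θ ≤ ∑ θ' ∈ orb φ θ, f θ' := by
  have h1 : ∑ x ∈ nset φ, f (θ ^ kap φ x) = ∑ θ' ∈ orb φ θ, ∑ x ∈ (nset φ).filter (fun x => θ ^ kap φ x = θ'), f (θ ^ kap φ x) := by
    refine (Finset.sum_fiberwise_of_maps_to (fun x hx => ?_) _).symm
    rw [orb, Finset.mem_image]; exact ⟨x, hx, rfl⟩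
  have h2 : ∑ x ∈ nset φ, f (θ ^ kap φ x) = (e * (Nat.card A * Nat.card B) : ℕ) * f θ := by
    rw [Finset.sum_congr rfl fun x hx => hf x (mem_nset.1 hx), Finset.sum_const, card_nset, he]
    simp
  have h3 : ∀ θ' ∈ orb φ θ, ∑ x ∈ (nset φ).filter (fun x => θ ^ kap φ x = θ'), f (θ ^ kap φ x) ≤
      (Nat.card A * Nat.card B : ℕ) * f θ' := by
    intro θ' _
    rw [Finset.sum_congr rfl fun x hx => by rw [(Finset.mem_filter.1 hx).2], Finset.sum_const, nsmul_eq_mul]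
    refine mul_le_mul_of_nonneg_right ?_ (hf0 θ')
    exact_mod_cast fiber_le hT hθ θ'
  have h4 := Finset.sum_le_sum h3
  rw [← h1, h2, ← Finset.mul_sum] at h4
  have hAB : (0 : ℤ) < (Nat.card A * Nat.card B : ℕ) := by exact_mod_cast Nat.mul_pos Nat.card_pos Nat.card_pos
  refine le_of_mul_le_mul_left ?_ hAB
  calc ((Nat.card A * Nat.card B : ℕ) : ℤ) * (e * f θ) = (e * (Nat.card A * Nat.card B) : ℕ) * f θ := by
        push_cast; ring
    _ ≤ _ := h4

theorem one_notMem_orb (hT : Tor φ) {θ : A →* ℂˣ} (hθ : θ ≠ 1) : (1 : A →* ℂˣ) ∉ orb φ θ := by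
  intro h
  obtain ⟨x, hx, h1⟩ := mem_orb.1 h
  refine hθ (theta_inj hT hx ?_)
  rw [h1]
  ext a
  rw [MonoidHom.pow_apply, MonoidHom.one_apply, one_pow]

theorem orb_disjoint (hT : Tor φ) {θ θ' : A →* ℂˣ} (h : θ' ∉ orb φ θ) : Disjoint (orb φ θ) (orb φ θ') := by
  rw [Finset.disjoint_left]
  intro η h1 h2
  obtain ⟨x, hx, h1⟩ := mem_orb.1 h1
  obtain ⟨y, hy, h2⟩ := mem_orb.1 h2
  refine h (mem_orb.2 ⟨y⁻¹ * x, mul_mem (inv_mem hy) hx, theta_inj hT hy ?_⟩)
  rw [← kap_mul hT hy (mul_mem (inv_mem hy) hx), mul_inv_cancel_left, h1, h2]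

/-- two orbits and the trivial character -/
theorem three_le (hT : Tor φ) {e : ℕ} (he : Nat.card (NT φ) = e * (Nat.card A * Nat.card B)) {θ θ' : A →* ℂˣ}
    (hθ : θ ≠ 1) (hθ' : θ' ≠ 1) (h : θ' ∉ orb φ θ) (f : (A →* ℂˣ) → ℤ) (hf0 : ∀ θ, 0 ≤ f θ)
    (hf : ∀ θ, ∀ x ∈ NT φ, f (θ ^ kap φ x) = f θ) : (e : ℤ) * f θ + e * f θ' + f 1 ≤ ∑ η, f η := by
  have h1 := le_orb_sum hT he hθ f hf0 (hf θ)
  have h2 := le_orb_sum hT he hθ' f hf0 (hf θ')
  have h3 : ∑ η ∈ insert 1 (orb φ θ ∪ orb φ θ'), f η ≤ ∑ η, f η :=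
    Finset.sum_le_sum_of_subset_of_nonneg (Finset.subset_univ _) fun η _ _ => hf0 η
  rw [Finset.sum_insert, Finset.sum_union (orb_disjoint hT h)] at h3
  · linarith
  · rw [Finset.mem_union, not_or]
    exact ⟨one_notMem_orb hT hθ, one_notMem_orb hT hθ'⟩

theorem e_lt (hT : Tor φ) {e : ℕ} (he : Nat.card (NT φ) = e * (Nat.card A * Nat.card B)) (hA : 1 < Nat.card A) :
    e < Nat.card A := by
  have hcard : Nat.card (A →* ℂˣ) = Nat.card A := CommGroup.card_monoidHom_of_hasEnoughRootsOfUnity A ℂ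
  have : Nontrivial (A →* ℂˣ) := by
    rw [← Finite.one_lt_card_iff_nontrivial, hcard]; exact hA
  obtain ⟨θ, hθ⟩ := exists_ne (1 : A →* ℂˣ)
  have h1 := le_orb_sum hT he hθ (fun _ => 1) (fun _ => by norm_num) (fun _ _ => rfl)
  rw [Finset.sum_const, mul_one] at h1
  have h2 : (orb φ θ).card < Nat.card A := by
    rw [← hcard, Nat.card_eq_fintype_card, ← Finset.card_univ]
    refine Finset.card_lt_card ⟨Finset.subset_univ _, fun h => one_notMem_orb hT hθ (h (Finset.mem_univ _))⟩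
  have h3 : (e : ℤ) ≤ (orb φ θ).card := by simpa using h1
  have h4 : e ≤ (orb φ θ).card := by exact_mod_cast h3
  omega

/-- two orbits exist -/
theorem exists_two (hT : Tor φ) {e : ℕ} (he : Nat.card (NT φ) = e * (Nat.card A * Nat.card B))
    (hA : e + 1 < Nat.card A) : ∃ θ θ' : A →* ℂˣ, θ ≠ 1 ∧ θ' ≠ 1 ∧ θ' ∉ orb φ θ := by
  have hcard : Nat.card (A →* ℂˣ) = Nat.card A := CommGroup.card_monoidHom_of_hasEnoughRootsOfUnity A ℂ
  have : Nontrivial (A →* ℂˣ) := by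
    rw [← Finite.one_lt_card_iff_nontrivial, hcard]; omega
  obtain ⟨θ, hθ⟩ := exists_ne (1 : A →* ℂˣ)
  have h1 : (insert 1 (orb φ θ)).card < (univ : Finset (A →* ℂˣ)).card := by
    rw [Finset.card_univ, ← Nat.card_eq_fintype_card, hcard]
    have := orb_card_le hT he θ
    have := Finset.card_insert_le (1 : A →* ℂˣ) (orb φ θ)
    omega
  obtain ⟨θ', -, h2⟩ := Finset.exists_mem_notMem_of_card_lt_card h1
  rw [Finset.mem_insert, not_or] at h2
  exact ⟨θ, θ', hθ, h2.1, h2.2⟩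

end Cfsg.Agent.H417.TorCol
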