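import Cfsg.Agent.Characters.Core
import Cfsg.Agent.Characters.Linear
import Mathlib.GroupTheory.FiniteAbelian.Duality
import Mathlib.Algebra.BigOperators.Field

/-!
# Fourier analysis on finite abelian groups (helper417)

* `sum_apply`, `sum_dual` : the orthogonality relations;
* `hat f ν` : the Fourier coefficient of `f` at `ν : T →* ℂˣ`; `inversion`, `parseval`;
* `sum_pairs` : sums over the dual of `A × B`.
-/

set_option autoImplicit false

namespace Cfsg.Agent.H417.TorDual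

open Cfsg Finset Cfsg.Agent.Characters.Core Cfsg.Agent.Characters.Linear
open scoped ComplexConjugate Classical BigOperators

universe u v

section One

variable {A : Type u} [CommGroup A] [Fintype A]

theorem conj_apply (θ : A →* ℂˣ) (a : A) : conj ((θ a : ℂˣ) : ℂ) = ((θ a⁻¹ : ℂˣ) : ℂ) := by
  have h1 := norm_hom_apply θ a
  have h2 : ((θ a : ℂˣ) : ℂ) * conj ((θ a : ℂˣ) : ℂ) = 1 := by
    rw [Complex.mul_conj, Complex.normSq_eq_norm_sq, h1]; norm_num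
  rw [map_inv, Units.val_inv_eq_inv_val]
  exact eq_inv_of_mul_eq_one_right h2

theorem sum_apply (θ : A →* ℂˣ) : ∑ a, ((θ a : ℂˣ) : ℂ) = if θ = 1 then (Nat.card A : ℂ) else 0 := by
  split_ifs with h
  · subst h; simp [Nat.card_eq_fintype_card]
  · exact sum_hom_units_eq_zero (G := A) (R := ℂ) ((Units.coeHom ℂ).comp θ) fun h1 =>
      h (MonoidHom.ext fun a => Units.ext (by simpa using DFunLike.congr_fun h1 a))

theorem sum_dual [Fintype (A →* ℂˣ)] (a : A) :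
    ∑ θ : A →* ℂˣ, ((θ a : ℂˣ) : ℂ) = if a = 1 then (Nat.card A : ℂ) else 0 := by
  split_ifs with h
  · subst h
    simp only [map_one, Units.val_one, Finset.sum_const, Finset.card_univ, nsmul_eq_mul, mul_one]
    rw [← Nat.card_eq_fintype_card, CommGroup.card_monoidHom_of_hasEnoughRootsOfUnity]
  · obtain ⟨θ0, h0⟩ := CommGroup.exists_apply_ne_one_of_hasEnoughRootsOfUnity A ℂ h
    exact sum_hom_units_eq_zero (G := A →* ℂˣ) (R := ℂ) ((Units.coeHom ℂ).comp (MonoidHom.eval a)) fun h1 =>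
      h0 (Units.ext (by simpa using DFunLike.congr_fun h1 θ0))

/-- the Fourier coefficient -/
noncomputable def hat (f : A → ℂ) (ν : A →* ℂˣ) : ℂ := classInner f fun a => ((ν a : ℂˣ) : ℂ)

theorem hat_def (f : A → ℂ) (ν : A →* ℂˣ) : hat f ν = (Nat.card A : ℂ)⁻¹ * ∑ a, f a * ((ν a⁻¹ : ℂˣ) : ℂ) := by
  rw [hat, classInner_def]
  congr 1
  exact Finset.sum_congr rfl fun a _ => by rw [conj_apply]

theorem inversion [Fintype (A →* ℂˣ)] (f : A → ℂ) (a : A) :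
    f a = ∑ ν : A →* ℂˣ, hat f ν * ((ν a : ℂˣ) : ℂ) := by
  have h0 : (Nat.card A : ℂ) ≠ 0 := card_ne_zero_complex
  have h1 : ∀ ν : A →* ℂˣ, hat f ν * ((ν a : ℂˣ) : ℂ) =
      (Nat.card A : ℂ)⁻¹ * ∑ b, f b * ((ν (b⁻¹ * a) : ℂˣ) : ℂ) := by
    intro ν
    rw [hat_def, mul_assoc, Finset.sum_mul]
    congr 1
    refine Finset.sum_congr rfl fun b _ => ?_
    rw [map_mul, Units.val_mul]
    ring
  rw [Finset.sum_congr rfl fun ν _ => h1 ν, ← Finset.mul_sum, Finset.sum_comm]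
  have h2 : ∀ b : A, ∑ ν : A →* ℂˣ, f b * ((ν (b⁻¹ * a) : ℂˣ) : ℂ) = if b = a then f b * (Nat.card A : ℂ) else 0 := by
    intro b
    rw [← Finset.mul_sum, sum_dual]
    by_cases h : b = a
    · rw [if_pos h, if_pos (by rw [h]; group)]
    · rw [if_neg h, if_neg (fun h1 => h (inv_mul_eq_one.1 h1)), mul_zero]
  rw [Finset.sum_congr rfl fun b _ => h2 b, Finset.sum_ite_eq' Finset.univ a, if_pos (Finset.mem_univ a)]
  field_simp

/-- orthogonality of two characters -/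
theorem sum_mul_conj (ν ν' : A →* ℂˣ) :
    ∑ a, ((ν a : ℂˣ) : ℂ) * conj ((ν' a : ℂˣ) : ℂ) = if ν = ν' then (Nat.card A : ℂ) else 0 := by
  have h1 : ∀ a, ((ν a : ℂˣ) : ℂ) * conj ((ν' a : ℂˣ) : ℂ) = (((ν * ν'⁻¹) a : ℂˣ) : ℂ) := by
    intro a
    rw [conj_apply, MonoidHom.mul_apply, MonoidHom.inv_apply, map_inv, Units.val_mul]
  rw [Finset.sum_congr rfl fun a _ => h1 a, sum_apply]
  by_cases h : ν = ν'
  · rw [if_pos h, if_pos (mul_inv_eq_one.2 h)]
  · rw [if_neg h, if_neg (fun h1 => h (mul_inv_eq_one.1 h1))]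

theorem parseval_sum [Fintype (A →* ℂˣ)] (c d : (A →* ℂˣ) → ℂ) :
    ∑ a, (∑ ν : A →* ℂˣ, c ν * ((ν a : ℂˣ) : ℂ)) * conj (∑ ν : A →* ℂˣ, d ν * ((ν a : ℂˣ) : ℂ)) =
      (Nat.card A : ℂ) * ∑ ν : A →* ℂˣ, c ν * conj (d ν) := by
  have h1 : ∀ a, (∑ ν : A →* ℂˣ, c ν * ((ν a : ℂˣ) : ℂ)) * conj (∑ ν : A →* ℂˣ, d ν * ((ν a : ℂˣ) : ℂ)) =
      ∑ ν : A →* ℂˣ, ∑ ν' : A →* ℂˣ, (c ν * conj (d ν')) * (((ν a : ℂˣ) : ℂ) * conj ((ν' a : ℂˣ) : ℂ)) := by
    intro a
    rw [map_sum, Finset.sum_mul_sum]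
    refine Finset.sum_congr rfl fun ν _ => Finset.sum_congr rfl fun ν' _ => ?_
    rw [map_mul]; ring
  rw [Finset.sum_congr rfl fun a _ => h1 a, Finset.sum_comm, Finset.mul_sum]
  refine Finset.sum_congr rfl fun ν _ => ?_
  rw [Finset.sum_comm]
  have h2 : ∀ ν' : A →* ℂˣ, ∑ a, (c ν * conj (d ν')) * (((ν a : ℂˣ) : ℂ) * conj ((ν' a : ℂˣ) : ℂ)) =
      if ν = ν' then (c ν * conj (d ν')) * (Nat.card A : ℂ) else 0 := by
    intro ν'
    rw [← Finset.mul_sum, sum_mul_conj]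
    split_ifs <;> simp
  rw [Finset.sum_congr rfl fun ν' _ => h2 ν', Finset.sum_ite_eq Finset.univ ν, if_pos (Finset.mem_univ ν)]
  ring

theorem parseval [Fintype (A →* ℂˣ)] (f g : A → ℂ) :
    ∑ a, f a * conj (g a) = (Nat.card A : ℂ) * ∑ ν : A →* ℂˣ, hat f ν * conj (hat g ν) := by
  rw [← parseval_sum]
  refine Finset.sum_congr rfl fun a _ => ?_
  rw [← inversion, ← inversion]

end One

section Two

variable {A : Type u} {B : Type v} [CommGroup A] [CommGroup B] [Fintype A] [Fintype B]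

/-- the dual of a product -/
def pairEquiv : ((A →* ℂˣ) × (B →* ℂˣ)) ≃ (A × B →* ℂˣ) where
  toFun p := p.1.coprod p.2
  invFun ν := (ν.comp (MonoidHom.inl A B), ν.comp (MonoidHom.inr A B))
  left_inv p := by
    ext1
    · exact MonoidHom.coprod_comp_inl _ _
    · exact MonoidHom.coprod_comp_inr _ _
  right_inv ν := MonoidHom.coprod_unique ν

omit [Fintype A] [Fintype B] in
theorem sum_pairs [Fintype (A →* ℂˣ)] [Fintype (B →* ℂˣ)] [Fintype (A × B →* ℂˣ)] {M : Type*} [AddCommMonoid M]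
    (F : (A × B →* ℂˣ) → M) :
    ∑ ν : A × B →* ℂˣ, F ν = ∑ μ : B →* ℂˣ, ∑ θ : A →* ℂˣ, F (θ.coprod μ) := by
  rw [Finset.sum_comm, ← Fintype.sum_prod_type' (f := fun (θ : A →* ℂˣ) (μ : B →* ℂˣ) => F (θ.coprod μ))]
  exact (Equiv.sum_comp pairEquiv F).symm

end Two

end Cfsg.Agent.H417.TorDual
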