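import Mathlib.Algebra.BigOperators.Ring.Finset
import Mathlib.Algebra.Order.BigOperators.Group.Finset
import Mathlib.Tactic.Linarith
import Mathlib.Tactic.Ring
import Mathlib.Tactic.Positivity
import Mathlib.GroupTheory.GroupAction.CardCommute
import Mathlib.GroupTheory.GroupAction.Quotient
import Mathlib.Data.Int.ModEq

/-!
# An integer lemma and a counting lemma (helper417)
-/

set_option autoImplicit false

namespace Cfsg.Agent.H417.TorInt

open Finset

/-- **The integer lemma**: an integral vector of small variance is nearly constant. -/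
theorem near {ι : Type*} [Fintype ι] (m : ι → ℤ) (e : ℕ) (t : ℕ) (ht : Fintype.card ι = t)
    (h : (t : ℤ) * ∑ i, m i ^ 2 - (∑ i, m i) ^ 2 ≤ e * t) (hte : 4 * e ^ 2 < t) :
    ∃ k : ℤ, ∑ i, (m i - k) ^ 2 ≤ e := by
  set S := ∑ i, m i with hS
  have ht0 : (0 : ℤ) < t := by
    have : 0 < t := by omega
    exact_mod_cast this
  obtain ⟨k, hk1, hk2⟩ : ∃ k : ℤ, 2 * (S - k * t) ≤ t ∧ -(t : ℤ) ≤ 2 * (S - k * t) := by
    refine ⟨(2 * S + t) / (2 * t), ?_, ?_⟩
    · have h1 := Int.lt_ediv_add_one_mul_self (2 * S + t) (by linarith : (0 : ℤ) < 2 * t)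
      linarith
    · have h1 := Int.ediv_mul_le (2 * S + t) (by linarith : (2 * (t : ℤ)) ≠ 0)
      linarith
  refine ⟨k, ?_⟩
  set x := ∑ i, (m i - k) ^ 2 with hx
  set y := ∑ i, (m i - k) with hy
  have hyS : y = S - k * t := by
    rw [hy, Finset.sum_sub_distrib, Finset.sum_const, Finset.card_univ, ht, nsmul_eq_mul]; ring
  have hxS : x = ∑ i, m i ^ 2 - 2 * k * S + t * k ^ 2 := by
    rw [hx, hS]
    have h1 : ∀ i, (m i - k) ^ 2 = m i ^ 2 - 2 * k * m i + k ^ 2 := fun i => by ring
    rw [Finset.sum_congr rfl fun i _ => h1 i, Finset.sum_add_distrib, Finset.sum_sub_distrib, ← Finset.mul_sum,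
      Finset.sum_const, Finset.card_univ, ht, nsmul_eq_mul]
  have hV : (t : ℤ) * x - y ^ 2 ≤ e * t := by
    rw [hxS, hyS]
    nlinarith [h]
  have hyx1 : y ≤ x := by
    rw [hy, hx]
    refine Finset.sum_le_sum fun i _ => ?_
    nlinarith [mul_self_nonneg (m i - k), Int.le_self_sq (m i - k)]
  have hyx2 : -y ≤ x := by
    rw [hy, hx, ← Finset.sum_neg_distrib]
    refine Finset.sum_le_sum fun i _ => ?_
    have := Int.le_self_sq (-(m i - k))
    nlinarith
  by_contra hcon
  push Not at hcon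
  have hxe : (e : ℤ) + 1 ≤ x := hcon
  -- `z = |y|`
  have hz : |y| ≤ x := abs_le.2 ⟨by linarith, hyx1⟩
  have hz2 : 2 * |y| ≤ t := by
    rw [← hyS] at hk1 hk2
    rcases abs_cases y with ⟨h1, _⟩ | ⟨h1, _⟩ <;> rw [h1] <;> linarith
  have hz0 : 0 ≤ |y| := abs_nonneg y
  have hzz : |y| ^ 2 = y ^ 2 := sq_abs y
  have h1 : (t : ℤ) * (x - e) ≤ |y| ^ 2 := by rw [hzz]; linarith
  have h2 : 2 * (x - e) ≤ |y| := by
    have h3 : 2 * |y| ^ 2 ≤ t * |y| := by nlinarith
    have h4 : (t : ℤ) * (2 * (x - e)) ≤ t * |y| := by nlinarith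
    exact le_of_mul_le_mul_left h4 ht0
  have h3 : |y| ≤ 2 * e := by linarith
  have h4 : |y| ^ 2 ≤ 4 * e ^ 2 := by nlinarith
  have h5 : (t : ℤ) ≤ t * (x - e) := by nlinarith
  have h6 : (4 : ℤ) * e ^ 2 < t := by exact_mod_cast hte
  linarith

/-- the sum is bounded by the sum of squares -/
theorem abs_sum_le {ι : Type*} [Fintype ι] (δ : ι → ℤ) : |∑ i, δ i| ≤ ∑ i, δ i ^ 2 := by
  refine (Finset.abs_sum_le_sum_abs _ _).trans (Finset.sum_le_sum fun i _ => ?_)
  rw [← sq_abs]
  exact Int.le_self_sq _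

/-- **Counting**: a finite group acting with exactly one fixed point, semiregularly off it. -/
theorem card_mod {A X : Type*} [Group A] [Finite A] [Finite X] [MulAction A X] (x0 : X)
    (h0 : ∀ a : A, a • x0 = x0) (h : ∀ (a : A) (x : X), a ≠ 1 → a • x = x → x = x0) :
    Nat.card X ≡ 1 [MOD Nat.card A] := by
  classical
  have := Fintype.ofFinite A
  have := Fintype.ofFinite X
  have h1 := MulAction.sum_card_fixedBy_eq_card_orbits_mul_card_group A X
  have h2 : ∀ a : A, Fintype.card (MulAction.fixedBy X a) = if a = 1 then Nat.card X else 1 := by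
    intro a
    split_ifs with ha
    · subst ha
      rw [Nat.card_eq_fintype_card]
      refine Fintype.card_congr (Equiv.subtypeUnivEquiv fun x => ?_)
      exact one_smul A x
    · rw [Fintype.card_eq_one_iff]
      exact ⟨⟨x0, h0 a⟩, fun y => Subtype.ext (h a y.1 ha y.2)⟩
  rw [Finset.sum_congr rfl fun a _ => h2 a] at h1
  rw [← Finset.add_sum_erase Finset.univ _ (Finset.mem_univ (1 : A)), if_pos rfl,
    Finset.sum_congr rfl (fun a ha => if_neg (Finset.ne_of_mem_erase ha)), Finset.sum_const, Finset.card_erase_of_mem (Finset.mem_univ _),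
    Finset.card_univ, smul_eq_mul, mul_one] at h1
  have hA : 0 < Fintype.card A := Fintype.card_pos
  have h3 : Nat.card X + Fintype.card A = 1 + Fintype.card (Quotient (MulAction.orbitRel A X)) * Fintype.card A := by
    omega
  rw [Nat.card_eq_fintype_card (α := A)]
  unfold Nat.ModEq
  have h4 : (Nat.card X + Fintype.card A) % Fintype.card A = (1 + Fintype.card (Quotient (MulAction.orbitRel A X)) * Fintype.card A) % Fintype.card A := by
    rw [h3]
  rwa [Nat.add_mod_right, Nat.add_mul_mod_self_right] at h4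

end Cfsg.Agent.H417.TorInt
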