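import Cfsg.Agent.H417.TorFalse
import Cfsg.Agent.H850.Cod.Basic
import Mathlib.GroupTheory.SpecificGroups.Cyclic

/-!
# Lifting a self-centralizing cyclic torus to a central extension (helper417)

* `exists_tor` : the datum `φ : A × B →* G`
* `central_sq` : `|N : T| = ℓ ^ 2`
* `central_trans` : `ℓ = 2`, `|T| = 13`, `|N : T| = 12`
-/

set_option autoImplicit false

namespace Cfsg.Agent.H417.TorLift

open Cfsg Subgroup Cfsg.Agent.Characters.Core Cfsg.Agent.H417.TorRow Cfsg.Agent.H417.TorCol Cfsg.Agent.H417.TorMain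
  Cfsg.Agent.H417.TorFalse Cfsg.Agent.H686.CharKit Cfsg.Agent.H850.Cod

universe u v

variable {G : Type u} [Group G] {S : Type v} [Group S]

theorem exists_tor [Finite G] (M : Subgroup G) (hM : M ≤ center G) (hMc : IsCyclic M) (f : G →* S)
    (hf : Function.Surjective f) (hk : f.ker = M) (T : Subgroup S) (hcyc : IsCyclic T)
    (hcent : ∀ y ∈ T, y ≠ 1 → centralizer {y} = T) (hcop : Nat.Coprime (Nat.card T) (Nat.card M)) :
    ∃ (A B : Type) (_ : CommGroup A) (_ : CommGroup B) (_ : Finite A) (_ : Finite B) (φ : A × B →* G),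
      Tor φ ∧ CenB φ ∧ Nat.card A = Nat.card T ∧ Nat.card B = Nat.card M ∧ (∀ b, φ (1, b) ∈ M) ∧
      ∀ m ∈ M, ∃ b, φ (1, b) = m := by
  have hSf : Finite S := Finite.of_surjective f hf
  obtain ⟨s0, hs0⟩ := hcyc.exists_generator
  obtain ⟨g0, hg0⟩ := hf s0
  set t := Nat.card T with ht
  set ℓ := Nat.card M with hℓ
  have hs0o : orderOf s0 = t := orderOf_eq_card_of_forall_mem_zpowers hs0
  have hs0o' : orderOf (s0 : S) = t := by rw [Subgroup.orderOf_coe]; exact hs0o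
  set a0 := g0 ^ ℓ with ha0
  have hfa0 : f a0 = ((s0 ^ ℓ : T) : S) := by rw [ha0, map_pow, hg0]; rfl
  have ha0t : a0 ^ t = 1 := by
    have h1 : g0 ^ t ∈ M := by
      rw [← hk, MonoidHom.mem_ker, map_pow, hg0, ← hs0o', pow_orderOf_eq_one]
    have h2 : (g0 ^ t) ^ ℓ = 1 := by
      have h3 : (⟨g0 ^ t, h1⟩ : M) ^ ℓ = 1 := pow_card_eq_one'
      exact congrArg Subtype.val h3
    rw [ha0, ← pow_mul, mul_comm, pow_mul, h2]
  have hgen : ∀ s : T, ∃ j : ℕ, (s0 ^ ℓ) ^ j = s := by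
    intro s
    have h1 : s ∈ zpowers (s0 ^ ℓ) := by
      have h2 : zpowers (s0 ^ ℓ) = ⊤ := by
        rw [← Subgroup.card_eq_iff_eq_top, Nat.card_zpowers, orderOf_pow, hs0o, hcop, Nat.div_one]
      rw [h2]; exact mem_top s
    obtain ⟨j, hj⟩ := mem_powers_iff_mem_zpowers.2 h1
    exact ⟨j, hj⟩
  have ha0o : orderOf a0 = t := by
    refine Nat.dvd_antisymm (orderOf_dvd_of_pow_eq_one ha0t) ?_
    have h1 : orderOf (f a0) = t := by
      rw [hfa0, Subgroup.orderOf_coe, orderOf_pow, hs0o, hcop, Nat.div_one]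
    rw [← h1]
    exact orderOf_map_dvd f a0
  have hcA : Nat.card (zpowers a0) = t := by rw [Nat.card_zpowers, ha0o]
  let α : Multiplicative (ZMod (Nat.card (zpowers a0))) ≃* zpowers a0 := zmodCyclicMulEquiv inferInstance
  let β : Multiplicative (ZMod (Nat.card M)) ≃* M := zmodCyclicMulEquiv hMc
  have hcomm : ∀ a b, Commute (((zpowers a0).subtype.comp α.toMonoidHom) a) ((M.subtype.comp β.toMonoidHom) b) :=
    fun a b => (mem_center_iff.1 (hM (β b).2) _)
  let φ : Multiplicative (ZMod (Nat.card (zpowers a0))) × Multiplicative (ZMod (Nat.card M)) →* G :=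
    MonoidHom.noncommCoprod ((zpowers a0).subtype.comp α.toMonoidHom) (M.subtype.comp β.toMonoidHom) hcomm
  have hφ : ∀ a b, φ (a, b) = (α a : G) * (β b : G) := fun a b => rfl
  have hfM : ∀ m ∈ M, f m = 1 := fun m hm => by rw [← MonoidHom.mem_ker, hk]; exact hm
  have hfφ : ∀ a b, f (φ (a, b)) = f (α a : G) := fun a b => by rw [hφ, map_mul, hfM _ (β b).2, mul_one]
  -- `f` is injective on `⟨a0⟩`
  have hinj : ∀ x ∈ zpowers a0, f x = 1 → x = 1 := by
    intro x hx h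
    obtain ⟨j, rfl⟩ := mem_powers_iff_mem_zpowers.2 hx
    have h' : f a0 ^ j = 1 := by rw [← map_pow]; exact h
    rw [hfa0] at h'
    have h2 : t ∣ j := by
      have h1 : orderOf ((s0 ^ ℓ : T) : S) = t := by rw [Subgroup.orderOf_coe, orderOf_pow, hs0o, hcop, Nat.div_one]
      rw [← h1]
      exact orderOf_dvd_of_pow_eq_one h'
    obtain ⟨i, rfl⟩ := h2
    show a0 ^ (t * i) = 1
    rw [pow_mul, ha0t, one_pow]
  have hfT : ∀ x ∈ zpowers a0, f x ∈ T := by
    intro x hx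
    obtain ⟨j, rfl⟩ := mem_powers_iff_mem_zpowers.2 hx
    show f (a0 ^ j) ∈ T
    rw [map_pow, hfa0]
    exact pow_mem (SetLike.coe_mem _) _
  have hne1 : Nat.card (zpowers a0) ≠ 0 := Nat.card_pos.ne'
  have hne2 : Nat.card M ≠ 0 := Nat.card_pos.ne'
  have : NeZero (Nat.card (zpowers a0)) := ⟨hne1⟩
  have : NeZero (Nat.card M) := ⟨hne2⟩
  have hfin1 : Finite (Multiplicative (ZMod (Nat.card (zpowers a0)))) := Finite.of_equiv _ α.symm.toEquiv
  have hfin2 : Finite (Multiplicative (ZMod (Nat.card M))) := Finite.of_equiv _ β.symm.toEquiv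
  have hcard1 : Nat.card (Multiplicative (ZMod (Nat.card (zpowers a0)))) = t := by
    rw [Nat.card_congr α.toEquiv, hcA]
  have hcard2 : Nat.card (Multiplicative (ZMod (Nat.card M))) = ℓ := Nat.card_congr β.toEquiv
  have hinjφ : Function.Injective φ := by
    rw [injective_iff_map_eq_one]
    rintro ⟨a, b⟩ h
    have h1 : f (α a : G) = 1 := by rw [← hfφ a b, h, map_one]
    have h2 : (α a : G) = 1 := hinj _ (α a).2 h1
    have h3 : a = 1 := by
      have h4 : α a = 1 := Subtype.ext h2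
      exact (EmbeddingLike.map_eq_one_iff).1 h4
    rw [hφ, h2, one_mul] at h
    have h4 : b = 1 := by
      have h5 : β b = 1 := Subtype.ext h
      exact (EmbeddingLike.map_eq_one_iff).1 h5
    rw [h3, h4]; rfl
  refine ⟨_, _, inferInstance, inferInstance, hfin1, hfin2, φ, ⟨hinjφ, ?_, ?_⟩, ?_, hcard1, hcard2, ?_, ?_⟩
  · intro a b ha g hg
    have h1 : f (α a : G) ≠ 1 := by
      intro h2
      apply ha
      have h4 : α a = 1 := Subtype.ext (hinj _ (α a).2 h2)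
      exact (EmbeddingLike.map_eq_one_iff).1 h4
    have h2 : f g * f (α a : G) = f (α a : G) * f g := by
      have h3 := congrArg f hg
      rwa [map_mul, map_mul, hfφ] at h3
    have h3 : f g ∈ T := by
      rw [← hcent _ (hfT _ (α a).2) h1, mem_centralizer_singleton_iff]
      exact h2
    obtain ⟨j, hj⟩ := hgen ⟨f g, h3⟩
    have h4 : f (a0 ^ j) = f g := by
      rw [map_pow, hfa0]
      exact congrArg Subtype.val hj
    have h5 : (a0 ^ j)⁻¹ * g ∈ M := by
      rw [← hk, MonoidHom.mem_ker, map_mul, map_inv, h4, inv_mul_cancel]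
    refine ⟨(α.symm ⟨a0 ^ j, npow_mem_zpowers a0 j⟩, β.symm ⟨(a0 ^ j)⁻¹ * g, h5⟩), ?_⟩
    rw [hφ, MulEquiv.apply_symm_apply, MulEquiv.apply_symm_apply]
    exact mul_inv_cancel_left _ _
  · rw [Group.isCyclic_prod_iff]
    refine ⟨isCyclic_of_surjective α.symm α.symm.surjective, isCyclic_of_surjective β.symm β.symm.surjective, ?_⟩
    rw [hcard1, hcard2]
    exact hcop
  · intro b g
    rw [hφ, map_one]
    show g * (1 * (β b : G)) = 1 * (β b : G) * g
    rw [one_mul]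
    exact mem_center_iff.1 (hM (β b).2) g
  · intro b
    rw [hφ, map_one]
    show 1 * (β b : G) ∈ M
    rw [one_mul]
    exact (β b).2
  · intro m hm
    refine ⟨β.symm ⟨m, hm⟩, ?_⟩
    rw [hφ, map_one, MulEquiv.apply_symm_apply]
    exact one_mul m

/-- the degree condition in terms of `φ` -/
theorem deg_conv [Finite G] {M : Subgroup G} {f : G →* S} (hf : Function.Surjective f)
    (hk : f.ker = M) {A B : Type} [CommGroup A] [CommGroup B] {φ : A × B →* G} (hφM : ∀ b, φ (1, b) ∈ M)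
    (h : ∀ χ : IrrCharacter G, ¬ M ≤ chKer χ → ∃ d : ℕ, NDeg S d ∧ charDegree (χ : G → ℂ) = Nat.card M * d)
    (χ : IrrCharacter G) (hχ : ∃ b, (χ : G → ℂ) (φ (1, b)) ≠ (χ : G → ℂ) 1) :
    ∃ ψ : IrrCharacter G, (∀ b, (ψ : G → ℂ) (φ (1, b)) = (ψ : G → ℂ) 1) ∧
      (χ : G → ℂ) 1 = Nat.card M * (ψ : G → ℂ) 1 := by
  obtain ⟨b0, hb0⟩ := hχ
  obtain ⟨d, ⟨θ, -, hθ⟩, hd⟩ := h χ fun hle => hb0 (hle (hφM b0))
  refine ⟨⟨fun g => (θ : S → ℂ) (f g), isIrr_comp f hf θ.2⟩, fun b => ?_, ?_⟩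
  · show (θ : S → ℂ) (f (φ (1, b))) = (θ : S → ℂ) (f 1)
    have h1 : f (φ (1, b)) = 1 := by rw [← MonoidHom.mem_ker, hk]; exact hφM b
    rw [h1, map_one]
  · show (χ : G → ℂ) 1 = Nat.card M * (θ : S → ℂ) (f 1)
    rw [map_one, ← charDegree_irr χ, ← charDegree_irr θ, hd, hθ]
    push_cast
    ring

/-- **Central extensions, `|N : T| = ℓ ^ 2`.** -/
theorem central_sq [Finite G] (M : Subgroup G) (hM : M ≤ center G) (f : G →* S)
    (hf : Function.Surjective f) (hk : f.ker = M) (T : Subgroup S) (hcyc : IsCyclic T)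
    (hcent : ∀ y ∈ T, y ≠ 1 → centralizer {y} = T) (hcop : Nat.Coprime (Nat.card T) (Nat.card M))
    {ℓ c : ℕ} (hℓ : Nat.card M = ℓ) (hℓp : ℓ.Prime) (hc : Nat.card S = c * Nat.card T)
    (hcm : c ≡ ℓ ^ 2 [MOD Nat.card T]) (ht : 4 * (ℓ ^ 2) ^ 2 < Nat.card T)
    (h : ∀ χ : IrrCharacter G, ¬ M ≤ chKer χ → ∃ d : ℕ, NDeg S d ∧ charDegree (χ : G → ℂ) = Nat.card M * d) :
    False := by
  classical
  have : Fact ℓ.Prime := ⟨hℓp⟩
  have hMc : IsCyclic M := isCyclic_of_prime_card hℓ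
  obtain ⟨A, B, _, _, _, _, φ, hT, hB, hA1, hB1, hφM, hφM'⟩ := exists_tor M hM hMc f hf hk T hcyc hcent hcop
  have := Fintype.ofFinite G
  have := Fintype.ofFinite A
  have := Fintype.ofFinite B
  have := Fintype.ofFinite (A →* ℂˣ)
  obtain ⟨e, he⟩ := exists_e hT
  have hG : Nat.card G = c * (Nat.card A * Nat.card B) := by
    have h1 := Subgroup.card_eq_card_quotient_mul_card_subgroup f.ker
    rw [Nat.card_congr (QuotientGroup.quotientKerEquivOfSurjective f hf).toEquiv, hk, hc] at h1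
    rw [h1, hA1, hB1, mul_assoc]
  have hcnt := count hT (by rw [hA1, hB1]; exact hcop) he hG
  have h1ℓ := hℓp.one_lt
  have h2ℓ : ℓ ^ 2 < Nat.card T := by
    have : ℓ ^ 2 ≤ (ℓ ^ 2) ^ 2 := Nat.le_self_pow (by norm_num) _
    omega
  have hlt := e_lt hT he (by rw [hA1]; nlinarith)
  have he2 : e = ℓ ^ 2 := by
    rw [hA1] at hcnt hlt
    have h3 : e ≡ ℓ ^ 2 [MOD Nat.card T] := hcnt.symm.trans hcm
    exact Nat.ModEq.eq_of_lt_of_lt h3 hlt h2ℓ
  obtain ⟨m, hm⟩ : ∃ m : M, m ≠ 1 := by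
    have : Nontrivial M := by rw [← Finite.one_lt_card_iff_nontrivial, hℓ]; exact h1ℓ
    exact exists_ne 1
  obtain ⟨b0, hb0⟩ := hφM' m m.2
  have hb01 : b0 ≠ 1 := by
    rintro rfl
    apply hm
    have h3 : φ (1, 1) = 1 := map_one φ
    rw [h3] at hb0
    exact Subtype.ext hb0.symm
  refine false_of_sq hT hB he he2 h1ℓ (by rw [hA1, he2]; exact ht) ?_ hb01 fun χ hχ => ?_
  · rw [hA1, he2]
    have h4 : ℓ * ℓ ^ 2 ≤ (ℓ ^ 2) ^ 2 := by
      have : ℓ * ℓ ^ 2 * 1 ≤ ℓ * ℓ ^ 2 * ℓ := Nat.mul_le_mul_left _ h1ℓ.le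
      calc ℓ * ℓ ^ 2 = ℓ * ℓ ^ 2 * 1 := (mul_one _).symm
        _ ≤ _ := this
        _ = _ := by ring
    have h5 : ℓ ^ 2 ≤ (ℓ ^ 2) ^ 2 := Nat.le_self_pow (by norm_num) _
    omega
  · have h3 := deg_conv hf hk hφM h χ hχ
    rw [hℓ] at h3
    exact h3

/-- **Central extensions, `ℓ = 2`, `|T| = 13`, `|N : T| = 12`.** -/
theorem central_trans [Finite G] (M : Subgroup G) (hM : M ≤ center G) (f : G →* S)
    (hf : Function.Surjective f) (hk : f.ker = M) (T : Subgroup S) (hcyc : IsCyclic T)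
    (hcent : ∀ y ∈ T, y ≠ 1 → centralizer {y} = T) (hT13 : Nat.card T = 13) (hℓ : Nat.card M = 2) {c : ℕ}
    (hc : Nat.card S = c * 13) (hcm : c % 13 = 12)
    (h : ∀ χ : IrrCharacter G, ¬ M ≤ chKer χ → ∃ d : ℕ, NDeg S d ∧ charDegree (χ : G → ℂ) = Nat.card M * d) :
    False := by
  classical
  have : Fact (Nat.Prime 2) := ⟨Nat.prime_two⟩
  have hMc : IsCyclic M := isCyclic_of_prime_card hℓ
  have hcop : Nat.Coprime (Nat.card T) (Nat.card M) := by rw [hT13, hℓ]; norm_num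
  obtain ⟨A, B, _, _, _, _, φ, hT, hB, hA1, hB1, hφM, hφM'⟩ := exists_tor M hM hMc f hf hk T hcyc hcent hcop
  have := Fintype.ofFinite G
  have := Fintype.ofFinite A
  have := Fintype.ofFinite B
  have := Fintype.ofFinite (A →* ℂˣ)
  obtain ⟨e, he⟩ := exists_e hT
  have hG : Nat.card G = c * (Nat.card A * Nat.card B) := by
    have h1 := Subgroup.card_eq_card_quotient_mul_card_subgroup f.ker
    rw [Nat.card_congr (QuotientGroup.quotientKerEquivOfSurjective f hf).toEquiv, hk, hc] at h1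
    rw [h1, hA1, hB1, hT13, mul_assoc]
  have hcnt := count hT (by rw [hA1, hB1]; exact hcop) he hG
  have hA13 : Nat.card A = 13 := hA1.trans hT13
  have hlt := e_lt hT he (by rw [hA13]; norm_num)
  have he2 : e = 12 := by
    rw [hA13] at hcnt hlt
    unfold Nat.ModEq at hcnt
    omega
  obtain ⟨m, hm⟩ : ∃ m : M, m ≠ 1 := by
    have : Nontrivial M := by rw [← Finite.one_lt_card_iff_nontrivial, hℓ]; norm_num
    exact exists_ne 1
  obtain ⟨b0, hb0⟩ := hφM' m m.2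
  have hb01 : b0 ≠ 1 := by
    rintro rfl
    apply hm
    have h3 : φ (1, 1) = 1 := map_one φ
    rw [h3] at hb0
    exact Subtype.ext hb0.symm
  refine false_of_trans hT hB he hA13 he2 hb01 fun χ hχ => ?_
  have h3 := deg_conv hf hk hφM h χ hχ
  rw [hℓ] at h3
  exact_mod_cast h3

end Cfsg.Agent.H417.TorLift
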