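import Cfsg.Agent.H417.TorCol
import Cfsg.Agent.H417.TorInt

/-!
# Self-centralizing cyclic tori with central second factor: the character relations (helper417)

* `col_self`, `col_ne` : the column relations
* `delta` : nearly constant multiplicities
* `index_mod`, `count` : `|G| / |T| ≡ |N : T|` modulo `|A|`
-/

set_option autoImplicit false
set_option linter.unusedSectionVars false

namespace Cfsg.Agent.H417.TorMain

open Cfsg Finset Cfsg.Agent.Characters.Core Cfsg.Agent.Characters.Linear Cfsg.Agent.H417.TorDual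
  Cfsg.Agent.H417.TorRow Cfsg.Agent.H417.TorCol Cfsg.Agent.H417.TorInt
open scoped ComplexConjugate Classical BigOperators

universe u v w

variable {G : Type u} [Group G] {A : Type v} {B : Type w} [CommGroup A] [CommGroup B]
variable {φ : A × B →* G} [Fintype G] [Fintype A] [Fintype B]

/-- the central character -/
theorem exists_cen (hB : CenB φ) {χ : G → ℂ} (hχ : IsIrrCharacter G χ) :
    ∃ μ0 : B →* ℂˣ, (∀ b, χ (φ (1, b)) = χ 1 * ((μ0 b : ℂˣ) : ℂ)) ∧ ∀ θ μ, μ ≠ μ0 → mul φ χ θ μ = 0 := by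
  obtain ⟨c, hc, -⟩ := Cfsg.Agent.CharactersDeep.Extraspecial.exists_central_hom hχ
  let i : B →* Subgroup.center G :=
    { toFun := fun b => ⟨φ (1, b), Subgroup.mem_center_iff.2 fun g => hB b g⟩
      map_one' := Subtype.ext (by simp [show ((1 : A), (1 : B)) = 1 from rfl])
      map_mul' := fun b b' => Subtype.ext (by
        show φ (1, b * b') = φ (1, b) * φ (1, b')
        rw [← map_mul]; simp) }
  refine ⟨c.comp i, fun b => ?_, fun θ μ hμ => ?_⟩
  · have := hc 1 (i b)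
    rw [one_mul] at this
    exact this
  · have h1 : ((mul φ χ θ μ : ℤ) : ℂ) = 0 := by
      rw [← mul_spec (isIrr_isCharacter hχ), hat_def, Fintype.sum_prod_type]
      have h2 : ∀ a, ∑ b, χ (φ (a, b)) * (((θ.coprod μ) (a, b)⁻¹ : ℂˣ) : ℂ) = 0 := by
        intro a
        have h3 : ∀ b, χ (φ (a, b)) * (((θ.coprod μ) (a, b)⁻¹ : ℂˣ) : ℂ) =
            (χ (φ (a, 1)) * ((θ a⁻¹ : ℂˣ) : ℂ)) * ((((c.comp i) b : ℂˣ) : ℂ) * conj ((μ b : ℂˣ) : ℂ)) := by
          intro b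
          have h4 : φ (a, b) = φ (a, 1) * (i b : G) := by
            show φ (a, b) = φ (a, 1) * φ (1, b)
            rw [← map_mul]; simp
          rw [h4, hc, conj_apply, MonoidHom.coprod_apply, Units.val_mul]
          show χ (φ (a, 1)) * ((c (i b) : ℂˣ) : ℂ) * (((θ a⁻¹ : ℂˣ) : ℂ) * ((μ b⁻¹ : ℂˣ) : ℂ)) =
            (χ (φ (a, 1)) * ((θ a⁻¹ : ℂˣ) : ℂ)) * (((c (i b) : ℂˣ) : ℂ) * ((μ b⁻¹ : ℂˣ) : ℂ))
          ring
        rw [Finset.sum_congr rfl fun b _ => h3 b, ← Finset.mul_sum, sum_mul_conj, if_neg (Ne.symm hμ), mul_zero]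
      rw [Finset.sum_congr rfl fun a _ => h2 a, Finset.sum_const_zero, mul_zero]
    exact_mod_cast h1

/-- the difference of multiplicities -/
noncomputable def dif (φ : A × B →* G) (χ : G → ℂ) (θ : A →* ℂˣ) (μ : B →* ℂˣ) : ℤ := mul φ χ θ μ - mul φ χ 1 μ

/-- the test function -/
noncomputable def tst (θ : A →* ℂˣ) (μ : B →* ℂˣ) (y : A × B) : ℂ :=
  (((θ y.1 : ℂˣ) : ℂ) - 1) * ((μ y.2 : ℂˣ) : ℂ)

theorem sum_tst {χ : G → ℂ} (hχ : IsCharacter G χ) (θ : A →* ℂˣ) (μ : B →* ℂˣ) :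
    ∑ y, χ (φ y) * conj (tst θ μ y) = ((Nat.card A * Nat.card B : ℕ) : ℂ) * (dif φ χ θ μ : ℂ) := by
  have h0 : ((Nat.card (A × B) : ℕ) : ℂ) ≠ 0 := card_ne_zero_complex
  rw [dif, Int.cast_sub, ← mul_spec hχ, ← mul_spec hχ, hat_def, hat_def, ← mul_sub, ← Nat.card_prod,
    mul_inv_cancel_left₀ h0, ← Finset.sum_sub_distrib]
  refine Finset.sum_congr rfl fun y _ => ?_
  rw [tst, map_mul, map_sub, map_one, conj_apply, conj_apply, MonoidHom.coprod_apply, MonoidHom.coprod_apply,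
    Units.val_mul, Units.val_mul, MonoidHom.one_apply, Units.val_one]
  simp only [Prod.fst_inv, Prod.snd_inv]
  ring

theorem tst_pow (hT : Tor φ) (hB : CenB φ) {x : G} (hx : x ∈ NT φ) (θ : A →* ℂˣ) (μ : B →* ℂˣ) (y : A × B) :
    tst θ μ (y ^ kap φ x) = tst (θ ^ kap φ x) μ y := by
  rw [tst, tst, Prod.pow_fst, Prod.pow_snd, kap_snd hT hB hx, map_pow, MonoidHom.pow_apply]

theorem sum_tst_tst {θ' η : A →* ℂˣ} (h1 : θ' ≠ 1) (h2 : η ≠ 1) (μ : B →* ℂˣ) :
    ∑ y, tst θ' μ y * conj (tst η μ y) =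
      ((Nat.card A * Nat.card B : ℕ) : ℂ) * ((if η = θ' then 1 else 0) + 1) := by
  rw [Fintype.sum_prod_type]
  have h3 : ∀ a, ∑ b, tst θ' μ (a, b) * conj (tst η μ (a, b)) =
      (Nat.card B : ℂ) * (((θ' a : ℂˣ) : ℂ) * conj ((η a : ℂˣ) : ℂ) - ((θ' a : ℂˣ) : ℂ) - ((η a⁻¹ : ℂˣ) : ℂ) + 1) := by
    intro a
    have h4 : ∀ b, tst θ' μ (a, b) * conj (tst η μ (a, b)) =
        (((θ' a : ℂˣ) : ℂ) * conj ((η a : ℂˣ) : ℂ) - ((θ' a : ℂˣ) : ℂ) - ((η a⁻¹ : ℂˣ) : ℂ) + 1) *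
          (((μ b : ℂˣ) : ℂ) * conj ((μ b : ℂˣ) : ℂ)) := by
      intro b
      rw [tst, tst, map_mul, map_sub, map_one, ← conj_apply]
      ring
    rw [Finset.sum_congr rfl fun b _ => h4 b, ← Finset.mul_sum, sum_mul_conj, if_pos rfl, mul_comm]
  rw [Finset.sum_congr rfl fun a _ => h3 a, ← Finset.mul_sum]
  have h5 : ∑ a, (((θ' a : ℂˣ) : ℂ) * conj ((η a : ℂˣ) : ℂ) - ((θ' a : ℂˣ) : ℂ) - ((η a⁻¹ : ℂˣ) : ℂ) + 1) =
      (Nat.card A : ℂ) * ((if η = θ' then 1 else 0) + 1) := by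
    rw [Finset.sum_add_distrib, Finset.sum_sub_distrib, Finset.sum_sub_distrib, sum_mul_conj, TorDual.sum_apply, if_neg h1]
    have h6 : ∑ a, ((η a⁻¹ : ℂˣ) : ℂ) = 0 := by
      rw [← Equiv.sum_comp (Equiv.inv A)]
      simp only [Equiv.inv_apply, inv_inv]
      rw [TorDual.sum_apply, if_neg h2]
    rw [h6, Finset.sum_const, Finset.card_univ, nsmul_eq_mul, mul_one, Nat.card_eq_fintype_card]
    by_cases h : η = θ'
    · rw [if_pos h.symm, if_pos h]; ring
    · rw [if_neg (Ne.symm h), if_neg h]; ring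
  rw [h5]
  push_cast
  ring

theorem theta_pow_ne (hT : Tor φ) {x : G} (hx : x ∈ NT φ) {θ : A →* ℂˣ} (hθ : θ ≠ 1) : θ ^ kap φ x ≠ 1 := by
  intro h
  refine hθ (theta_inj hT hx ?_)
  rw [h]
  ext a
  rw [MonoidHom.pow_apply, MonoidHom.one_apply, one_pow]

theorem col (hT : Tor φ) (hB : CenB φ) [Fintype (IrrCharacter G)] {θ θ' : A →* ℂˣ} (hθ : θ ≠ 1) (hθ' : θ' ≠ 1)
    (μ : B →* ℂˣ) :
    ((Nat.card A * Nat.card B : ℕ) : ℤ) * ∑ χ : IrrCharacter G, dif φ χ θ μ * dif φ χ θ' μ =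
      Nat.card (NT φ) + ((nset φ).filter fun x => θ ^ kap φ x = θ').card := by
  have h1 := hT.col_sum (tst θ μ) (tst θ' μ) (fun y hy => by rw [tst, hy]; simp) (fun y hy => by rw [tst, hy]; simp)
  have h2 : ∀ χ : IrrCharacter G, (∑ y, (χ : G → ℂ) (φ y) * conj (tst θ μ y)) *
      conj (∑ y, (χ : G → ℂ) (φ y) * conj (tst θ' μ y)) =
      ((Nat.card A * Nat.card B : ℕ) : ℂ) ^ 2 * ((dif φ χ θ μ * dif φ χ θ' μ : ℤ) : ℂ) := by
    intro χ
    have hχ := isIrr_isCharacter χ.2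
    rw [sum_tst hχ, sum_tst hχ, map_mul]
    have h3 : conj ((dif φ χ θ' μ : ℤ) : ℂ) = ((dif φ χ θ' μ : ℤ) : ℂ) := map_intCast _ _
    have h4 : conj ((Nat.card A * Nat.card B : ℕ) : ℂ) = ((Nat.card A * Nat.card B : ℕ) : ℂ) := map_natCast _ _
    rw [h3, h4]
    push_cast
    ring
  rw [Finset.sum_congr rfl fun χ _ => h2 χ, ← Finset.mul_sum] at h1
  have h3 : ∑ x ∈ univ.filter (fun x => x ∈ NT φ), ∑ y, tst θ' μ y * conj (tst θ μ (y ^ kap φ x)) =
      ∑ x ∈ nset φ, ((Nat.card A * Nat.card B : ℕ) : ℂ) * ((if θ ^ kap φ x = θ' then 1 else 0) + 1) := by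
    refine Finset.sum_congr rfl fun x hx => ?_
    have hx' : x ∈ NT φ := (Finset.mem_filter.1 hx).2
    rw [Finset.sum_congr rfl fun y _ => by rw [tst_pow hT hB hx']]
    exact sum_tst_tst hθ' (theta_pow_ne hT hx' hθ) μ
  rw [h3, ← Finset.mul_sum, Finset.sum_add_distrib, Finset.sum_boole, Finset.sum_const, card_nset, nsmul_eq_mul,
    mul_one, sq, mul_assoc] at h1
  have h0 : ((Nat.card A * Nat.card B : ℕ) : ℂ) ≠ 0 := by
    rw [← Nat.card_prod]; exact card_ne_zero_complex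
  have h4 := mul_left_cancel₀ h0 h1
  rw [add_comm] at h4
  exact_mod_cast h4

theorem col_self (hT : Tor φ) (hB : CenB φ) [Fintype (IrrCharacter G)] {e : ℕ}
    (he : Nat.card (NT φ) = e * (Nat.card A * Nat.card B)) {θ : A →* ℂˣ} (hθ : θ ≠ 1) (μ : B →* ℂˣ) :
    ∑ χ : IrrCharacter G, dif φ χ θ μ ^ 2 = e + 1 := by
  have h1 := col hT hB hθ hθ μ
  have h2 : ((nset φ).filter fun x => θ ^ kap φ x = θ).card = Nat.card A * Nat.card B := by
    refine le_antisymm (fiber_le hT hθ θ) ?_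
    have := le_fiber hT (θ := θ) (one_mem (NT φ))
    rwa [kap_range hT (one_mem _)] at this
  rw [h2, he] at h1
  have hAB : ((Nat.card A * Nat.card B : ℕ) : ℤ) ≠ 0 := by
    have : 0 < Nat.card A * Nat.card B := Nat.mul_pos Nat.card_pos Nat.card_pos
    exact_mod_cast this.ne'
  refine mul_left_cancel₀ hAB ?_
  simp only [sq]
  rw [h1]
  push_cast
  ring

theorem col_ne (hT : Tor φ) (hB : CenB φ) [Fintype (IrrCharacter G)] [Fintype (A →* ℂˣ)] {e : ℕ}
    (he : Nat.card (NT φ) = e * (Nat.card A * Nat.card B)) {θ θ' : A →* ℂˣ} (hθ : θ ≠ 1) (hθ' : θ' ≠ 1)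
    (h : θ' ∉ orb φ θ) (μ : B →* ℂˣ) :
    ∑ χ : IrrCharacter G, dif φ χ θ μ * dif φ χ θ' μ = e := by
  have h1 := col hT hB hθ hθ' μ
  have h2 : ((nset φ).filter fun x => θ ^ kap φ x = θ').card = 0 := by
    rw [Finset.card_eq_zero, Finset.filter_eq_empty_iff]
    intro x hx hx'
    exact h (mem_orb.2 ⟨x, mem_nset.1 hx, hx'⟩)
  rw [h2, he] at h1
  have hAB : ((Nat.card A * Nat.card B : ℕ) : ℤ) ≠ 0 := by
    have : 0 < Nat.card A * Nat.card B := Nat.mul_pos Nat.card_pos Nat.card_pos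
    exact_mod_cast this.ne'
  refine mul_left_cancel₀ hAB ?_
  rw [h1]
  push_cast
  ring

/-- the trivial character -/
theorem mul_one_char (θ : A →* ℂˣ) : mul φ (1 : G → ℂ) θ 1 = if θ = 1 then 1 else 0 := by
  have h0 : ((Nat.card (A × B) : ℕ) : ℂ) ≠ 0 := card_ne_zero_complex
  have h1 : ((mul φ (1 : G → ℂ) θ 1 : ℤ) : ℂ) = if θ = 1 then 1 else 0 := by
    rw [← mul_spec isCharacter_one, hat_def]
    have h2 : ∑ y : A × B, (1 : G → ℂ) (φ y) * (((θ.coprod 1) y⁻¹ : ℂˣ) : ℂ) =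
        ∑ y : A × B, (((θ.coprod (1 : B →* ℂˣ)) y : ℂˣ) : ℂ) := by
      rw [← Equiv.sum_comp (Equiv.inv (A × B))]
      refine Finset.sum_congr rfl fun y _ => ?_
      simp
    rw [h2, TorDual.sum_apply]
    by_cases h : θ = 1
    · rw [if_pos h, if_pos (by rw [h]; ext y; simp [MonoidHom.coprod_apply])]
      exact inv_mul_cancel₀ h0
    · rw [if_neg h, if_neg, mul_zero]
      intro h3
      apply h
      ext a
      have := DFunLike.congr_fun h3 (a, 1)
      rw [MonoidHom.coprod_apply] at this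
      simpa using congrArg Units.val this
  split_ifs with h
  · rw [if_pos h] at h1; exact_mod_cast h1
  · rw [if_neg h] at h1; exact_mod_cast h1

theorem dif_one_char {θ : A →* ℂˣ} (hθ : θ ≠ 1) : dif φ (1 : G → ℂ) θ 1 = -1 := by
  rw [dif, mul_one_char, mul_one_char, if_neg hθ, if_pos rfl]
  ring

variable [Fintype (A →* ℂˣ)]

/-- **Nearly constant multiplicities.** -/
theorem delta (hT : Tor φ) {e : ℕ} (he : Nat.card (NT φ) = e * (Nat.card A * Nat.card B))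
    {χ : G → ℂ} (hχ : IsIrrCharacter G χ) {μ0 : B →* ℂˣ} (hμ : ∀ θ μ, μ ≠ μ0 → mul φ χ θ μ = 0)
    (ht : 4 * e ^ 2 < Nat.card A) :
    ∃ k : ℤ, ∑ θ, (mul φ χ θ μ0 - k) ^ 2 ≤ e ∧
      χ 1 = ((k * Nat.card A + ∑ θ, (mul φ χ θ μ0 - k) : ℤ) : ℂ) := by
  have := Fintype.ofFinite (B →* ℂˣ)
  have hcard : Fintype.card (A →* ℂˣ) = Nat.card A := by
    rw [← Nat.card_eq_fintype_card]; exact CommGroup.card_monoidHom_of_hasEnoughRootsOfUnity A ℂ
  have h1 := hT.row hχ he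
  rw [Finset.sum_eq_single μ0 (fun μ _ h => by
      rw [Finset.sum_congr rfl fun θ _ => by rw [hμ θ μ h]]; simp) (fun h => absurd (Finset.mem_univ _) h),
    Finset.sum_eq_single μ0 (fun μ _ h => by
      rw [Finset.sum_congr rfl fun θ _ => hμ θ μ h]; simp) (fun h => absurd (Finset.mem_univ _) h)] at h1
  obtain ⟨k, hk⟩ := near (fun θ : A →* ℂˣ => mul φ χ θ μ0) e (Nat.card A) hcard h1 ht
  refine ⟨k, hk, ?_⟩
  rw [degree_eq (φ := φ) (isIrr_isCharacter hχ), Finset.sum_eq_single μ0 (fun μ _ h => by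
      rw [Finset.sum_congr rfl fun θ _ => hμ θ μ h]; simp) (fun h => absurd (Finset.mem_univ _) h)]
  congr 1
  rw [Finset.sum_sub_distrib, Finset.sum_const, Finset.card_univ, hcard]
  simp
  ring

/-! ### The index of the normalizer -/

theorem index_mod (hT : Tor φ) (hcop : Nat.Coprime (Nat.card A) (Nat.card B)) :
    Nat.card (G ⧸ NT φ) ≡ 1 [MOD Nat.card A] := by
  let _i : MulAction A (G ⧸ NT φ) := MulAction.compHom (G ⧸ NT φ) (φ.comp (MonoidHom.inl A B))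
  have hact : ∀ (a : A) (g : G), a • (g : G ⧸ NT φ) = ((φ (a, 1) * g : G) : G ⧸ NT φ) := fun a g => rfl
  refine card_mod ((1 : G) : G ⧸ NT φ) (fun a => ?_) fun a x ha hx => ?_
  · rw [hact, mul_one, eq_comm, QuotientGroup.eq, inv_one, one_mul]
    exact range_le φ ⟨_, rfl⟩
  · obtain ⟨g, rfl⟩ := QuotientGroup.mk_surjective x
    have ho : orderOf a ≠ 1 := fun h1 => ha (orderOf_eq_one_iff.1 h1)
    obtain ⟨r, hr, n, hn⟩ := Nat.exists_prime_and_dvd ho
    have : Fact r.Prime := ⟨hr⟩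
    set a' := a ^ n with ha'
    have hra : orderOf a' = r := by
      have hn0 : n ≠ 0 := by
        rintro rfl
        rw [mul_zero] at hn
        exact (orderOf_pos a).ne' hn
      rw [ha', orderOf_pow_of_dvd hn0 ⟨r, by rw [hn, mul_comm]⟩, hn]
      exact Nat.mul_div_cancel _ (Nat.pos_of_ne_zero hn0)
    have ha1 : a' ≠ 1 := by
      intro h; rw [h, orderOf_one] at hra; exact hr.one_lt.ne hra
    have hx' : a' • (g : G ⧸ NT φ) = g := by
      rw [ha']
      clear_value a'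
      clear hra ha1 ha'
      clear hn
      induction n with
      | zero => rw [pow_zero, one_smul]
      | succ n ih => rw [pow_succ, mul_smul, hx, ih]
    rw [hact, eq_comm, QuotientGroup.eq] at hx'
    -- `y = g⁻¹ φ(a') g ∈ N`
    set y := g⁻¹ * (φ (a', 1) * g) with hy
    have hyr : y ^ r = 1 := by
      have h1 : y ^ r = g⁻¹ * φ (a', 1) ^ r * g := by
        have h2 : y = g⁻¹ * φ (a', 1) * (g⁻¹)⁻¹ := by rw [hy]; group
        rw [h2, conj_pow, inv_inv]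
      rw [h1, ← map_pow]
      have h2 : ((a', 1) : A × B) ^ r = 1 := by
        rw [← hra]; ext <;> simp [pow_orderOf_eq_one]
      rw [h2, map_one]
      group
    have hyT : y ∈ φ.range := by
      -- the exponent of `y` is `1` modulo `r`
      have h1 : ∀ j : ℕ, y ^ j * φ (a', 1) * (y ^ j)⁻¹ = φ (a' ^ (kap φ y ^ j), 1) := by
        intro j
        induction j with
        | zero => simp
        | succ j ih =>
          have h2 : y ^ (j + 1) * φ (a', 1) * (y ^ (j + 1))⁻¹ = y * (y ^ j * φ (a', 1) * (y ^ j)⁻¹) * y⁻¹ := by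
            rw [pow_succ']; group
          rw [h2, ih, kap_fst hT hx', ← pow_mul, pow_succ]
      have h2 := h1 r
      rw [hyr, one_mul, inv_one, mul_one] at h2
      have h3 : a' = a' ^ (kap φ y ^ r) := congrArg Prod.fst (hT.inj h2)
      have h4 : a' ^ (kap φ y ^ r) = a' ^ kap φ y := by
        rw [pow_eq_pow_iff_modEq, hra, ← ZMod.natCast_eq_natCast_iff, Nat.cast_pow, ZMod.pow_card]
      rw [h4] at h3
      have h5 := kap_fst hT hx' a'
      rw [← h3] at h5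
      exact hT.cent a' 1 ha1 y (mul_inv_eq_iff_eq_mul.1 h5)
    obtain ⟨⟨c, b⟩, hcb⟩ := hyT
    have h6 : ((c, b) : A × B) ^ r = 1 := hT.inj (by rw [map_pow, hcb, hyr, map_one])
    have hb : b = 1 := by
      have h7 : b ^ r = 1 := congrArg Prod.snd h6
      have h8 : orderOf b ∣ r := orderOf_dvd_of_pow_eq_one h7
      rcases (Nat.dvd_prime hr).1 h8 with h9 | h9
      · exact orderOf_eq_one_iff.1 h9
      · exfalso
        have h10 : r ∣ Nat.card B := h9 ▸ orderOf_dvd_natCard b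
        have h11 : r ∣ Nat.card A := hra ▸ orderOf_dvd_natCard a'
        have h12 := Nat.dvd_gcd h11 h10
        rw [hcop] at h12
        exact hr.one_lt.ne' (Nat.dvd_one.1 h12)
    have h7 : g ∈ NT φ := by
      refine hT.mem_NT (a := a') (b := 1) (a' := c) (b' := b) ha1 ?_
      rw [hcb, hy]
      group
    rw [QuotientGroup.eq, mul_one]
    exact inv_mem h7

theorem count (hT : Tor φ) (hcop : Nat.Coprime (Nat.card A) (Nat.card B)) {e c : ℕ}
    (he : Nat.card (NT φ) = e * (Nat.card A * Nat.card B)) (hc : Nat.card G = c * (Nat.card A * Nat.card B)) :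
    c ≡ e [MOD Nat.card A] := by
  have h1 := index_mod hT hcop
  have h2 := Subgroup.card_eq_card_quotient_mul_card_subgroup (NT φ)
  rw [he, hc] at h2
  have h3 : c = Nat.card (G ⧸ NT φ) * e := by
    refine Nat.eq_of_mul_eq_mul_right (Nat.mul_pos (Nat.card_pos (α := A)) (Nat.card_pos (α := B))) ?_
    rw [h2, mul_assoc]
  rw [h3]
  simpa using h1.mul_right e

theorem exists_e (hT : Tor φ) : ∃ e : ℕ, Nat.card (NT φ) = e * (Nat.card A * Nat.card B) := by
  have h1 : Nat.card φ.range = Nat.card A * Nat.card B := by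
    rw [← Nat.card_prod]
    exact (Nat.card_congr (MonoidHom.ofInjective hT.inj).toEquiv).symm
  have h2 := Subgroup.card_dvd_of_le (range_le φ)
  rw [h1] at h2
  obtain ⟨e, he⟩ := h2
  exact ⟨e, by rw [he, mul_comm]⟩

end Cfsg.Agent.H417.TorMain
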