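import Cfsg.Agent.H417.TorDual
import Cfsg.Agent.S0145

/-!
# Self-centralizing cyclic tori: row and column relations (helper417)

`Tor φ` : `φ : A × B →* G` is injective, `A × B` is cyclic and every element of `G` commuting with some `φ (a, b)`,
`a ≠ 1`, lies in the range `T` of `φ`.  `N` is the normalizer of `T`.

* `mul φ χ θ μ` : the multiplicity of `θ × μ` in the restriction of `χ`;
* `row` : `|A| ∑ m² - ∑_μ (∑_θ m)² ≤ |N : T| |A|`;
* `col` : the column relation for two characters `θ, θ'` of `A` and a fixed `N`-invariant `μ`.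
-/

set_option autoImplicit false
set_option linter.unusedSectionVars false

namespace Cfsg.Agent.H417.TorRow

open Cfsg Finset Cfsg.Agent.Characters.Core Cfsg.Agent.Characters.Linear Cfsg.Agent.H417.TorDual
open scoped ComplexConjugate Classical BigOperators

universe u v w

variable {G : Type u} [Group G] {A : Type v} {B : Type w} [CommGroup A] [CommGroup B]

structure Tor (φ : A × B →* G) : Prop where
  inj : Function.Injective φ
  cent : ∀ a b, a ≠ 1 → ∀ g : G, g * φ (a, b) = φ (a, b) * g → g ∈ φ.range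
  cyc : IsCyclic (A × B)

/-- the normalizer of the torus -/
def NT (φ : A × B →* G) : Subgroup G := Subgroup.normalizer (φ.range : Set G)

theorem range_le (φ : A × B →* G) : φ.range ≤ NT φ := Subgroup.le_normalizer

variable {φ : A × B →* G}

theorem Tor.mem_NT (h : Tor φ) [Finite G] {a a' : A} {b b' : B} (ha : a ≠ 1) {g : G}
    (hg : g * φ (a', b') * g⁻¹ = φ (a, b)) : g ∈ NT φ := by
  have key : ∀ t ∈ φ.range, g * t * g⁻¹ ∈ φ.range := by
    rintro _ ⟨y, rfl⟩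
    apply h.cent a b ha
    have h1 : φ y * φ (a', b') = φ (a', b') * φ y := by rw [← map_mul, ← map_mul, mul_comm]
    calc g * φ y * g⁻¹ * φ (a, b) = g * (φ y * φ (a', b')) * g⁻¹ := by rw [← hg]; group
      _ = φ (a, b) * (g * φ y * g⁻¹) := by rw [h1, ← hg]; group
  set c : G →* G := (MulAut.conj g).toMonoidHom with hc
  have h2 : φ.range.map c ≤ φ.range := by
    rintro _ ⟨t, ht, rfl⟩
    exact key t ht
  have h3 : φ.range.map c = φ.range := by
    refine Subgroup.eq_of_le_of_card_ge h2 ?_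
    rw [Nat.card_congr (Subgroup.equivMapOfInjective φ.range c (MulAut.conj g).injective).symm.toEquiv]
  rw [NT, Subgroup.mem_normalizer_iff]
  intro t
  constructor
  · exact key t
  · intro ht
    have h4 : g * t * g⁻¹ ∈ φ.range.map c := by rw [h3]; exact ht
    obtain ⟨t', ht', h5⟩ := h4
    have h6 : g * t' * g⁻¹ = g * t * g⁻¹ := h5
    have h7 : t' = t := by simpa using h6
    rw [← h7]; exact ht'

theorem Tor.exists_pow (h : Tor φ) [Finite A] [Finite B] {g : G} (hg : g ∈ NT φ) :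
    ∃ k : ℕ, ∀ y, g * φ y * g⁻¹ = φ (y ^ k) := by
  obtain ⟨y0, hy0⟩ := h.cyc.exists_generator
  have h1 : g * φ y0 * g⁻¹ ∈ φ.range := (Subgroup.mem_normalizer_iff.1 hg _).1 ⟨y0, rfl⟩
  obtain ⟨y1, hy1⟩ := h1
  obtain ⟨k, hk⟩ := (mem_powers_iff_mem_zpowers.2 (hy0 y1))
  have hk' : y0 ^ k = y1 := hk
  refine ⟨k, fun y => ?_⟩
  obtain ⟨j, hj⟩ := (mem_powers_iff_mem_zpowers.2 (hy0 y))
  have hj' : y0 ^ j = y := hj
  rw [← hj', map_pow, ← conj_pow, ← hy1, ← hk', ← pow_mul, map_pow, map_pow, ← pow_mul, mul_comm]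

/-- the exponent of the action of a normalizing element -/
noncomputable def kap (φ : A × B →* G) (g : G) : ℕ :=
  if h : ∃ k : ℕ, ∀ y, g * φ y * g⁻¹ = φ (y ^ k) then h.choose else 0

theorem Tor.kap_spec (h : Tor φ) [Finite A] [Finite B] {g : G} (hg : g ∈ NT φ) (y : A × B) :
    g * φ y * g⁻¹ = φ (y ^ kap φ g) := by
  have h1 := h.exists_pow hg
  rw [kap, dif_pos h1]
  exact h1.choose_spec y

section Sums

variable [Fintype G] [Fintype A] [Fintype B]

/-- Column orthogonality, counting form. -/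
theorem irr_col [Fintype (IrrCharacter G)] (g h : G) :
    ∑ χ : IrrCharacter G, (χ : G → ℂ) g * conj ((χ : G → ℂ) h) =
      ∑ x : G, if x * h * x⁻¹ = g then (1 : ℂ) else 0 := by
  rw [Cfsg.Agent.S0145.sum_irr_mul_conj, Finset.sum_boole]
  split_ifs with hc
  · obtain ⟨c, hc⟩ := isConj_iff.1 hc
    congr 1
    have e : ↥(Subgroup.centralizer ({h} : Set G)) ≃ {x : G // x * h * x⁻¹ = g} :=
      { toFun := fun x => ⟨c⁻¹ * x, by
          obtain ⟨x, hx0⟩ := x
          have hx : x * h = h * x := Subgroup.mem_centralizer_singleton_iff.1 hx0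
          show c⁻¹ * x * h * (c⁻¹ * x)⁻¹ = g
          calc c⁻¹ * x * h * (c⁻¹ * x)⁻¹ = c⁻¹ * (x * h) * x⁻¹ * c := by group
            _ = c⁻¹ * h * c := by rw [hx]; group
            _ = g := by rw [← hc]; group⟩
        invFun := fun x => ⟨c * x, by
          obtain ⟨x, hx⟩ := x
          rw [Subgroup.mem_centralizer_singleton_iff]
          show c * x * h = h * (c * x)
          calc c * x * h = c * (x * h * x⁻¹) * x := by group
            _ = c * g * x := by rw [hx]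
            _ = (c * g * c⁻¹) * (c * x) := by group
            _ = h * (c * x) := by rw [hc]⟩
        left_inv := fun x => by simp
        right_inv := fun x => by simp }
    rw [Nat.card_congr e, Nat.card_eq_fintype_card, Fintype.card_subtype]
  · rw [Finset.card_eq_zero.2, Nat.cast_zero]
    rw [Finset.filter_eq_empty_iff]
    intro x _ hx
    exact hc (isConj_comm.1 (isConj_iff.2 ⟨x, hx⟩))

theorem Tor.col_sum (hT : Tor φ) [Fintype (IrrCharacter G)] (F F' : A × B → ℂ) (hF : ∀ y, y.1 = 1 → F y = 0)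
    (hF' : ∀ y, y.1 = 1 → F' y = 0) :
    ∑ χ : IrrCharacter G, (∑ y, (χ : G → ℂ) (φ y) * conj (F y)) * conj (∑ y, (χ : G → ℂ) (φ y) * conj (F' y)) =
      ∑ x ∈ univ.filter (fun x => x ∈ NT φ), ∑ y, F' y * conj (F (y ^ kap φ x)) := by
  have h1 : ∀ χ : IrrCharacter G,
      (∑ y, (χ : G → ℂ) (φ y) * conj (F y)) * conj (∑ y, (χ : G → ℂ) (φ y) * conj (F' y)) =
      ∑ y, ∑ y', (conj (F y) * F' y') * ((χ : G → ℂ) (φ y) * conj ((χ : G → ℂ) (φ y'))) := by
    intro χ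
    rw [map_sum, Finset.sum_mul_sum]
    refine Finset.sum_congr rfl fun y _ => Finset.sum_congr rfl fun y' _ => ?_
    rw [map_mul, Complex.conj_conj]; ring
  rw [Finset.sum_congr rfl fun χ _ => h1 χ, Finset.sum_comm]
  have h2 : ∀ y, ∑ χ : IrrCharacter G, ∑ y', (conj (F y) * F' y') * ((χ : G → ℂ) (φ y) * conj ((χ : G → ℂ) (φ y'))) =
      ∑ y', ∑ x : G, (conj (F y) * F' y') * (if x * φ y' * x⁻¹ = φ y then (1 : ℂ) else 0) := by
    intro y
    rw [Finset.sum_comm]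
    refine Finset.sum_congr rfl fun y' _ => ?_
    rw [← Finset.mul_sum, irr_col, ← Finset.mul_sum]
  rw [Finset.sum_congr rfl fun y _ => h2 y]
  have h3 : ∀ y, ∑ y', ∑ x : G, (conj (F y) * F' y') * (if x * φ y' * x⁻¹ = φ y then (1 : ℂ) else 0) =
      ∑ x : G, ∑ y', (conj (F y) * F' y') * (if x * φ y' * x⁻¹ = φ y then (1 : ℂ) else 0) := fun y => Finset.sum_comm
  rw [Finset.sum_congr rfl fun y _ => h3 y, Finset.sum_comm]
  rw [Finset.sum_filter]
  refine Finset.sum_congr rfl fun x _ => ?_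
  rw [Finset.sum_comm]
  split_ifs with hx
  · refine Finset.sum_congr rfl fun y' _ => ?_
    rw [Finset.sum_eq_single (y' ^ kap φ x)]
    · rw [if_pos (hT.kap_spec hx y'), mul_one, mul_comm]
    · intro y _ hy
      rw [if_neg, mul_zero]
      rw [hT.kap_spec hx]
      exact fun h => hy (hT.inj h).symm
    · intro h; exact absurd (Finset.mem_univ _) h
  · refine Finset.sum_eq_zero fun y' _ => Finset.sum_eq_zero fun y _ => ?_
    by_cases hy : y.1 = 1
    · rw [hF y hy]; simp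
    by_cases hy' : y'.1 = 1
    · rw [hF' y' hy']; simp
    rw [if_neg, mul_zero]
    intro h4
    exact hx (hT.mem_NT hy (a' := y'.1) (b' := y'.2) (b := y.2) h4)

/-! ### Multiplicities -/

/-- the multiplicity of `θ × μ` in the restriction of `χ` -/
noncomputable def mul (φ : A × B →* G) (χ : G → ℂ) (θ : A →* ℂˣ) (μ : B →* ℂˣ) : ℤ :=
  if h : ∃ n : ℕ, hat (fun y => χ (φ y)) (θ.coprod μ) = n then h.choose else 0

theorem mul_spec {χ : G → ℂ} (hχ : IsCharacter G χ) (θ : A →* ℂˣ) (μ : B →* ℂˣ) :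
    hat (fun y => χ (φ y)) (θ.coprod μ) = (mul φ χ θ μ : ℂ) := by
  have h : ∃ n : ℕ, hat (fun y => χ (φ y)) (θ.coprod μ) = n :=
    classInner_isNat (isCharacter_comp φ hχ) (isCharacter_hom (θ.coprod μ))
  rw [mul, dif_pos h]
  push_cast
  exact h.choose_spec

theorem Tor.bij (hT : Tor φ) {x : G} (hx : x ∈ NT φ) : Function.Bijective fun y : A × B => y ^ kap φ x := by
  rw [← Finite.injective_iff_bijective]
  intro y y' h
  have h1 : φ (y ^ kap φ x) = φ (y' ^ kap φ x) := congrArg φ h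
  rw [← hT.kap_spec hx, ← hT.kap_spec hx] at h1
  exact hT.inj (by simpa using h1)

theorem Tor.mul_pow (hT : Tor φ) {χ : G → ℂ} (hχ : IsCharacter G χ) {x : G} (hx : x ∈ NT φ) (θ : A →* ℂˣ)
    (μ : B →* ℂˣ) : mul φ χ (θ ^ kap φ x) (μ ^ kap φ x) = mul φ χ θ μ := by
  have h1 : ((mul φ χ (θ ^ kap φ x) (μ ^ kap φ x) : ℤ) : ℂ) = (mul φ χ θ μ : ℂ) := by
    rw [← mul_spec hχ, ← mul_spec hχ, hat_def, hat_def]
    congr 1
    symm
    rw [← (Equiv.ofBijective _ (hT.bij hx)).sum_comp]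
    refine Finset.sum_congr rfl fun y _ => ?_
    show χ (φ (y ^ kap φ x)) * _ = _
    rw [← hT.kap_spec hx, isCharacter_isClassFunction hχ]
    congr 2
    show (θ.coprod μ) ((y ^ kap φ x)⁻¹) = _
    simp [MonoidHom.coprod_apply]
  exact_mod_cast h1

variable [Fintype (A →* ℂˣ)] [Fintype (B →* ℂˣ)]

theorem apply_eq {χ : G → ℂ} (hχ : IsCharacter G χ) (y : A × B) :
    χ (φ y) = ∑ μ : B →* ℂˣ, ∑ θ : A →* ℂˣ, (mul φ χ θ μ : ℂ) * (((θ y.1 : ℂˣ) : ℂ) * ((μ y.2 : ℂˣ) : ℂ)) := by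
  have := Fintype.ofFinite (A × B →* ℂˣ)
  have h := inversion (fun y => χ (φ y)) y
  rw [sum_pairs] at h
  rw [h]
  refine Finset.sum_congr rfl fun μ _ => Finset.sum_congr rfl fun θ _ => ?_
  rw [mul_spec hχ, MonoidHom.coprod_apply, Units.val_mul]

theorem degree_eq {χ : G → ℂ} (hχ : IsCharacter G χ) :
    χ 1 = ((∑ μ : B →* ℂˣ, ∑ θ : A →* ℂˣ, mul φ χ θ μ : ℤ) : ℂ) := by
  have h := apply_eq (φ := φ) hχ 1
  rw [map_one] at h
  rw [h]
  push_cast
  refine Finset.sum_congr rfl fun μ _ => Finset.sum_congr rfl fun θ _ => ?_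
  simp

theorem sum_sq {χ : G → ℂ} (hχ : IsCharacter G χ) :
    ∑ y, χ (φ y) * conj (χ (φ y)) =
      (Nat.card A * Nat.card B : ℂ) * ∑ μ : B →* ℂˣ, ∑ θ : A →* ℂˣ, (mul φ χ θ μ : ℂ) ^ 2 := by
  have := Fintype.ofFinite (A × B →* ℂˣ)
  have h := parseval (fun y => χ (φ y)) (fun y => χ (φ y))
  rw [h, sum_pairs, Nat.card_prod]
  push_cast
  congr 1
  refine Finset.sum_congr rfl fun μ _ => Finset.sum_congr rfl fun θ _ => ?_
  rw [mul_spec hχ, sq]
  congr 1
  exact map_intCast _ _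

theorem sum_sq_one {χ : G → ℂ} (hχ : IsCharacter G χ) :
    ∑ b, χ (φ (1, b)) * conj (χ (φ (1, b))) =
      (Nat.card B : ℂ) * ∑ μ : B →* ℂˣ, (∑ θ : A →* ℂˣ, (mul φ χ θ μ : ℂ)) ^ 2 := by
  have h1 : ∀ b, χ (φ (1, b)) = ∑ μ : B →* ℂˣ, (∑ θ : A →* ℂˣ, (mul φ χ θ μ : ℂ)) * ((μ b : ℂˣ) : ℂ) := by
    intro b
    rw [apply_eq hχ]
    refine Finset.sum_congr rfl fun μ _ => ?_
    rw [Finset.sum_mul]
    refine Finset.sum_congr rfl fun θ _ => ?_
    simp
  rw [Finset.sum_congr rfl fun b _ => by rw [h1 b], parseval_sum]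
  congr 1
  refine Finset.sum_congr rfl fun μ _ => ?_
  rw [map_sum, sq]
  congr 1
  exact Finset.sum_congr rfl fun θ _ => map_intCast _ _

/-! ### The row bound -/

theorem Tor.card_fiber (hT : Tor φ) (g : G) :
    (univ.filter fun p : G × (A × B) => p.2.1 ≠ 1 ∧ p.1 * φ p.2 * p.1⁻¹ = g).card ≤ Nat.card (NT φ) := by
  rcases Finset.eq_empty_or_nonempty (univ.filter fun p : G × (A × B) => p.2.1 ≠ 1 ∧ p.1 * φ p.2 * p.1⁻¹ = g)
    with h0 | ⟨⟨x0, y0⟩, h0⟩
  · rw [h0, Finset.card_empty]; exact Nat.zero_le _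
  rw [Finset.mem_filter] at h0
  obtain ⟨-, h01, h02⟩ := h0
  have h02' : x0 * φ y0 * x0⁻¹ = g := h02
  have hc : Nat.card (NT φ) = (univ.filter fun x : G => x ∈ NT φ).card := by
    rw [Nat.card_eq_fintype_card, Fintype.card_subtype]
  rw [hc]
  refine Finset.card_le_card_of_injOn (fun p => p.1⁻¹ * x0) ?_ ?_
  · rintro ⟨x, y⟩ hp
    rw [Finset.mem_coe, Finset.mem_filter] at hp
    obtain ⟨-, hp1, hp2⟩ := hp
    have hp2' : x * φ y * x⁻¹ = g := hp2
    rw [Finset.mem_coe, Finset.mem_filter]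
    refine ⟨Finset.mem_univ _, ?_⟩
    refine hT.mem_NT (a := y.1) (b := y.2) (a' := y0.1) (b' := y0.2) hp1 ?_
    show x⁻¹ * x0 * φ y0 * (x⁻¹ * x0)⁻¹ = φ y
    calc x⁻¹ * x0 * φ y0 * (x⁻¹ * x0)⁻¹ = x⁻¹ * (x0 * φ y0 * x0⁻¹) * x := by group
      _ = x⁻¹ * (x * φ y * x⁻¹) * x := by rw [h02', hp2']
      _ = φ y := by group
  · rintro ⟨x, y⟩ hp ⟨x', y'⟩ hp' h
    rw [Finset.mem_coe, Finset.mem_filter] at hp hp'
    have hx : x = x' := by
      have h' : x⁻¹ * x0 = x'⁻¹ * x0 := h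
      simpa using h'
    subst hx
    have h3 : x * φ y * x⁻¹ = x * φ y' * x⁻¹ := hp.2.2.trans hp'.2.2.symm
    have h4 : φ y = φ y' := by simpa using h3
    rw [hT.inj h4]

theorem Tor.row_real (hT : Tor φ) {χ : G → ℂ} (hχ : IsIrrCharacter G χ) :
    ∑ y ∈ univ.filter (fun y : A × B => y.1 ≠ 1), Complex.normSq (χ (φ y)) ≤ (Nat.card (NT φ) : ℝ) := by
  have hG0 : (0 : ℝ) < Nat.card G := by exact_mod_cast Nat.card_pos
  have htot : ∑ g : G, Complex.normSq (χ g) = (Nat.card G : ℝ) := by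
    have h1 := classInner_irr_self hχ
    rw [classInner_def] at h1
    have h2 : ∑ g : G, χ g * conj (χ g) = (Nat.card G : ℂ) := by
      have h3 : (Nat.card G : ℂ) ≠ 0 := card_ne_zero_complex
      field_simp at h1
      exact h1
    have h3 : ((∑ g : G, Complex.normSq (χ g) : ℝ) : ℂ) = (Nat.card G : ℂ) := by
      rw [← h2]
      push_cast
      exact Finset.sum_congr rfl fun g _ => (Complex.mul_conj _).symm
    exact_mod_cast h3
  have hcl : ∀ x y, χ (x * φ y * x⁻¹) = χ (φ y) := fun x y => isIrr_isClassFunction hχ _ _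
  have key : (Nat.card G : ℝ) * ∑ y ∈ univ.filter (fun y : A × B => y.1 ≠ 1), Complex.normSq (χ (φ y)) ≤
      (Nat.card G : ℝ) * Nat.card (NT φ) := by
    have h1 : (Nat.card G : ℝ) * ∑ y ∈ univ.filter (fun y : A × B => y.1 ≠ 1), Complex.normSq (χ (φ y)) =
        ∑ p ∈ univ.filter (fun p : G × (A × B) => p.2.1 ≠ 1), Complex.normSq (χ (p.1 * φ p.2 * p.1⁻¹)) := by
      have hR : ∑ p ∈ univ.filter (fun p : G × (A × B) => p.2.1 ≠ 1), Complex.normSq (χ (p.1 * φ p.2 * p.1⁻¹)) =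
          ∑ x : G, ∑ y : A × B, if y.1 ≠ 1 then Complex.normSq (χ (x * φ y * x⁻¹)) else 0 := by
        rw [Finset.sum_filter, Fintype.sum_prod_type]
      rw [hR, Finset.sum_filter]
      simp only [hcl]
      rw [Finset.sum_const, Finset.card_univ, nsmul_eq_mul, Nat.card_eq_fintype_card]
    have h2 : ∑ p ∈ univ.filter (fun p : G × (A × B) => p.2.1 ≠ 1), Complex.normSq (χ (p.1 * φ p.2 * p.1⁻¹)) =
        ∑ g : G, ∑ p ∈ univ.filter (fun p : G × (A × B) => p.2.1 ≠ 1),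
          (if p.1 * φ p.2 * p.1⁻¹ = g then Complex.normSq (χ g) else 0) := by
      rw [Finset.sum_comm]
      refine Finset.sum_congr rfl fun p _ => ?_
      rw [Finset.sum_ite_eq Finset.univ, if_pos (Finset.mem_univ _)]
    rw [h1, h2, ← htot, Finset.sum_mul]
    refine Finset.sum_le_sum fun g _ => ?_
    rw [← Finset.sum_filter, Finset.sum_const, Finset.filter_filter, nsmul_eq_mul, mul_comm]
    refine mul_le_mul_of_nonneg_left ?_ (Complex.normSq_nonneg _)
    exact_mod_cast hT.card_fiber g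
  exact le_of_mul_le_mul_left key hG0

/-- **The row bound.** -/
theorem Tor.row (hT : Tor φ) {χ : G → ℂ} (hχ : IsIrrCharacter G χ) {e : ℕ}
    (he : Nat.card (NT φ) = e * (Nat.card A * Nat.card B)) :
    (Nat.card A : ℤ) * (∑ μ : B →* ℂˣ, ∑ θ : A →* ℂˣ, (mul φ χ θ μ) ^ 2) -
      ∑ μ : B →* ℂˣ, (∑ θ : A →* ℂˣ, mul φ χ θ μ) ^ 2 ≤ e * Nat.card A := by
  have hc := isIrr_isCharacter hχ
  have h1 := hT.row_real hχ
  have h2 : ((∑ y ∈ univ.filter (fun y : A × B => y.1 ≠ 1), Complex.normSq (χ (φ y)) : ℝ) : ℂ) =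
      (∑ y, χ (φ y) * conj (χ (φ y))) - ∑ b, χ (φ (1, b)) * conj (χ (φ (1, b))) := by
    have h3 : ∑ y, χ (φ y) * conj (χ (φ y)) = ∑ y ∈ univ.filter (fun y : A × B => y.1 ≠ 1), χ (φ y) * conj (χ (φ y)) +
        ∑ y ∈ univ.filter (fun y : A × B => ¬ y.1 ≠ 1), χ (φ y) * conj (χ (φ y)) :=
      (Finset.sum_filter_add_sum_filter_not _ _ _).symm
    have h4 : ∑ y ∈ univ.filter (fun y : A × B => ¬ y.1 ≠ 1), χ (φ y) * conj (χ (φ y)) =
        ∑ b, χ (φ (1, b)) * conj (χ (φ (1, b))) := by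
      symm
      refine Finset.sum_bij (fun b _ => ((1, b) : A × B)) (fun b _ => by simp) (fun b _ b' _ h => by simpa using h)
        (fun y hy => ?_) fun b _ => rfl
      rw [Finset.mem_filter] at hy
      exact ⟨y.2, Finset.mem_univ _, Prod.ext (not_not.1 hy.2).symm rfl⟩
    rw [h3, h4, add_sub_cancel_right]
    push_cast
    exact Finset.sum_congr rfl fun y _ => (Complex.mul_conj _).symm
  rw [sum_sq hc, sum_sq_one hc] at h2
  set S := ∑ μ : B →* ℂˣ, ∑ θ : A →* ℂˣ, (mul φ χ θ μ) ^ 2 with hS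
  set S' := ∑ μ : B →* ℂˣ, (∑ θ : A →* ℂˣ, mul φ χ θ μ) ^ 2 with hS'
  have h5 : ∑ y ∈ univ.filter (fun y : A × B => y.1 ≠ 1), Complex.normSq (χ (φ y)) =
      (Nat.card B : ℝ) * ((Nat.card A : ℝ) * (S : ℝ) - (S' : ℝ)) := by
    have h6 : ((∑ y ∈ univ.filter (fun y : A × B => y.1 ≠ 1), Complex.normSq (χ (φ y)) : ℝ) : ℂ) =
        (((Nat.card B : ℝ) * ((Nat.card A : ℝ) * (S : ℝ) - (S' : ℝ)) : ℝ) : ℂ) := by
      rw [h2, hS, hS']
      push_cast
      ring
    exact_mod_cast h6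
  rw [h5, he] at h1
  have hB : (0 : ℝ) < Nat.card B := by exact_mod_cast Nat.card_pos
  have h7 : (Nat.card B : ℝ) * ((Nat.card A : ℝ) * (S : ℝ) - (S' : ℝ)) ≤ (Nat.card B : ℝ) * (e * Nat.card A) := by
    refine h1.trans (le_of_eq ?_)
    push_cast
    ring
  have h8 := le_of_mul_le_mul_left h7 hB
  exact_mod_cast h8

end Sums

end Cfsg.Agent.H417.TorRow
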